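import Cfsg.Agent.Ree.Field.RAdic.Regular
import Cfsg.Agent.Ree.Twist.Steinberg
import Cfsg.Agent.Ree.Field.Basic

/-!
The Sylow 3-subgroups of `C_{E₀}(x)` and the ones of `E₀` normalized by `x`; the character of degree `q₁` of
`C_E(x)/⟨x⟩`.
-/

set_option autoImplicit false
set_option linter.unusedSectionVars false
set_option linter.style.haveILetI false

namespace Cfsg.Lib.Ree.Field.RAdic

open Cfsg Cfsg.Lib.Chars Subgroup
open scoped Pointwise

universe u v

section General

variable {X : Type u} [Group X] [Finite X] {F : Type v} [Field F] [Fintype F]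

/-- The Sylow subgroups in the defining characteristic: the normalizers and the trivial intersections. -/
theorem psl_ti (hodd : Odd (Fintype.card F)) (h5 : 5 ≤ Fintype.card F)
    (f : X ≃* Matrix.ProjectiveSpecialLinearGroup (Fin 2) F) {p n : ℕ} [Fact p.Prime]
    (hF : Fintype.card F = p ^ n) {z : X} (hz : orderOf z = 2) :
    (∀ P : Sylow p X, Nat.card (P : Subgroup X) = Fintype.card F) ∧
      (∀ P Q : Sylow p X, ∀ w : X, w ∈ P → w ∈ Q → w ≠ 1 → P = Q) ∧
      ∀ P : Sylow p X, 2 * Nat.card (normalizer ((P : Subgroup X) : Set X)) =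
        Fintype.card F * (Fintype.card F - 1) := by
  classical
  letI := Fintype.ofFinite X
  obtain ⟨hcard, htr⟩ := Twist.psl_points hodd h5 f hF hz
  set q := Fintype.card F with hq
  have h2X : 2 * Nat.card X = q * (q * q - 1) := by
    rw [Nat.card_congr f.toEquiv]
    exact (PSL.involution_centralizer hodd (show orderOf (f z) = 2 by rw [f.orderOf_eq, hz])).1
  have hN : ∀ P : Sylow p X, 2 * Nat.card (normalizer ((P : Subgroup X) : Set X)) = q * (q - 1) := by
    intro P
    have h := (normalizer ((P : Subgroup X) : Set X)).index_mul_card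
    rw [show (normalizer ((P : Subgroup X) : Set X)).index = Nat.card (Sylow p X) from
      P.card_eq_index_normalizer.symm, hcard] at h
    refine Nat.eq_of_mul_eq_mul_left (Nat.succ_pos q) ?_
    have h1 : q * q - 1 = (q + 1) * (q - 1) := Nat.mul_self_sub_mul_self_eq q 1
    calc (q + 1) * (2 * Nat.card (normalizer ((P : Subgroup X) : Set X))) = 2 * Nat.card X := by rw [← h]; ring
      _ = (q + 1) * (q * (q - 1)) := by rw [h2X, h1]; ring
  have hn0 : n ≠ 0 := by rintro rfl; rw [pow_zero] at hF; omega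
  have hpp : p.Prime := Fact.out
  have hP : ∀ P : Sylow p X, Nat.card (P : Subgroup X) = q := by
    intro P
    obtain ⟨i, hi⟩ := IsPGroup.iff_card.1 P.isPGroup'
    have hdvd : q ∣ Nat.card X := by
      have h := (normalizer ((P : Subgroup X) : Set X)).index_mul_card
      rw [show (normalizer ((P : Subgroup X) : Set X)).index = Nat.card (Sylow p X) from
      P.card_eq_index_normalizer.symm, hcard] at h
      have h2 : q ∣ 2 * Nat.card X := h2X ▸ dvd_mul_right _ _
      exact (Nat.Coprime.dvd_of_dvd_mul_left (Nat.coprime_two_right.2 hodd) h2)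
    refine Nat.dvd_antisymm ?_ (by rw [hF] at hdvd ⊢; exact P.pow_dvd_card_of_pow_dvd_card hdvd)
    have hd : Nat.card (P : Subgroup X) ∣ q * (q - 1) := by
      rw [← hN P]
      exact (card_dvd_of_le le_normalizer).trans (dvd_mul_left _ _)
    have hcop : Nat.Coprime (Nat.card (P : Subgroup X)) (q - 1) := by
      rw [hi]
      refine (hpp.coprime_iff_not_dvd.2 fun h => ?_).pow_left i
      have h1 : p ∣ q := hF ▸ dvd_pow_self p hn0
      have := Nat.dvd_sub h1 h
      rw [Nat.sub_sub_self (by omega)] at this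
      exact hpp.not_dvd_one this
    exact hcop.dvd_of_dvd_mul_right hd
  refine ⟨hP, fun P Q w hwP hwQ hw => ?_, hN⟩
  by_contra hne
  letI := Fintype.ofFinite {R : Sylow p X // R ≠ P}
  letI := Fintype.ofFinite (P : Subgroup X)
  let g : ↥(P : Subgroup X) → {R : Sylow p X // R ≠ P} := fun y => ⟨(y : X) • Q, fun e => hne (by
    have hfix : (y : X) • P = P := Sylow.smul_eq_iff_mem_normalizer.2 (le_normalizer y.2)
    exact (smul_left_cancel _ (e.trans hfix.symm)).symm)⟩
  have hg : Function.Bijective g := (Fintype.bijective_iff_surjective_and_card g).2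
    ⟨fun R => by
      obtain ⟨y, hy, he⟩ := htr P Q R (Ne.symm hne) R.2
      exact ⟨⟨y, hy⟩, Subtype.ext he⟩, by
      rw [← Nat.card_eq_fintype_card, ← Nat.card_eq_fintype_card, hP]
      letI := Fintype.ofFinite (Sylow p X)
      rw [Nat.card_eq_fintype_card (α := {R : Sylow p X // R ≠ P}), Fintype.card_subtype_compl,
        Fintype.card_subtype_eq, ← Nat.card_eq_fintype_card, hcard, Nat.add_sub_cancel]⟩
  refine hw (congrArg Subtype.val (hg.1 (a₁ := ⟨w, hwP⟩) (a₂ := 1) (Subtype.ext ?_)) : w = ((1 : (P : Subgroup X)) : X))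
  show w • Q = ((1 : (P : Subgroup X)) : X) • Q
  rw [OneMemClass.coe_one, one_smul]
  exact Sylow.smul_eq_iff_mem_normalizer.2 (le_normalizer hwQ)

end General

variable {G : Type u} [Group G] [Fintype G]

/-- The conjugation on a normalized subgroup. -/
def conjOn (C : Subgroup G) (H : Subgroup G) (hn : ∀ h ∈ H, ∀ c ∈ C, h * c * h⁻¹ ∈ C) : H →* MulAut C where
  toFun h :=
    { toFun := fun c => ⟨h * c * (h : G)⁻¹, hn h h.2 c c.2⟩
      invFun := fun c => ⟨(h : G)⁻¹ * c * h, by simpa using hn _ (inv_mem h.2) c c.2⟩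
      left_inv := fun c => Subtype.ext (by simp [mul_assoc])
      right_inv := fun c => Subtype.ext (by simp [mul_assoc])
      map_mul' := fun c d => Subtype.ext (by simp [mul_assoc]) }
  map_one' := MulEquiv.ext fun c => Subtype.ext (by simp)
  map_mul' h k := MulEquiv.ext fun c => Subtype.ext (by simp [mul_assoc])

theorem conjOn_apply (C : Subgroup G) (H : Subgroup G) (hn : ∀ h ∈ H, ∀ c ∈ C, h * c * h⁻¹ ∈ C) (h : H) (c : C) :
    ((conjOn C H hn h c : C) : G) = h * c * (h : G)⁻¹ := rfl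

theorem map_subtype_smul (C : Subgroup G) (H : Subgroup G) (hn : ∀ h ∈ H, ∀ c ∈ C, h * c * h⁻¹ ∈ C) (h : H)
    (R : Subgroup C) :
    (R.map (conjOn C H hn h).toMonoidHom).map C.subtype = (R.map C.subtype).map (MulAut.conj (h : G)).toMonoidHom := by
  rw [Subgroup.map_map, Subgroup.map_map]
  rfl

variable {t : G} {E E₀ : Subgroup G} [Fintype E] {F : Type} [Field F] [Fintype F] (S : Twist.Setting t E E₀ F)
  {r : ℕ} {x : G} (hr : r.Prime) (hp : ∃ a : ℕ, orderOf x = r ^ a) (hxE : x ∈ E)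
  {L : Type} [Field L] [Fintype L] (hL : Fintype.card L ^ orderOf x = Fintype.card F) {m : ℕ}
  (hm : Fintype.card L = 3 ^ m) (h27 : 27 ≤ Fintype.card L) (h8 : Fintype.card L % 8 = 3)
  (hrl : ¬ r ∣ Fintype.card L - 1)
  (e : ↥(E₀ ⊓ centralizer ({x} : Set G)) ≃* Matrix.ProjectiveSpecialLinearGroup (Fin 2) L)
include S hr hp hxE hL hm h27 h8 hrl e

/-- The Sylow 3-subgroups of `C_{E₀}(x)` give those of `E₀` normalized by `x`. -/
theorem exists_over {z : G} (hz : z ∈ E₀) (hzx : Commute z x) (hz2 : orderOf z = 2) :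
    ∃ up : Sylow 3 ↥(E₀ ⊓ centralizer ({x} : Set G)) → Sylow 3 ↥E₀, Function.Injective up ∧
      (∀ R, x ∈ normalizer (((up R : Subgroup E₀).map E₀.subtype : Subgroup G) : Set G)) ∧
      (∀ P : Sylow 3 ↥E₀, x ∈ normalizer (((P : Subgroup E₀).map E₀.subtype : Subgroup G) : Set G) → ∃ R, up R = P) ∧
      ∀ R (g : G), g ∈ E → Commute g x →
        (g ∈ normalizer (((up R : Subgroup E₀).map E₀.subtype : Subgroup G) : Set G) ↔
          g ∈ normalizer (((R : Subgroup ↥(E₀ ⊓ centralizer ({x} : Set G))).map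
            (E₀ ⊓ centralizer ({x} : Set G)).subtype : Subgroup G) : Set G)) := by
  classical
  haveI : Fact (Nat.Prime 3) := ⟨Nat.prime_three⟩
  haveI : Fact r.Prime := ⟨hr⟩
  set C₀ := E₀ ⊓ centralizer ({x} : Set G) with hC₀
  obtain ⟨a, ha⟩ := hp
  have hF : Fintype.card F = 3 ^ (m * orderOf x) := by rw [← hL, hm, pow_mul]
  obtain ⟨f⟩ := S.hyp.iso
  obtain ⟨hP, hti, -⟩ := psl_ti S.hyp.odd S.five f hF (z := (⟨z, hz⟩ : E₀)) (by rw [orderOf_mk, hz2])
  have hzC : z ∈ C₀ := ⟨hz, mem_centralizer_singleton_iff.2 hzx.eq⟩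
  obtain ⟨hR, -, -⟩ := psl_ti (by rw [Nat.odd_iff]; omega) (by omega) e hm
    (z := (⟨z, hzC⟩ : C₀)) (by rw [orderOf_mk, hz2])
  -- the subgroup of `E₀` over one of the subgroups
  have hex : ∀ R : Sylow 3 C₀, ∃ P : Sylow 3 E₀,
      (R : Subgroup C₀).map C₀.subtype ≤ (P : Subgroup E₀).map E₀.subtype := by
    intro R
    have hle : (R : Subgroup C₀).map C₀.subtype ≤ E₀ := (map_subtype_le _).trans inf_le_left
    obtain ⟨P, hP'⟩ := ((R.isPGroup'.map C₀.subtype).comap_of_injective E₀.subtype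
      E₀.subtype_injective).exists_le_sylow
    refine ⟨P, fun w hw => ⟨⟨w, hle hw⟩, hP' (show (⟨w, hle hw⟩ : E₀) ∈ _ from hw), rfl⟩⟩
  choose up hup using hex
  have hone : ∀ R : Sylow 3 C₀, ∃ w ∈ (R : Subgroup C₀).map C₀.subtype, w ≠ 1 := by
    intro R
    by_contra hno
    push Not at hno
    have hbot : (R : Subgroup C₀).map C₀.subtype = ⊥ := eq_bot_iff.2 fun w hw => mem_bot.2 (hno w hw)
    have hc := hR R
    rw [Nat.card_congr ((R : Subgroup C₀).equivMapOfInjective C₀.subtype C₀.subtype_injective).toEquiv, hbot,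
      card_bot] at hc
    omega
  have huniq : ∀ (P Q : Sylow 3 E₀) (w : G), w ∈ (P : Subgroup E₀).map E₀.subtype →
      w ∈ (Q : Subgroup E₀).map E₀.subtype → w ≠ 1 → P = Q := by
    rintro P Q _ ⟨w, hw, rfl⟩ ⟨w', hw', he⟩ hw1
    obtain rfl := E₀.subtype_injective he
    exact hti P Q w' hw hw' fun h => hw1 (by rw [h, map_one])
  have hmeet : ∀ R : Sylow 3 C₀, (up R : Subgroup E₀).map E₀.subtype ⊓ C₀ = (R : Subgroup C₀).map C₀.subtype := by
    intro R
    refine le_antisymm (fun w hw => ?_) (le_inf (hup R) (map_subtype_le _))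
    have hp' : IsPGroup 3 (((up R : Subgroup E₀).map E₀.subtype ⊓ C₀).subgroupOf C₀) :=
      ((up R).isPGroup'.map E₀.subtype |>.to_le inf_le_left).comap_of_injective _ C₀.subtype_injective
    have := R.is_maximal' hp' (fun v hv => ⟨hup R (mem_map_of_mem _ hv), v.2⟩)
    exact ⟨⟨w, hw.2⟩, this ▸ (show (⟨w, hw.2⟩ : C₀) ∈ ((up R : Subgroup E₀).map E₀.subtype ⊓ C₀).subgroupOf C₀
      from hw), rfl⟩
  have hnormE : ∀ (g : G), g ∈ E → ∀ P : Sylow 3 E₀, ∃ Q : Sylow 3 E₀,
      (Q : Subgroup E₀).map E₀.subtype = ((P : Subgroup E₀).map E₀.subtype).map (MulAut.conj g).toMonoidHom := by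
    intro g hg P
    letI : MulDistribMulAction E E₀ := MulDistribMulAction.compHom E₀ S.actE
    refine ⟨(⟨g, hg⟩ : E) • P, ?_⟩
    rw [Sylow.pointwise_smul_def, Subgroup.map_map]
    show Subgroup.map E₀.subtype (Subgroup.map (S.actE ⟨g, hg⟩).toMonoidHom (P : Subgroup E₀)) = _
    rw [Subgroup.map_map]
    rfl
  have hiff : ∀ R (g : G), g ∈ E → Commute g x →
      (g ∈ normalizer (((up R : Subgroup E₀).map E₀.subtype : Subgroup G) : Set G) ↔
        g ∈ normalizer (((R : Subgroup C₀).map C₀.subtype : Subgroup G) : Set G)) := by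
    intro R g hg hgx
    have hgC : ∀ w, g * w * g⁻¹ ∈ C₀ ↔ w ∈ C₀ := by
      have key : ∀ k : G, k ∈ E → Commute k x → ∀ w ∈ C₀, k * w * k⁻¹ ∈ C₀ := fun k hk hkx w hw => by
        have hkC : k ∈ centralizer ({x} : Set G) := mem_centralizer_singleton_iff.2 hkx.eq
        exact ⟨S.hyp.norm k hk w hw.1, Subgroup.mul_mem _ (Subgroup.mul_mem _ hkC hw.2) (Subgroup.inv_mem _ hkC)⟩
      refine fun w => ⟨fun h => ?_, key g hg hgx w⟩
      have := key g⁻¹ (inv_mem hg) hgx.inv_left _ h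
      simpa [mul_assoc] using this
    constructor
    · intro h
      refine mem_normalizer_iff.2 fun w => ?_
      rw [← hmeet R]
      exact and_congr (mem_normalizer_iff.1 h w) (hgC w).symm
    · intro h
      obtain ⟨Q, hQ⟩ := hnormE g hg (up R)
      obtain ⟨w, hw, hw1⟩ := hone R
      have e : Q = up R := huniq Q (up R) (g * w * g⁻¹) (hQ ▸ ⟨w, hup R hw, rfl⟩)
        (hup R ((mem_normalizer_iff.1 h w).1 hw)) (fun e => hw1 (conj_eq_one_iff.1 e))
      refine mem_normalizer_iff.2 fun v => ?_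
      have hmap := hQ.symm.trans (congrArg (fun P : Sylow 3 E₀ => (P : Subgroup E₀).map E₀.subtype) e)
      constructor
      · intro hv; rw [← hmap]; exact ⟨v, hv, rfl⟩
      · intro hv
        rw [← hmap] at hv
        obtain ⟨v', hv', he⟩ := hv
        rwa [← (MulAut.conj g).injective he]
  refine ⟨up, fun R R' h => ?_, fun R => (hiff R x hxE (Commute.refl x)).2 ?_, fun P hP' => ?_, hiff⟩
  · refine Sylow.ext (map_injective C₀.subtype_injective ?_)
    rw [← hmeet R, ← hmeet R', h]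
  · refine centralizer_le_normalizer _ (mem_centralizer_iff.2 fun w hw => ?_)
    exact mem_centralizer_singleton_iff.1 (map_subtype_le _ hw : w ∈ C₀).2
  · -- a point fixed by `x` meets `C(x)` nontrivially
    set PG := (P : Subgroup E₀).map E₀.subtype with hPG
    let hsmul : MulAction (zpowers x) PG :=
      { smul := fun g w => ⟨(g : G) * w * (g : G)⁻¹, (mem_normalizer_iff.1 (zpowers_le.2 hP' g.2) w).1 w.2⟩
        one_smul := fun w => Subtype.ext (by show (1 : G) * w * (1 : G)⁻¹ = w; simp)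
        mul_smul := fun g g' w => Subtype.ext (by
          show ((g * g' : zpowers x) : G) * w * ((g * g' : zpowers x) : G)⁻¹ = g * (g' * w * (g' : G)⁻¹) * (g : G)⁻¹
          rw [coe_mul]; group) }
    have hmod := (IsPGroup.of_card (G := zpowers x) (p := r) (by rw [Nat.card_zpowers, ha])).card_modEq_card_fixedPoints PG
    have hPc : Nat.card PG = Fintype.card L ^ orderOf x := by
      rw [hL, ← hP P]
      exact (Nat.card_congr ((P : Subgroup E₀).equivMapOfInjective E₀.subtype E₀.subtype_injective).toEquiv).symm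
    have hfer : Fintype.card L ^ orderOf x ≡ Fintype.card L [MOD r] := by
      rw [← ZMod.natCast_eq_natCast_iff, Nat.cast_pow, ha, ZMod.pow_card_pow]
    rw [hPc] at hmod
    obtain ⟨w, hw, hw1⟩ : ∃ w : MulAction.fixedPoints (zpowers x) PG, ((w : PG) : G) ≠ 1 ∧ True := by
      by_contra hno
      push Not at hno
      have hone' : Nat.card (MulAction.fixedPoints (zpowers x) PG) = 1 := by
        refine Nat.card_eq_one_iff_unique.2 ⟨⟨fun w w' => Subtype.ext (Subtype.ext ?_)⟩, ⟨⟨1, fun g => Subtype.ext ?_⟩⟩⟩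
        · have a1 : ((w : PG) : G) = 1 := by by_contra hh; exact hno w hh
          have a2 : ((w' : PG) : G) = 1 := by by_contra hh; exact hno w' hh
          rw [a1, a2]
        · show (g : G) * ((1 : PG) : G) * (g : G)⁻¹ = ((1 : PG) : G)
          simp
      rw [hone'] at hmod
      exact hrl ((Nat.modEq_iff_dvd' (by omega)).1 (hfer.symm.trans hmod).symm)
    have hwx : Commute x ((w : PG) : G) := mul_inv_eq_iff_eq_mul.1
      (congrArg Subtype.val (w.2 ⟨x, mem_zpowers x⟩) : x * ((w : PG) : G) * x⁻¹ = ((w : PG) : G))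
    have hwC : ((w : PG) : G) ∈ C₀ :=
      ⟨map_subtype_le _ (w : PG).2, mem_centralizer_singleton_iff.2 hwx.symm.eq⟩
    obtain ⟨R, hR'⟩ := ((((P.isPGroup'.map E₀.subtype).to_le (inf_le_left : PG ⊓ C₀ ≤ PG))).comap_of_injective
      C₀.subtype C₀.subtype_injective).exists_le_sylow
    exact ⟨R, huniq _ P _ (hup R ⟨⟨_, hwC⟩, hR' (show (⟨_, hwC⟩ : C₀) ∈ _ from ⟨(w : PG).2, hwC⟩), rfl⟩) (w : PG).2 hw⟩

/-- The character of degree `q₁`. -/
theorem exists_theta {z : G} (hz : z ∈ E₀) (hzx : Commute z x) (hz2 : orderOf z = 2) {Y : Type u} [Group Y]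
    [Fintype Y] (f : ↥(E ⊓ centralizer ({x} : Set G)) →* Y) (hs : Function.Surjective f)
    (hk : ∀ h, f h = 1 ↔ (h : G) ∈ zpowers x)
    (hinv : ∀ u : Y, orderOf u = 2 → ∃ h : ↥(E ⊓ centralizer ({x} : Set G)),
      (h : G) ∈ E₀ ∧ orderOf (h : G) = 2 ∧ f h = u) :
    ∃ θ : IrrCharacter Y, deg (θ : Y → ℂ) = Fintype.card L ∧ (∀ g : Y, 2 ∣ orderOf g → (θ : Y → ℂ) g = -1) ∧
      (∀ (h : ↥(E ⊓ centralizer ({x} : Set G))) (k : ℕ), ¬ r ∣ orderOf (h : G) → k.Coprime r →
        (fixCount E₀ 3 (x ^ k * (h : G)) : ℂ) = (θ : Y → ℂ) (f h) + 1) ∧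
      ∀ (Z : Type u) [Group Z] [Fintype Z] (g : Z →* Y),
        (∀ h : ↥(E ⊓ centralizer ({x} : Set G)), (h : G) ∈ E₀ → ∃ w, g w = f h) →
        IsIrrCharacter Z (fun w => (θ : Y → ℂ) (g w)) := by
  classical
  haveI : Fact (Nat.Prime 3) := ⟨Nat.prime_three⟩
  letI := Fintype.ofFinite ↥(E₀ ⊓ centralizer ({x} : Set G))
  have hzC : z ∈ (E₀ ⊓ centralizer ({x} : Set G)) := ⟨hz, mem_centralizer_singleton_iff.2 hzx.eq⟩
  have hoddL : Odd (Fintype.card L) := by rw [Nat.odd_iff]; omega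
  have hz' : orderOf (⟨z, hzC⟩ : ↥(E₀ ⊓ centralizer ({x} : Set G))) = 2 := by rw [orderOf_mk, hz2]
  obtain ⟨hcard, htr⟩ := Twist.psl_points hoddL (by omega) e hm hz'
  obtain ⟨-, -, hN⟩ := psl_ti hoddL (by omega) e hm hz'
  have hn : ∀ h ∈ (E ⊓ centralizer ({x} : Set G)), ∀ c ∈ (E₀ ⊓ centralizer ({x} : Set G)), h * c * h⁻¹ ∈ (E₀ ⊓ centralizer ({x} : Set G)) := fun h hh c hc =>
    ⟨S.hyp.norm h hh.1 c hc.1, Subgroup.mul_mem _ (Subgroup.mul_mem _ hh.2 hc.2) (Subgroup.inv_mem _ hh.2)⟩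
  set act := conjOn (E₀ ⊓ centralizer ({x} : Set G)) (E ⊓ centralizer ({x} : Set G)) hn with hact
  have hker : f.ker ≤ act.ker := fun h hh => by
    obtain ⟨i, hi⟩ := (hk h).1 (MonoidHom.mem_ker.1 hh)
    refine MonoidHom.mem_ker.2 (MulEquiv.ext fun c => Subtype.ext ?_)
    show (h : G) * c * (h : G)⁻¹ = c
    have hc : Commute (h : G) c := by
      rw [← hi]
      exact (show Commute x (c : G) from (mem_centralizer_singleton_iff.1 c.2.2).symm).zpow_left i
    rw [hc.eq, mul_inv_cancel_right]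
  set actY : Y →* MulAut ↥(E₀ ⊓ centralizer ({x} : Set G)) := f.liftOfSurjective hs ⟨act, hker⟩ with hactY
  have hcomp : ∀ h, actY (f h) = act h := fun h =>
    DFunLike.congr_fun (MonoidHom.liftOfRightInverse_comp f _ (Function.rightInverse_surjInv hs) ⟨act, hker⟩) h
  letI : MulDistribMulAction Y ↥(E₀ ⊓ centralizer ({x} : Set G)) := MulDistribMulAction.compHom ↥(E₀ ⊓ centralizer ({x} : Set G)) actY
  set W := Sylow 3 ↥(E₀ ⊓ centralizer ({x} : Set G)) with hW
  have hsmul : ∀ (h : ↥(E ⊓ centralizer ({x} : Set G))) (R : W), f h • R = R ↔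
      (h : G) ∈ normalizer (((R : Subgroup ↥(E₀ ⊓ centralizer ({x} : Set G))).map (E₀ ⊓ centralizer ({x} : Set G)).subtype : Subgroup G) : Set G) := by
    intro h R
    have hmap : ((f h • R : W) : Subgroup ↥(E₀ ⊓ centralizer ({x} : Set G))).map (E₀ ⊓ centralizer ({x} : Set G)).subtype =
        ((R : Subgroup ↥(E₀ ⊓ centralizer ({x} : Set G))).map (E₀ ⊓ centralizer ({x} : Set G)).subtype).map (MulAut.conj (h : G)).toMonoidHom := by
      rw [Sylow.pointwise_smul_def]
      show ((R : Subgroup ↥(E₀ ⊓ centralizer ({x} : Set G))).map (actY (f h)).toMonoidHom).map (E₀ ⊓ centralizer ({x} : Set G)).subtype = _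
      rw [hcomp, map_subtype_smul]
    constructor
    · intro he
      rw [he] at hmap
      refine mem_normalizer_iff.2 fun w => ⟨fun hw => ?_, fun hw => ?_⟩
      · rw [hmap]; exact ⟨w, hw, rfl⟩
      · rw [hmap] at hw
        obtain ⟨w', hw', he'⟩ := hw
        rwa [← (MulAut.conj (h : G)).injective he']
    · intro hh
      refine Sylow.ext (map_injective (E₀ ⊓ centralizer ({x} : Set G)).subtype_injective ?_)
      rw [hmap, Cfsg.Lib.Blocks.map_conj_of_mem_normalizer hh]
  have hincl : ∀ (c : ↥(E₀ ⊓ centralizer ({x} : Set G))) (R : W), f ⟨c, S.hyp.le c.2.1, c.2.2⟩ • R = c • R := fun c R => by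
    refine Sylow.ext ?_
    rw [Sylow.pointwise_smul_def, Sylow.coe_subgroup_smul]
    show (R : Subgroup ↥(E₀ ⊓ centralizer ({x} : Set G))).map (actY (f ⟨c, S.hyp.le c.2.1, c.2.2⟩)).toMonoidHom = _
    rw [hcomp]
    rfl
  have hW3 : 3 ≤ Nat.card W := by rw [hcard]; omega
  have hirr : ∀ (Z : Type u) [Group Z] [Fintype Z] (g : Z →* Y),
      (∀ h : ↥(E ⊓ centralizer ({x} : Set G)), (h : G) ∈ E₀ → ∃ w, g w = f h) →
      IsIrrCharacter Z (fun w => permChar Y W (g w) - 1) := by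
    intro Z _ _ g hg
    letI : MulAction Z W := MulAction.compHom W g
    exact Twist.irr_perm_sub_one hW3 fun P Q R hQ hR => by
      obtain ⟨c, hc, hce⟩ := htr P Q R hQ hR
      obtain ⟨w, hw⟩ := hg ⟨c, S.hyp.le c.2.1, c.2.2⟩ c.2.1
      refine ⟨w, ?_, ?_⟩
      · show g w • P = P
        rw [hw, hincl]
        exact Sylow.smul_eq_iff_mem_normalizer.2 (le_normalizer hc)
      · show g w • Q = R
        rw [hw, hincl, hce]
  have hirrY : IsIrrCharacter Y (fun w => permChar Y W w - 1) := hirr Y (MonoidHom.id Y) fun h _ => ⟨f h, rfl⟩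
  refine ⟨⟨_, hirrY⟩, ?_, fun g hg => ?_, fun h k hh hk' => ?_, hirr⟩
  · refine Nat.cast_injective (R := ℂ) ?_
    rw [← irr_apply_one_eq_deg]
    show permChar Y W 1 - 1 = _
    rw [permChar, show Nat.card (MulAction.fixedBy W (1 : Y)) = Nat.card W from
      Nat.card_congr (Equiv.subtypeUnivEquiv fun R => one_smul Y R), hcard]
    push_cast; ring
  · show permChar Y W g - 1 = -1
    have hu : orderOf (g ^ (orderOf g / 2)) = 2 := by
      rw [orderOf_pow_of_dvd (Nat.div_pos (Nat.le_of_dvd (orderOf_pos g) hg) two_pos).ne' (Nat.div_dvd_of_dvd hg),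
        Nat.div_div_self hg (orderOf_pos g).ne']
    obtain ⟨c, hcE, hc2, hfc⟩ := hinv _ hu
    have hzero : ∀ R : W, g • R ≠ R := by
      intro R hR
      have h1 : f c • R = R := by
        rw [hfc]; exact MulAction.mem_stabilizer_iff.1 (pow_mem (show g ∈ MulAction.stabilizer Y R from hR) _)
      rw [show c = ⟨(c : G), S.hyp.le hcE, c.2.2⟩ from rfl] at h1
      have h2 : (⟨(c : G), hcE, c.2.2⟩ : ↥(E₀ ⊓ centralizer ({x} : Set G))) ∈ normalizer ((R : Subgroup ↥(E₀ ⊓ centralizer ({x} : Set G))) : Set ↥(E₀ ⊓ centralizer ({x} : Set G))) :=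
        Sylow.smul_eq_iff_mem_normalizer.1 ((hincl ⟨(c : G), hcE, c.2.2⟩ R).symm.trans h1)
      have h3 := Subgroup.orderOf_dvd_natCard _ h2
      rw [← Subgroup.orderOf_coe] at h3
      simp only [hc2] at h3
      have h4 : 4 ∣ Fintype.card L * (Fintype.card L - 1) := by rw [← hN R]; exact Nat.mul_dvd_mul_left 2 h3
      have h5 : Nat.Coprime 4 (Fintype.card L) :=
        (Nat.coprime_two_left.2 hoddL).pow_left 2
      have := h5.dvd_of_dvd_mul_left h4
      omega
    haveI : IsEmpty (MulAction.fixedBy W g) := ⟨fun R => hzero R.1 R.2⟩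
    rw [permChar, Nat.card_of_isEmpty]
    norm_num
  · show _ = permChar Y W (f h) - 1 + 1
    rw [sub_add_cancel, permChar, Nat.cast_inj]
    obtain ⟨up, hinj, hfix, hsurj, hiff⟩ := exists_over S hr hp hxE hL hm h27 h8 hrl e hz hzx hz2
    have hhx : Commute (h : G) x := mem_centralizer_singleton_iff.1 h.2.2
    obtain ⟨a, ha⟩ := hp
    have hboth : ∀ N : Subgroup G, x ^ k * (h : G) ∈ N ↔ (x ∈ N ∧ (h : G) ∈ N) := by
      refine fun N => ⟨fun hm' => ?_, fun ⟨h1, h2⟩ => mul_mem (pow_mem h1 k) h2⟩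
      have hcop : (k * orderOf (h : G)).Coprime (orderOf x) := by
        rw [ha]
        exact (hk'.mul_left (hr.coprime_iff_not_dvd.2 hh).symm).pow_right a
      obtain ⟨l, hl⟩ := exists_pow_eq_self_of_coprime hcop
      have h1 : x ^ (k * orderOf (h : G)) ∈ N := by
        have := pow_mem hm' (orderOf (h : G))
        rwa [(hhx.symm.pow_left k).mul_pow, pow_orderOf_eq_one, mul_one, ← pow_mul] at this
      have hxN : x ∈ N := hl ▸ pow_mem h1 l
      refine ⟨hxN, ?_⟩
      have := mul_mem (inv_mem (pow_mem hxN k)) hm'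
      rwa [inv_mul_cancel_left] at this
    refine (Nat.card_congr (Equiv.ofBijective (fun R : MulAction.fixedBy W (f h) =>
      (⟨up R.1, (hboth _).2 ⟨hfix R.1, (hiff R.1 h h.2.1 hhx).2 ((hsmul h R.1).1 R.2)⟩⟩ :
        {P : Sylow 3 ↥E₀ // x ^ k * (h : G) ∈ normalizer ((((P : Subgroup ↥E₀).map E₀.subtype) : Subgroup G) : Set G)}))
      ⟨fun R R' e' => Subtype.ext (hinj (congrArg Subtype.val e')), fun P => ?_⟩)).symm
    obtain ⟨hxP, hhP⟩ := (hboth _).1 P.2
    obtain ⟨R, hR⟩ := hsurj P.1 hxP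
    exact ⟨⟨R, (hsmul h R).2 ((hiff R h h.2.1 hhx).1 (hR ▸ hhP))⟩, Subtype.ext hR⟩

end Cfsg.Lib.Ree.Field.RAdic
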