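import Cfsg.Agent.Ree.Field.RAdic.Members
import Cfsg.Agent.Ree.Field.RAdic.Points

/-!
`Cfsg.Lib.Ree.Field.RAdic.HSpec`: the data at `C(x)`.
-/

set_option autoImplicit false
set_option linter.unusedSectionVars false
set_option linter.style.haveILetI false

namespace Cfsg.Lib.Ree.Field.RAdic

open Subgroup Cfsg Cfsg.Lib.Chars Cfsg.Lib.Blocks
open scoped ComplexConjugate

universe u

variable {G : Type u} [Group G] [Fintype G] {x : G} {X : Type u} [Group X] [Fintype X] (P : Twist.Proj x X)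

/-- An irreducible character of the quotient on `C(x)`. -/
noncomputable def infl (χ : IrrCharacter X) : IrrCharacter ↥(centralizer ({x} : Set G)) :=
  ⟨fun h => (χ : X → ℂ) (P.π h), IsIrrCharacter.comp_surjective χ.2 P.π P.surj⟩

theorem infl_apply (χ : IrrCharacter X) (h : centralizer ({x} : Set G)) :
    (infl P χ : ↥(centralizer ({x} : Set G)) → ℂ) h = (χ : X → ℂ) (P.π h) := rfl

theorem deg_infl (χ : IrrCharacter X) :
    deg (infl P χ : ↥(centralizer ({x} : Set G)) → ℂ) = deg (χ : X → ℂ) := by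
  refine Nat.cast_injective (R := ℂ) ?_
  rw [← irr_apply_one_eq_deg, ← irr_apply_one_eq_deg, infl_apply, map_one]

theorem onG_infl (χ : IrrCharacter X) {g : G} (hg : g ∈ centralizer ({x} : Set G)) :
    onG x (infl P χ : ↥(centralizer ({x} : Set G)) → ℂ) g = (χ : X → ℂ) (P.π ⟨g, hg⟩) := by
  rw [onG, dif_pos hg, infl_apply]

theorem Proj.pi_self : P.π ⟨x, mem_centralizer_singleton_iff.2 rfl⟩ = 1 := P.eq_one_iff.2 (mem_zpowers x)

/-- The map of `C_E(x)` to its image. -/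
noncomputable def toImg (E : Subgroup G) : ↥(E ⊓ centralizer ({x} : Set G)) →* ↥(P.img E) :=
  (P.π.comp (inclusion inf_le_right)).codRestrict (P.img E) fun h =>
    P.mem_img.2 ⟨inclusion inf_le_right h, h.2.1, rfl⟩

theorem toImg_coe (E : Subgroup G) (h : ↥(E ⊓ centralizer ({x} : Set G))) :
    (toImg P E h : X) = P.π ⟨(h : G), h.2.2⟩ := rfl

theorem toImg_surj (E : Subgroup G) : Function.Surjective (toImg P E) := by
  rintro ⟨u, hu⟩
  obtain ⟨h, hh, rfl⟩ := P.mem_img.1 hu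
  exact ⟨⟨h, hh, h.2⟩, Subtype.ext rfl⟩

theorem toImg_eq_one (E : Subgroup G) (h : ↥(E ⊓ centralizer ({x} : Set G))) :
    toImg P E h = 1 ↔ (h : G) ∈ zpowers x := by
  rw [Subtype.ext_iff, toImg_coe, OneMemClass.coe_one, P.eq_one_iff]

/-- Powers of three congruent to 3 or 5 modulo 8. -/
theorem three_pow_mod {m : ℕ} (h : 3 ^ m % 8 = 3 ∨ 3 ^ m % 8 = 5) : 3 ^ m % 8 = 3 := by
  rcases Nat.even_or_odd' m with ⟨k, rfl | rfl⟩
  · rw [pow_mul, Nat.pow_mod] at h
    norm_num at h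
  · rw [pow_succ, pow_mul, Nat.mul_mod, Nat.pow_mod]
    norm_num

/-- The prime divisors of `q² - q + 1` other than 3. -/
theorem phi_prime {r q : ℕ} (hr : r.Prime) (h3 : r ≠ 3) (hd : (r : ℤ) ∣ (q : ℤ) ^ 2 - q + 1) :
    ¬ (r : ℤ) ∣ q ∧ ¬ (r : ℤ) ∣ (q : ℤ) - 1 ∧ ¬ (r : ℤ) ∣ (q : ℤ) + 1 := by
  have one : ¬ (r : ℤ) ∣ 1 := fun h => hr.not_dvd_one (by exact_mod_cast h)
  refine ⟨fun h => one ?_, fun h => one ?_, fun h => ?_⟩
  · have := hd.sub (h.mul_left ((q : ℤ) - 1))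
    rwa [show (q : ℤ) ^ 2 - q + 1 - ((q : ℤ) - 1) * q = 1 by ring] at this
  · have := hd.sub (h.mul_left (q : ℤ))
    rwa [show (q : ℤ) ^ 2 - q + 1 - q * ((q : ℤ) - 1) = 1 by ring] at this
  · have := hd.sub (h.mul_left ((q : ℤ) - 2))
    rw [show (q : ℤ) ^ 2 - q + 1 - ((q : ℤ) - 2) * (q + 1) = 3 by ring] at this
    exact h3 ((Nat.prime_dvd_prime_iff_eq hr Nat.prime_three).1 (by exact_mod_cast this))

theorem not_dvd_two_mul {r n : ℕ} (hr : r.Prime) (h2 : r ≠ 2) (hn : ¬ r ∣ n) : ¬ r ∣ 2 * n := fun h => by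
  rcases hr.dvd_mul.1 h with h | h
  · exact h2 ((Nat.prime_dvd_prime_iff_eq hr Nat.prime_two).1 h)
  · exact hn h

end Cfsg.Lib.Ree.Field.RAdic

namespace Cfsg.Lib.Ree.Field.RAdic

open Subgroup Cfsg Cfsg.Lib.Chars Cfsg.Lib.Blocks
open scoped ComplexConjugate

universe u

theorem hSpec : HSpec.{u} := by
  intro G _ _ t E E₀ _ F _ _ J Mid T hTf T' r x L _ _ hX hL h3 hd h27
  classical
  haveI : Fact (Nat.Prime 2) := ⟨Nat.prime_two⟩
  have S := Twist.of_jr J
  obtain ⟨a, b, n, hy⟩ := exists_frame S T' hX.tT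
  have hr := hX.prime
  have hr2 : r ≠ 2 := by
    intro e
    obtain ⟨i, hi⟩ := hX.pow
    have h2 : 2 ∣ orderOf x := by
      have := hX.r_dvd
      rwa [e] at this
    obtain ⟨k, hk⟩ := h2
    have hy2 : orderOf (x ^ k) = 2 := by
      rw [orderOf_pow' _ (fun e => by rw [e, mul_zero] at hk; exact (orderOf_pos x).ne' hk), hk,
        Nat.gcd_eq_right (dvd_mul_left k 2), Nat.mul_div_cancel _ (Nat.pos_of_ne_zero fun e => by
          rw [e, mul_zero] at hk; exact (orderOf_pos x).ne' hk)]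
    have hmem : x ^ k ∈ E₀ := (S.conj_E (a := ⟨x ^ k, pow_mem hX.mem k⟩) (b := ⟨x ^ k, pow_mem hX.mem k⟩)
      (by rw [orderOf_mk, hy2]) (by rw [orderOf_mk, hy2])).1
    have h1 : x ^ k ∈ zpowers x ⊓ E₀ := ⟨pow_mem (mem_zpowers x) k, hmem⟩
    rw [hX.inter, mem_bot] at h1
    rw [h1, orderOf_one] at hy2
    omega
  obtain ⟨m, hm⟩ : ∃ m, Fintype.card L = 3 ^ m := by
    rcases hL.cases with h | h | ⟨-, h, -⟩
    · omega
    · omega
    · exact h
  have hrodd : Odd r := hr.odd_of_ne_two hr2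
  have hxodd : Odd (orderOf x) := by
    obtain ⟨i, hi⟩ := hX.pow
    rw [hi]
    exact hrodd.pow
  have hLF : Fintype.card L % 8 = Fintype.card F % 8 := Twist.mod_eight_root hL.card.symm hxodd S.mod
  have h8 : Fintype.card L % 8 = 3 := by
    rw [hm] at hLF ⊢
    exact three_pow_mod (hLF ▸ S.mod)
  have hF3 : Fintype.card F % 8 = 3 := hLF ▸ h8
  obtain ⟨Xq, iX, iXf, ⟨Q⟩⟩ := exists_quot J hX hL hrodd h27
  haveI := Q.normal
  letI := Fintype.ofFinite Q.M
  letI := Fintype.ofFinite ((Q.P.img E₀).subgroupOf Q.M)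
  letI := Fintype.ofFinite (Q.P.img E)
  obtain ⟨C⟩ := Real.exists_rctx Q.ree
  set q := Fintype.card L with hq
  have hinv := Q.count_eq C
  rw [← hq] at hinv
  have hphi : (r : ℤ) ∣ (q : ℤ) ^ 2 - q + 1 := by
    have h : (r : ℤ) ∣ (invCount x : ℤ) := Int.natCast_dvd_natCast.2 hd
    rw [hinv] at h
    rcases (Nat.prime_iff_prime_int.1 hr).dvd_or_dvd h with h' | h'
    · exfalso
      have h'' := (Nat.prime_iff_prime_int.1 hr).dvd_of_dvd_pow h'
      rw [hm, Nat.cast_pow] at h''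
      have h4 : (r : ℤ) ∣ ((3 : ℕ) : ℤ) := (Nat.prime_iff_prime_int.1 hr).dvd_of_dvd_pow h''
      exact h3 ((Nat.prime_dvd_prime_iff_eq hr Nat.prime_three).1 (Int.natCast_dvd_natCast.1 h4))
    · exact h'
  obtain ⟨hrq, hrm, hrp⟩ := phi_prime hr h3 hphi
  have hrsq : ¬ (r : ℤ) ∣ (q : ℤ) ^ 2 - 1 := fun h => by
    rw [show (q : ℤ) ^ 2 - 1 = ((q : ℤ) + 1) * (q - 1) by ring] at h
    rcases (Nat.prime_iff_prime_int.1 hr).dvd_or_dvd h with h' | h'
    · exact hrp h'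
    · exact hrm h'
  have hrL : ¬ r ∣ q * (q * q - 1) := fun h => by
    rcases hr.dvd_mul.1 h with h' | h'
    · exact hrq (Int.natCast_dvd_natCast.2 h')
    · refine hrsq ?_
      have := Int.natCast_dvd_natCast.2 h'
      rw [Nat.cast_sub (Nat.one_le_iff_ne_zero.2 (Nat.mul_ne_zero (by omega) (by omega)))] at this
      push_cast at this
      rwa [pow_two]
  have hY : ¬ r ∣ Nat.card (Q.P.img E) := Q.reg hrL
  set f := toImg Q.P E with hf
  have hfs := toImg_surj Q.P E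
  have hfk := toImg_eq_one Q.P E
  obtain ⟨eL⟩ := hL.fixed
  have hinvY : ∀ u : Q.P.img E, orderOf u = 2 → ∃ h : ↥(E ⊓ centralizer ({x} : Set G)),
      (h : G) ∈ E₀ ∧ orderOf (h : G) = 2 ∧ f h = u := by
    intro u hu
    have hu2 : orderOf (u : Xq) = 2 := by rw [Subgroup.orderOf_coe]; exact hu
    obtain ⟨h, hh, hhu⟩ := Q.P.mem_img.1 (Q.inter _ u.2 (Q.inv _ hu2))
    refine ⟨⟨h, S.hyp.le hh, h.2⟩, hh, ?_, Subtype.ext hhu⟩
    have hsq : (h : G) ^ 2 ∈ zpowers x := by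
      rw [← SubmonoidClass.coe_pow]
      exact Q.P.eq_one_iff.1 (by rw [map_pow, hhu, ← hu2, pow_orderOf_eq_one])
    have h1 : (h : G) ^ 2 ∈ zpowers x ⊓ E₀ := ⟨hsq, pow_mem hh 2⟩
    rw [hX.inter, mem_bot] at h1
    refine orderOf_eq_prime h1 fun e => ?_
    rw [← hhu, show h = 1 from Subtype.ext e, map_one, orderOf_one] at hu2
    omega
  have hrl : ¬ r ∣ q - 1 := fun h => hrm (by
    have := Int.natCast_dvd_natCast.2 h
    rwa [Nat.cast_sub (by omega), Nat.cast_one] at this)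
  obtain ⟨θ, hθdeg, hθev, hθfix, hθres⟩ := exists_theta S hr hX.pow hX.mem hL.card.symm hm h27 h8 hrl eL hy.aE
    (hX.cT a hy.aT).symm hy.ao f hfs hfk hinvY
  obtain ⟨Mi, hMi⟩ := exists_isPModular (p := 2) Nat.prime_two
  obtain ⟨K, hKx⟩ := Q.exists_table C hMi θ hθdeg hθev
  have hres : IsIrrCharacter ((Q.P.img E₀).subgroupOf Q.M)
      (fun y => (θ : Q.P.img E → ℂ) (Sect.incl Q.M Q.hle y)) := by
    refine hθres _ (Sect.incl Q.M Q.hle) fun h hh => ?_
    have hm0 : (f h : Xq) ∈ Q.P.img E₀ := Q.P.mem_img.2 ⟨⟨(h : G), h.2.2⟩, hh, rfl⟩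
    exact ⟨⟨⟨_, Q.le hm0⟩, mem_subgroupOf.2 hm0⟩, Subtype.ext rfl⟩
  obtain ⟨γ, St, ε, εS, hsq, hcx, hcw, hlift, hd0, hd1, hdS, hunit⟩ := Q.exists_members C K hMi θ hKx hθdeg hres
  obtain ⟨htC, htπ⟩ := Q.ht
  -- the values of `T.x`
  have hxt : ∀ (k : ℕ), k.Coprime r → ∀ h : ↥(E ⊓ centralizer ({x} : Set G)), ¬ r ∣ orderOf (h : G) →
      Function.extend Subtype.val T.x 0 (x ^ k * (h : G)) = K.x (f h) := by
    intro k hk h hh
    have hmem : x ^ k * (h : G) ∈ E := mul_mem (pow_mem hX.mem k) h.2.1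
    rw [show x ^ k * (h : G) = ((⟨_, hmem⟩ : E) : G) from rfl, Subtype.val_injective.extend_apply, Twist.KTable.x,
      Pi.sub_apply, congrFun T.ps_zero _,
      hTf.steinberg 3 (m * orderOf x) Nat.prime_three (by rw [hL.card, pow_mul]; exact congrArg (· ^ orderOf x) hm) ⟨_, hmem⟩, cardSign,
      if_neg (by omega), hθfix h k hh hk, hKx]
    push_cast
    ring
  have hsect : ∀ (χ : IrrCharacter Xq) (h : ↥(E ⊓ centralizer ({x} : Set G))),
      onG x (infl Q.P χ : ↥(centralizer ({x} : Set G)) → ℂ) (t * (h : G)) =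
        sectVal Q.t' (Q.P.img E) χ (f h) := by
    intro χ h
    rw [onG_infl Q.P χ (mul_mem htC h.2.2), show (⟨t * (h : G), mul_mem htC h.2.2⟩ : centralizer ({x} : Set G)) =
      ⟨t, htC⟩ * ⟨(h : G), h.2.2⟩ from rfl, map_mul, htπ]
    rfl
  have hav := fun (φ : G → ℂ) (g : Q.P.img E → ℂ) => regAvg_eq hr hX.pow f hfs hfk hX.mem hY φ g
  obtain ⟨ixx, -, -, -, -, -, ix1, -, -⟩ := K.inners
  have hord : ∀ h : ↥(E ⊓ centralizer ({x} : Set G)), ¬ r ∣ orderOf (h : G) → orderOf (f h) = orderOf (h : G) :=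
    fun h hh => regular_orderOf hr hX.pow f hfk hh
  have hsmall : ∀ (χ : IrrCharacter Xq), ((q : ℤ) ^ 2 - q + 1) ∣ (deg (χ : Xq → ℂ) : ℤ) →
      ∀ g : Xq, r ∣ orderOf g → (χ : Xq → ℂ) g = 0 := by
    intro χ hdvd g hg
    set Φ := q ^ 2 - q + 1 with hΦ
    have hΦz : (Φ : ℤ) = (q : ℤ) ^ 2 - q + 1 := by rw [hΦ, hq]; exact C.card_Phi
    have hcard : (Nat.card Xq : ℤ) =
        ((q : ℤ) ^ 2 - q + 1) * ((q : ℤ) ^ 3 * ((q : ℤ) ^ 2 - 1) * (Q.M.index : ℤ)) := by
      rw [← Subgroup.card_mul_index Q.M, Nat.cast_mul, C.card_G]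
      ring
    have hrest : ¬ (r : ℤ) ∣ (q : ℤ) ^ 3 * ((q : ℤ) ^ 2 - 1) * (Q.M.index : ℤ) := by
      intro h
      rcases (Nat.prime_iff_prime_int.1 hr).dvd_or_dvd h with h' | h'
      · rcases (Nat.prime_iff_prime_int.1 hr).dvd_or_dvd h' with h'' | h''
        · exact hrq ((Nat.prime_iff_prime_int.1 hr).dvd_of_dvd_pow h'')
        · exact hrsq h''
      · exact hY ((Int.natCast_dvd_natCast.1 h').trans Q.index)
    refine eq_zero_of_defect_zero χ.2 hr (n := Φ.factorization r) ?_ ?_ ?_ hg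
    · refine (Nat.ordProj_dvd Φ r).trans (Int.natCast_dvd_natCast.1 ?_)
      rw [hΦz, hcard]
      exact dvd_mul_right _ _
    · intro h
      refine Nat.pow_succ_factorization_not_dvd (show Φ ≠ 0 by omega) hr (Int.natCast_dvd_natCast.1 ?_)
      have h' := Int.natCast_dvd_natCast.2 h
      rw [hcard, ← hΦz, Nat.cast_pow] at h'
      rw [Nat.cast_pow]
      exact (((Nat.prime_iff_prime_int.1 hr).coprime_iff_not_dvd.2 hrest).pow_left).dvd_of_dvd_mul_right h'
    · refine (Nat.ordProj_dvd Φ r).trans (Int.natCast_dvd_natCast.1 ?_)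
      rw [hΦz]
      exact hdvd
  have hdvdγ : ∀ i, ((q : ℤ) ^ 2 - q + 1) ∣ (deg (γ i : Xq → ℂ) : ℤ) := by
    intro i
    fin_cases i
    · exact hd0 ▸ dvd_refl _
    · exact hd1 ▸ dvd_mul_left _ _
  refine ⟨{
    γ := fun i => infl Q.P (γ i)
    St := infl Q.P St
    ε := ε
    εS := εS
    sq := hsq
    kerγ := fun i h => by simp only [infl_apply, map_mul, Proj.pi_self, one_mul]
    kerS := fun h => by simp only [infl_apply, map_mul, Proj.pi_self, one_mul]
    van := ?_, one_x := ?_, x_x := ?_, pair_x := ?_, pair_one := ?_, section_t := ?_, section_rest := ?_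
    unit := ?_, deg_St := ?_
    dvd_inv := hd
    cen_reg := ?_, q_unit := ?_ }⟩
  · intro i h hne
    rw [infl_apply] at hne
    refine exists_regular hr hX.pow (mem_centralizer_singleton_iff.1 h.2) (n := orderOf (Q.P.π h))
      (fun hdv => hne (hsmall _ (hdvdγ i) _ hdv)) ?_
    rw [← SubmonoidClass.coe_pow]
    exact Q.P.eq_one_iff.1 (by rw [map_pow, pow_orderOf_eq_one])
  · intro k hk
    rw [hav _ K.x fun h hh => hxt k hk h hh, ← ix1, classInner_def]
    simp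
  · intro k hk
    rw [hav _ (fun u => K.x u * conj (K.x u)) fun h hh => by rw [hxt k hk h hh], ← ixx, classInner_def]
  · intro i k hk
    rw [hav _ (fun u => K.x u * conj (sectVal Q.t' (Q.P.img E) (γ i) u)) fun h hh => by rw [hxt k hk h hh, hsect],
      ← classInner_def, ← classInner_conj_symm, show classInner (sectVal Q.t' (Q.P.img E) (γ i)) K.x = _ from hcx i,
      map_intCast]
  · intro i
    rw [hav _ (fun u => oddInd (Q.P.img E) u * conj (sectVal Q.t' (Q.P.img E) (γ i) u)) fun h hh => by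
      rw [oddInd, hord h hh, hsect]
      split_ifs <;> simp, ← classInner_def]
    have h := congrArg conj (hcw i)
    rw [coord, classInner_conj_symm, al_add_be, classInner_add_left, classInner_smul_left, classInner_smul_left,
      ← classInner_conj_symm (sectVal Q.t' (Q.P.img E) (γ i)) K.x,
      show classInner (sectVal Q.t' (Q.P.img E) (γ i)) K.x = _ from hcx i, map_intCast,
      map_mul, map_intCast, map_intCast] at h
    exact h
  · intro k hk s y hyE hyx hyr hs hodd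
    set h : ↥(E ⊓ centralizer ({x} : Set G)) := ⟨y, hyE, mem_centralizer_singleton_iff.2 hyx.eq⟩
    have hπ : Q.P.π s = Q.t' * (f h : Xq) := by
      rw [show s = ⟨t, htC⟩ * ⟨y, h.2.2⟩ from Subtype.ext hs, map_mul, htπ]; rfl
    have hsec := Sect.lift_section Q.hyp K.special_x (y := f h) (by rw [hord h hyr]; exact hodd)
    rw [hlift] at hsec
    simp only [infl_apply, hπ]
    rw [hsec, show Function.extend Subtype.val T.x 0 (x ^ k * y) = K.x (f h) from hxt k hk h hyr]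
  · intro s hsr hno
    simp only [infl_apply]
    rw [← hlift]
    refine Sect.lift_odd Q.hyp K.special_x ?_
    by_contra hev
    obtain ⟨c, u, hu, hcu⟩ := Sect.exists_section Q.hyp Q.conj Q.exp hev
    obtain ⟨g, rfl⟩ := Q.P.surj c
    obtain ⟨h0, rfl⟩ := hfs u
    obtain ⟨h, hhr, hfh, -⟩ := exists_regular_lift hr hX.pow f hfk hX.mem hY h0
    rw [← hfh] at hu hcu
    rw [hord h hhr] at hu
    have hgx : Commute (g : G) x := mem_centralizer_singleton_iff.1 g.2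
    refine hno g h hgx h.2.1 hu ?_
    have hth : Commute t (h : G) := S.hyp.comm _ h.2.1
    have htx : Commute t x := mem_centralizer_singleton_iff.1 htC
    have hhx : Commute (h : G) x := mem_centralizer_singleton_iff.1 h.2.2
    have ho : orderOf (t * (h : G)) = 2 * orderOf (h : G) := by
      rw [hth.orderOf_mul_eq_mul_orderOf_of_coprime (by rw [S.hyp.ord]; exact Nat.coprime_two_left.2 hu), S.hyp.ord]
    refine (regular_inj hr hX.pow (y := t * (h : G)) (by rw [ho]; exact not_dvd_two_mul hr hr2 hhr) ?_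
      (htx.mul_left hhx) ?_).symm
    · rw [← MulAut.conj_apply, MulEquiv.orderOf_eq]; exact hsr
    · refine (Q.P.eq_one_iff (h := (⟨t, htC⟩ * ⟨(h : G), h.2.2⟩)⁻¹ * (g * s * g⁻¹))).1 ?_
      rw [map_mul, map_inv, map_mul, map_mul, map_mul, map_inv, hcu, htπ, ← toImg_coe, inv_mul_cancel]
  · intro i
    refine ⟨1, -((q : ℤ) ^ 2), fun h => hr.not_dvd_one (by exact_mod_cast h), fun h =>
      hrq ((Nat.prime_iff_prime_int.1 hr).dvd_of_dvd_pow ((dvd_neg).1 h)), ?_⟩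
    rw [onG_infl Q.P (γ i) htC, htπ, deg_infl, Int.cast_one, mul_one, hunit i]
    push_cast
    ring
  · rw [deg_infl, hdS]
    exact fun h => hrq (Int.natCast_dvd_natCast.2 (hr.dvd_of_dvd_pow h))
  · intro y hyE hyx
    set h : ↥(E ⊓ centralizer ({x} : Set G)) := ⟨y, hyE, mem_centralizer_singleton_iff.2 hyx.eq⟩
    obtain ⟨h', hh', -, j, hj⟩ := exists_regular_lift hr hX.pow f hfk hX.mem hY h
    exact ⟨j, by rw [← show (h' : G) = x ^ j * y from hj]; exact hh'⟩
  · haveI : Fact r.Prime := ⟨hr⟩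
    obtain ⟨i, hi⟩ := hX.pow
    have hz : ((Fintype.card F : ℤ) : ZMod r) = ((q : ℤ) : ZMod r) := by
      rw [Int.cast_natCast, Int.cast_natCast, hL.card, Nat.cast_pow, hi, ZMod.pow_card_pow]
    rw [signedCard, if_neg (by omega), dvd_neg, neg_sq]
    simp only [← ZMod.intCast_zmod_eq_zero_iff_dvd, Int.cast_sub, Int.cast_pow, Int.cast_one, hz] at hrq hrsq ⊢
    exact ⟨hrq, hrsq⟩

end Cfsg.Lib.Ree.Field.RAdic
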