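import Cfsg.Agent.Ree.Field.RAdic.Spec
import Cfsg.Agent.Ree.Field.Basic
import Cfsg.Agent.Chars.Count
import Cfsg.Agent.Blocks.Orth2

/-!
The group facts for the `r`-adic argument: the linear character of `E/E₀`, the regular elements of `C_E(x)`, the
fusion of the sections of `x` and `t`.
-/

set_option autoImplicit false
set_option linter.style.haveILetI false
set_option linter.unusedSectionVars false

namespace Cfsg.Lib.Ree.Field.RAdic

open Subgroup Cfsg
open scoped ComplexConjugate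
open scoped _root_.Classical

universe u

/-- The hypotheses of the argument. -/
structure Ctx {G : Type u} [Group G] [Fintype G] (t : G) (E E₀ : Subgroup G) [Fintype E] (F : Type) [Field F]
    [Fintype F] {M : Ideal AlgInt} (T : Twist.KTable E M) (r : ℕ) (x : G) : Prop where
  J : JRSetting t E E₀ F
  hM : IsPModular 2 M
  tw : TwistFacts t E E₀ F T
  abel : ∀ a ∈ E, ∀ b ∈ E, a * b * a⁻¹ * b⁻¹ ∈ E₀
  conj_t : ∀ s : G, orderOf s = 2 → Commute s x → ∃ g : G, Commute g x ∧ g * t * g⁻¹ = s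
  not_conj : ∀ (g : G) (i : ℕ), g * x * g⁻¹ = x ^ i → g * x * g⁻¹ = x
  prime : r.Prime
  r3 : r ≠ 3
  mem : x ∈ E
  comm_t : Commute x t
  ne : x ≠ 1
  pow : ∃ a : ℕ, orderOf x = r ^ a
  inter : zpowers x ⊓ E₀ = ⊥
  gen : ¬ r ∣ (zpowers x ⊔ E₀).relIndex E
  cen_reg : ∀ y ∈ E, Commute y x → ∃ j : ℕ, ¬ r ∣ orderOf (x ^ j * y)

variable {G : Type u} [Group G] [Fintype G]

/-- A function on `E` as a function on `G`. -/
noncomputable def extFun (E : Subgroup G) (ψ : E → ℂ) : G → ℂ := Function.extend Subtype.val ψ 0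

theorem extFun_coe (E : Subgroup G) (ψ : E → ℂ) (y : E) : extFun E ψ y = ψ y :=
  Subtype.val_injective.extend_apply ψ 0 y

theorem extFun_mk (E : Subgroup G) (ψ : E → ℂ) {y : G} (hy : y ∈ E) : extFun E ψ y = ψ ⟨y, hy⟩ :=
  extFun_coe E ψ ⟨y, hy⟩

/-- The second orthogonality as a number of conjugating elements. -/
theorem sum_mul_conj_eq_card (a b : G) :
    ∑ χ : IrrCharacter G, (χ : G → ℂ) a * conj ((χ : G → ℂ) b) =
      ((Finset.univ.filter fun g : G => g * b * g⁻¹ = a).card : ℂ) := by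
  rw [Cfsg.Lib.Chars.second_orthogonality]
  by_cases h : IsConj a b
  · rw [if_pos h, Nat.cast_inj, ← Fintype.card_subtype, ← Nat.card_eq_fintype_card]
    obtain ⟨c, hc⟩ := isConj_iff.1 h
    refine Nat.card_congr
      { toFun := fun g => ⟨g.1 * c⁻¹, ?_⟩
        invFun := fun g => ⟨g.1 * c, ?_⟩
        left_inv := fun g => Subtype.ext (inv_mul_cancel_right g.1 c)
        right_inv := fun g => Subtype.ext (mul_inv_cancel_right g.1 c) }
    · have hg := mem_centralizer_singleton_iff.1 g.2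
      rw [show g.1 * c⁻¹ * b * (g.1 * c⁻¹)⁻¹ = g.1 * (c⁻¹ * b * c) * g.1⁻¹ by group, ← hc,
        show c⁻¹ * (c * a * c⁻¹) * c = a by group, hg, mul_inv_cancel_right]
    · obtain ⟨g, hg⟩ := g
      refine mem_centralizer_singleton_iff.2 ?_
      calc g * c * a = g * (c * a * c⁻¹) * g⁻¹ * (g * c) := by group
        _ = a * (g * c) := by rw [hc, hg]
  · rw [if_neg h, Finset.card_eq_zero.2 (Finset.filter_eq_empty_iff.2 fun g _ hg => h ?_), Nat.cast_zero]
    exact (isConj_iff.2 ⟨g, hg⟩).symm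

variable (r : ℕ) (x : G)

/-- The regular elements of `C(x)`. -/
noncomputable def hReg : Finset G := Finset.univ.filter fun s => Commute s x ∧ ¬ r ∣ orderOf s

/-- The regular elements of `C_E(x)`. -/
noncomputable def eReg (E : Subgroup G) : Finset G :=
  Finset.univ.filter fun y => y ∈ E ⊓ centralizer ({x} : Set G) ∧ ¬ r ∣ orderOf y

/-- The average over the regular elements of `C(x)`. -/
noncomputable def hAvg (f : G → ℂ) : ℂ :=
  (orderOf x : ℂ) / (Nat.card ↥(centralizer ({x} : Set G)) : ℂ) * ∑ s ∈ hReg r x, f s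

theorem mem_hReg {s : G} : s ∈ hReg r x ↔ Commute s x ∧ ¬ r ∣ orderOf s := by simp [hReg]

theorem mem_eReg {E : Subgroup G} {y : G} : y ∈ eReg r x E ↔ y ∈ E ∧ Commute y x ∧ ¬ r ∣ orderOf y := by
  simp [eReg, mem_inf, mem_centralizer_singleton_iff, Commute, SemiconjBy, and_assoc]

theorem regAvg_eq_sum (E : Subgroup G) (f : G → ℂ) :
    regAvg r x E f = (orderOf x : ℂ) / (Nat.card ↥(E ⊓ centralizer ({x} : Set G)) : ℂ) * ∑ y ∈ eReg r x E, f y := by
  rw [regAvg, eReg, Finset.sum_filter]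

variable {r x} {t : G} {E E₀ : Subgroup G} [Fintype E] {F : Type} [Field F] [Fintype F] {M : Ideal AlgInt}
  {T : Twist.KTable E M}

namespace Ctx

variable (C : Ctx t E E₀ F T r x)
include C

theorem S : Twist.Setting t E E₀ F := C.J.twist

theorem exists_pow : ∃ a : ℕ, orderOf x = r ^ (a + 1) := by
  obtain ⟨a, ha⟩ := C.pow
  refine ⟨a - 1, ?_⟩
  rcases Nat.eq_zero_or_pos a with rfl | h
  · exact absurd (orderOf_eq_one_iff.1 (by simpa using ha)) C.ne
  · rw [ha, Nat.sub_add_cancel h]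

theorem dvd_R : r ∣ orderOf x := by
  obtain ⟨a, ha⟩ := C.exists_pow
  exact ha ▸ dvd_pow_self r a.succ_ne_zero

theorem r_ne_two : r ≠ 2 := by
  rintro rfl
  obtain ⟨a, ha⟩ := C.exists_pow
  have hz : orderOf (x ^ 2 ^ a) = 2 := by
    rw [orderOf_pow' _ (by positivity), ha, Nat.gcd_eq_right (pow_dvd_pow 2 a.le_succ), pow_succ,
      Nat.mul_div_cancel_left _ (by positivity)]
  have hE : (⟨x ^ 2 ^ a, pow_mem C.mem _⟩ : E).1 ∈ E₀ :=
    (C.S.conj_E (a := ⟨x ^ 2 ^ a, pow_mem C.mem _⟩) (b := ⟨x ^ 2 ^ a, pow_mem C.mem _⟩)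
      (by rw [← Subgroup.orderOf_coe]; exact hz) (by rw [← Subgroup.orderOf_coe]; exact hz)).1
  have : x ^ 2 ^ a = 1 := mem_bot.1 (C.inter ▸ mem_inf.2 ⟨pow_mem (mem_zpowers x) _, hE⟩)
  rw [this, orderOf_one] at hz
  omega

theorem odd_r : Odd r := C.prime.odd_of_ne_two C.r_ne_two

theorem five_le : 5 ≤ r := by
  have h2 := C.r_ne_two
  have h3 := C.r3
  have := C.prime.two_le
  rcases Nat.lt_or_ge r 5 with h | h
  · interval_cases r <;> first | omega | exact absurd C.prime (by norm_num)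
  · exact h

theorem odd_R : Odd (orderOf x) := by
  obtain ⟨a, ha⟩ := C.exists_pow
  exact ha ▸ C.odd_r.pow

theorem coprime_of_not_dvd {n : ℕ} (h : ¬ r ∣ n) : (orderOf x).Coprime n := by
  obtain ⟨a, ha⟩ := C.exists_pow
  exact ha ▸ (C.prime.coprime_iff_not_dvd.2 h).pow_left _

theorem coprime_pow {k : ℕ} (hk : k.Coprime r) : k.Coprime (orderOf x) :=
  (C.coprime_of_not_dvd (C.prime.coprime_iff_not_dvd.1 hk.symm)).symm

/-- The powers of `x` of order prime to `r` are trivial. -/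
theorem pow_regular {j : ℕ} (h : ¬ r ∣ orderOf (x ^ j)) : x ^ j = 1 :=
  orderOf_eq_one_iff.1 (Nat.Coprime.eq_one_of_dvd (C.coprime_of_not_dvd h).symm
    (orderOf_dvd_of_pow_eq_one (by rw [← pow_mul, mul_comm, pow_mul, pow_orderOf_eq_one, one_pow])))

/-- The `r`-part of the product. -/
theorem isPPart {s : G} (hc : Commute s x) (hs : ¬ r ∣ orderOf s) (k : ℕ) :
    IsPPart r (x ^ k * s) (x ^ k) := by
  refine ⟨s, rfl, (hc.symm.pow_left k), ?_, hs⟩
  obtain ⟨a, ha⟩ := C.exists_pow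
  obtain ⟨b, -, hb⟩ := (Nat.dvd_prime_pow C.prime).1
    (ha ▸ orderOf_pow_dvd (x := x) k : orderOf (x ^ k) ∣ r ^ (a + 1))
  exact ⟨b, hb⟩

/-- Elements of the section of `x` are conjugate only in `C(x)`. -/
theorem conj_section {k l : ℕ} (hk : k.Coprime r) {s s' g : G} (hs : s ∈ hReg r x) (hs' : s' ∈ hReg r x)
    (h : g * (x ^ k * s) * g⁻¹ = x ^ l * s') : Commute g x ∧ x ^ k = x ^ l ∧ g * s * g⁻¹ = s' := by
  obtain ⟨hsc, hsr⟩ := (mem_hReg r x).1 hs
  obtain ⟨hsc', hsr'⟩ := (mem_hReg r x).1 hs'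
  have h1 : IsPPart r (g * (x ^ k * s) * g⁻¹) (g * x ^ k * g⁻¹) := by
    obtain ⟨w, hw, hcw, ⟨b, hb⟩, hwr⟩ := C.isPPart hsc hsr k
    exact ⟨g * w * g⁻¹, by rw [← hw]; group, hcw.map (MulAut.conj g).toMonoidHom,
      ⟨b, by rw [← MulAut.conj_apply, MulEquiv.orderOf_eq, hb]⟩, by rw [← MulAut.conj_apply, MulEquiv.orderOf_eq]; exact hwr⟩
  have e : g * x ^ k * g⁻¹ = x ^ l := Cfsg.Lib.Blocks.IsPPart.eq C.prime h1 (by rw [h]; exact C.isPPart hsc' hsr' l)
  obtain ⟨m, -, hm⟩ := Nat.exists_mul_mod_eq_one_of_coprime (C.coprime_pow hk)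
    (by
      obtain ⟨a, ha⟩ := C.exists_pow
      exact ha ▸ Nat.one_lt_pow a.succ_ne_zero C.prime.one_lt)
  have hxk : (x ^ k) ^ m = x := by rw [← pow_mul, ← pow_mod_orderOf, hm, pow_one]
  have hgx : g * x * g⁻¹ = x := by
    refine C.not_conj g (l * m) ?_
    rw [pow_mul, ← e, conj_pow, hxk]
  have hc : Commute g x := mul_inv_eq_iff_eq_mul.1 hgx
  have hkl : x ^ k = x ^ l := by rw [← e, (hc.pow_right k).eq, mul_inv_cancel_right]
  refine ⟨hc, hkl, ?_⟩
  rw [show g * (x ^ k * s) * g⁻¹ = g * x ^ k * g⁻¹ * (g * s * g⁻¹) by group, e] at h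
  exact mul_left_cancel h

theorem hReg_conj {c s : G} (hc : Commute c x) (hs : s ∈ hReg r x) : c * s * c⁻¹ ∈ hReg r x := by
  obtain ⟨h1, h2⟩ := (mem_hReg r x).1 hs
  exact (mem_hReg r x).2 ⟨(hc.mul_left h1).mul_left hc.inv_left,
    by rw [← MulAut.conj_apply, MulEquiv.orderOf_eq]; exact h2⟩

theorem exists_nu : ∃ ν : E →* ℂˣ, (∀ y : E, (y : G) ∈ E₀ → ν y = 1) ∧
    IsPrimitiveRoot (ν ⟨x, C.mem⟩ : ℂ) (orderOf x) ∧
    ∀ y : E, ¬ r ∣ orderOf y → ν y = 1 := by
  haveI hnor : (E₀.subgroupOf E).Normal := ⟨fun w hw g => C.J.hyp.norm g g.2 w (mem_subgroupOf.1 hw)⟩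
  have hab : ∀ a b : E ⧸ E₀.subgroupOf E, a * b = b * a := by
    intro a b
    induction a using QuotientGroup.induction_on with | H a => ?_
    induction b using QuotientGroup.induction_on with | H b => ?_
    rw [← QuotientGroup.mk_mul, ← QuotientGroup.mk_mul, QuotientGroup.eq, mem_subgroupOf]
    have h := C.abel (b : G)⁻¹ (inv_mem b.2) (a : G)⁻¹ (inv_mem a.2)
    simpa [mul_assoc] using h
  letI : CommGroup (E ⧸ E₀.subgroupOf E) := { mul_comm := hab }
  obtain ⟨a, ha⟩ := C.exists_pow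
  set q : E →* E ⧸ E₀.subgroupOf E := QuotientGroup.mk' _ with hq
  set z : E := ⟨x, C.mem⟩ ^ r ^ a with hz
  have hzne : q z ≠ 1 := by
    intro h
    rw [hq, QuotientGroup.mk'_apply, QuotientGroup.eq_one_iff, mem_subgroupOf, hz, SubmonoidClass.coe_pow] at h
    have h1 : x ^ r ^ a = 1 := mem_bot.1 (C.inter ▸ mem_inf.2 ⟨pow_mem (mem_zpowers x) _, h⟩)
    have := Nat.le_of_dvd (pow_pos C.prime.pos _) (ha ▸ orderOf_dvd_of_pow_eq_one h1 : r ^ (a + 1) ∣ r ^ a)
    exact absurd this (not_le.2 (Nat.pow_lt_pow_right C.prime.one_lt a.lt_succ_self))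
  haveI : NeZero (Monoid.exponent (E ⧸ E₀.subgroupOf E)) := ⟨Monoid.exponent_ne_zero_of_finite⟩
  obtain ⟨χ, hχ⟩ := CommGroup.exists_apply_ne_one_of_hasEnoughRootsOfUnity (E ⧸ E₀.subgroupOf E) ℂ hzne
  set u := (zpowers x ⊔ E₀).relIndex E with hu
  have hpow : ∀ y : E, ∃ i : ℕ, q y ^ u = q ⟨x, C.mem⟩ ^ i := by
    intro y
    haveI : ((zpowers x ⊔ E₀).subgroupOf E).Normal := ⟨fun w hw g => by
      rw [mem_subgroupOf] at hw ⊢
      rw [show ((g * w * g⁻¹ : E) : G) = ((g : G) * w * (g : G)⁻¹ * (w : G)⁻¹) * w by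
        simp [mul_assoc]]
      exact mul_mem (mem_sup_right (C.abel _ g.2 _ w.2)) hw⟩
    have hy := Subgroup.pow_index_mem ((zpowers x ⊔ E₀).subgroupOf E) y
    rw [mem_subgroupOf, ← Subgroup.relIndex, ← hu, SubmonoidClass.coe_pow] at hy
    have hle : zpowers x ≤ normalizer (E₀ : Set G) := zpowers_le.2 (mem_normalizer_iff.2 fun w =>
      ⟨fun hw => C.J.hyp.norm x C.mem w hw, fun hw => by simpa [mul_assoc] using C.J.hyp.norm' C.mem hw⟩)
    rw [← SetLike.mem_coe, coe_mul_of_left_le_normalizer_right _ _ hle] at hy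
    obtain ⟨v, hv, e, he, hve⟩ := Set.mem_mul.1 hy
    obtain ⟨i, rfl⟩ := (isOfFinOrder_of_finite x).mem_powers_iff_mem_zpowers.2 hv
    refine ⟨i, ?_⟩
    rw [← map_pow, ← map_pow, hq, QuotientGroup.mk'_apply, QuotientGroup.mk'_apply, QuotientGroup.eq,
      mem_subgroupOf]
    simp only [coe_mul, coe_inv, SubmonoidClass.coe_pow]
    rw [← hve]
    have : (x ^ i * e)⁻¹ * x ^ i = e⁻¹ := by group
    rw [this]
    exact inv_mem he
  set ν : E →* ℂˣ := (χ.comp q) ^ u with hν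
  have hxR : ν ⟨x, C.mem⟩ ^ orderOf x = 1 := by
    rw [← map_pow, show (⟨x, C.mem⟩ : E) ^ orderOf x = 1 from Subtype.ext (by simp [pow_orderOf_eq_one]), map_one]
  have hRall : ∀ y : E, ν y ^ orderOf x = 1 := by
    intro y
    obtain ⟨i, hi⟩ := hpow y
    rw [hν, MonoidHom.pow_apply, MonoidHom.comp_apply, ← map_pow, hi, map_pow, ← pow_mul, mul_comm, pow_mul,
      ← map_pow χ, ← map_pow q, show (⟨x, C.mem⟩ : E) ^ orderOf x = 1 from Subtype.ext (by simp [pow_orderOf_eq_one]),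
      map_one, map_one, one_pow]
  refine ⟨ν, fun y hy => ?_, ?_, fun y hy => ?_⟩
  · rw [hν, MonoidHom.pow_apply, MonoidHom.comp_apply,
      show q y = 1 from (QuotientGroup.eq_one_iff y).2 (mem_subgroupOf.2 hy), map_one, one_pow]
  · refine IsPrimitiveRoot.coe_units_iff.2 (IsPrimitiveRoot.iff_orderOf.2 ?_)
    obtain ⟨j, hj, hord⟩ := (Nat.dvd_prime_pow C.prime).1
      (ha ▸ orderOf_dvd_of_pow_eq_one hxR : orderOf (ν ⟨x, C.mem⟩) ∣ r ^ (a + 1))
    rcases hj.lt_or_eq with hlt | rfl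
    · exfalso
      have h1 : ν z = 1 := by
        rw [hz, map_pow, ← orderOf_dvd_iff_pow_eq_one, hord]
        exact pow_dvd_pow r (Nat.lt_succ_iff.1 hlt)
      rw [hν, MonoidHom.pow_apply, MonoidHom.comp_apply] at h1
      have h2 : χ (q z) ^ orderOf x = 1 := by
        rw [← map_pow, ← map_pow, hz, ← pow_mul, mul_comm, pow_mul,
          show (⟨x, C.mem⟩ : E) ^ orderOf x = 1 from Subtype.ext (by simp [pow_orderOf_eq_one]), one_pow, map_one,
          map_one]
      exact hχ (orderOf_eq_one_iff.1 (Nat.Coprime.eq_one_of_dvd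
        ((C.coprime_of_not_dvd C.gen).symm.coprime_dvd_left (orderOf_dvd_of_pow_eq_one h1))
        (orderOf_dvd_of_pow_eq_one h2)))
    · rw [hord, ha]
  · exact orderOf_eq_one_iff.1 (Nat.Coprime.eq_one_of_dvd
      ((C.coprime_of_not_dvd hy).symm.coprime_dvd_left (orderOf_map_dvd ν y))
      (orderOf_dvd_of_pow_eq_one (hRall y)))

theorem exists_decomp {y : G} (hy : y ∈ E) (hc : Commute y x) :
    ∃ (i : ℕ) (y' : G), i < orderOf x ∧ y' ∈ eReg r x E ∧ y = x ^ i * y' := by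
  obtain ⟨j, hj⟩ := C.cen_reg y hy hc
  have hR : 0 < orderOf x := orderOf_pos x
  refine ⟨(orderOf x - j % orderOf x) % orderOf x, x ^ j * y, Nat.mod_lt _ hR,
    (mem_eReg r x).2 ⟨mul_mem (pow_mem C.mem _) hy, ((Commute.refl x).pow_left j).mul_left hc, hj⟩, ?_⟩
  rw [← mul_assoc, pow_mod_orderOf, ← pow_mod_orderOf x j, ← pow_add,
    Nat.sub_add_cancel (Nat.mod_lt j hR).le, pow_orderOf_eq_one, one_mul]

theorem card_eReg : Nat.card ↥(E ⊓ centralizer ({x} : Set G)) = orderOf x * (eReg r x E).card := by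
  obtain ⟨ν, -, hprim, hreg⟩ := C.exists_nu
  rw [← Fintype.card_coe, ← Fintype.card_fin (orderOf x), ← Fintype.card_prod, ← Nat.card_eq_fintype_card]
  refine (Nat.card_congr (Equiv.ofBijective
    (fun w : Fin (orderOf x) × eReg r x E => (⟨x ^ (w.1 : ℕ) * (w.2 : G), ?_⟩ :
      ↥(E ⊓ centralizer ({x} : Set G)))) ⟨?_, ?_⟩)).symm
  · obtain ⟨h1, h2, -⟩ := (mem_eReg r x).1 w.2.2
    exact mem_inf.2 ⟨mul_mem (pow_mem C.mem _) h1,
      mem_centralizer_singleton_iff.2 (((Commute.refl x).pow_left _).mul_left h2).eq⟩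
  · rintro ⟨i, y⟩ ⟨i', y'⟩ h
    have h' : x ^ (i : ℕ) * (y : G) = x ^ (i' : ℕ) * y' := congrArg Subtype.val h
    obtain ⟨h1, -, h3⟩ := (mem_eReg r x).1 y.2
    obtain ⟨h1', -, h3'⟩ := (mem_eReg r x).1 y'.2
    have he : (⟨x, C.mem⟩ : E) ^ (i : ℕ) * ⟨y, h1⟩ = ⟨x, C.mem⟩ ^ (i' : ℕ) * ⟨y', h1'⟩ := Subtype.ext (by simpa using h')
    have hn := congrArg ν he
    rw [map_mul, map_mul, map_pow, map_pow, hreg ⟨y, h1⟩ (by rw [← Subgroup.orderOf_coe]; exact h3),
      hreg ⟨y', h1'⟩ (by rw [← Subgroup.orderOf_coe]; exact h3'), mul_one, mul_one] at hn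
    have hii : i = i' := Fin.ext (hprim.pow_inj i.2 i'.2 (by exact_mod_cast congrArg Units.val hn))
    subst hii
    exact Prod.ext rfl (Subtype.ext (mul_left_cancel h'))
  · rintro ⟨y, hy⟩
    obtain ⟨i, y', hi, hy', rfl⟩ := C.exists_decomp (mem_inf.1 hy).1 (mem_centralizer_singleton_iff.1 (mem_inf.1 hy).2)
    exact ⟨(⟨i, hi⟩, ⟨y', hy'⟩), rfl⟩

theorem eReg_not_dvd : ¬ r ∣ (eReg r x E).card := by
  intro h
  haveI : Fact r.Prime := ⟨C.prime⟩
  obtain ⟨ν, -, hprim, hreg⟩ := C.exists_nu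
  let K : Subgroup E := ν.ker ⊓ (centralizer ({x} : Set G)).subgroupOf E
  have hK : ∀ y : E, y ∈ K ↔ (y : G) ∈ eReg r x E := by
    intro y
    simp only [K, mem_inf, MonoidHom.mem_ker, mem_subgroupOf, mem_centralizer_singleton_iff, mem_eReg]
    refine ⟨fun ⟨h1, h2⟩ => ⟨y.2, h2, ?_⟩,
      fun ⟨_, h2, h3⟩ => ⟨hreg y (by rw [← Subgroup.orderOf_coe]; exact h3), h2⟩⟩
    obtain ⟨i, y', hi, hy', he⟩ := C.exists_decomp y.2 h2
    obtain ⟨h1', -, h3'⟩ := (mem_eReg r x).1 hy'
    have he' : y = ⟨x, C.mem⟩ ^ i * ⟨y', h1'⟩ := Subtype.ext (by simpa using he)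
    rw [he', map_mul, map_pow, hreg ⟨y', h1'⟩ (by rw [← Subgroup.orderOf_coe]; exact h3'), mul_one] at h1
    have hi0 : i = 0 := hprim.pow_inj hi (orderOf_pos x) (by
      rw [pow_zero, ← Units.val_pow_eq_pow_val, h1, Units.val_one])
    rw [he, hi0, pow_zero, one_mul]
    exact h3'
  have hc : (eReg r x E).card = Nat.card K := by
    rw [← Fintype.card_coe, ← Nat.card_eq_fintype_card]
    exact Nat.card_congr
      { toFun := fun y => ⟨⟨y.1, ((mem_eReg r x).1 y.2).1⟩, (hK _).2 y.2⟩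
        invFun := fun y => ⟨((y : E) : G), (hK _).1 y.2⟩
        left_inv := fun y => rfl
        right_inv := fun y => rfl }
  obtain ⟨y, hy⟩ := exists_prime_orderOf_dvd_card' (G := K) r (hc ▸ h)
  refine ((mem_eReg r x).1 ((hK y.1).1 y.2)).2.2 ?_
  rw [Subgroup.orderOf_coe, Subgroup.orderOf_coe, hy]

theorem eReg_pos : 0 < (eReg r x E).card :=
  Nat.pos_of_ne_zero fun h => C.eReg_not_dvd (h ▸ dvd_zero r)

theorem regAvg_eq_inv (f : G → ℂ) :
    regAvg r x E f = ((eReg r x E).card : ℂ)⁻¹ * ∑ y ∈ eReg r x E, f y := by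
  rw [regAvg_eq_sum, C.card_eReg, Nat.cast_mul]
  have : (orderOf x : ℂ) ≠ 0 := Nat.cast_ne_zero.2 (orderOf_pos x).ne'
  field_simp

/-- The elements of `C(x)` moving `t` to a given involution. -/
theorem card_transport {g : G} (hg : Commute (g * t * g⁻¹) x) :
    (Finset.univ.filter fun c : G => Commute c x ∧ c * t * c⁻¹ = g * t * g⁻¹).card =
      2 * Nat.card ↥(E ⊓ centralizer ({x} : Set G)) := by
  obtain ⟨c₀, hc₀, e⟩ := C.conj_t _ (by rw [← MulAut.conj_apply, MulEquiv.orderOf_eq, C.J.hyp.ord]) hg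
  rw [← Fintype.card_subtype, ← Nat.card_eq_fintype_card,
    show (2 : ℕ) = Nat.card Bool by rw [Nat.card_eq_fintype_card, Fintype.card_bool], ← Nat.card_prod]
  symm
  refine Nat.card_congr (Equiv.ofBijective
    (fun w : Bool × ↥(E ⊓ centralizer ({x} : Set G)) =>
      (⟨c₀ * ((if w.1 then t else 1) * (w.2 : G)), ?_, ?_⟩ :
        {c : G // Commute c x ∧ c * t * c⁻¹ = g * t * g⁻¹})) ⟨?_, ?_⟩)
  · have hw : Commute (w.2 : G) x := mem_centralizer_singleton_iff.1 (mem_inf.1 w.2.2).2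
    refine hc₀.mul_left ?_
    cases w.1
    · simpa using hw
    · simpa using C.comm_t.symm.mul_left hw
  · have hw : Commute t ((if w.1 then t else 1) * (w.2 : G)) := by
      refine Commute.mul_right ?_ (C.J.hyp.comm _ (mem_inf.1 w.2.2).1)
      cases w.1 <;> simp
    rw [← e, show c₀ * ((if w.1 then t else 1) * (w.2 : G)) * t * (c₀ * ((if w.1 then t else 1) * (w.2 : G)))⁻¹ =
      c₀ * (((if w.1 then t else 1) * (w.2 : G)) * t * ((if w.1 then t else 1) * (w.2 : G))⁻¹) * c₀⁻¹ by group,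
      ← hw.eq, mul_inv_cancel_right]
  · rintro ⟨b, y⟩ ⟨b', y'⟩ h
    have h' := mul_left_cancel (congrArg Subtype.val h)
    have h'' := C.S.equivC.injective (a₁ := (b, ⟨y, (mem_inf.1 y.2).1⟩)) (a₂ := (b', ⟨y', (mem_inf.1 y'.2).1⟩))
      (Subtype.ext h')
    simp only [Prod.mk.injEq, Subtype.mk.injEq] at h''
    exact Prod.ext h''.1 (Subtype.ext h''.2)
  · rintro ⟨c, hc, hce⟩
    have hcomm : Commute t (c₀⁻¹ * c) := by
      refine (mul_inv_eq_iff_eq_mul.1 ?_).symm
      rw [show c₀⁻¹ * c * t * (c₀⁻¹ * c)⁻¹ = c₀⁻¹ * (c * t * c⁻¹) * c₀ by group, hce, ← e]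
      group
    obtain ⟨⟨b, y⟩, hby⟩ := C.S.equivC.surjective ⟨c₀⁻¹ * c, C.S.mem_C.2 hcomm⟩
    have hby' : (if b then t else 1) * (y : G) = c₀⁻¹ * c := congrArg Subtype.val hby
    have hyx : Commute (y : G) x := by
      have h1 : Commute ((if b then t else 1) * (y : G)) x := hby' ▸ hc₀.inv_left.mul_left hc
      cases b
      · simpa using h1
      · have h3 := C.comm_t.symm.inv_left.mul_left (show Commute (t * (y : G)) x by simpa using h1)
        rwa [inv_mul_cancel_left] at h3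
    refine ⟨(b, ⟨y, mem_inf.2 ⟨y.2, mem_centralizer_singleton_iff.2 hyx.eq⟩⟩), Subtype.ext ?_⟩
    show c₀ * ((if b then t else 1) * (y : G)) = c
    rw [hby', mul_inv_cancel_left]

theorem not_dvd_mul_t {y : G} (hy : Commute t y) : ¬ r ∣ orderOf y → ¬ r ∣ orderOf (t * y) := fun h hd => by
  have := (hd.trans hy.orderOf_mul_dvd_lcm).trans (Nat.lcm_dvd_mul _ _)
  rw [C.J.hyp.ord] at this
  rcases C.prime.dvd_mul.1 this with h2 | h2
  · exact C.r_ne_two ((Nat.prime_dvd_prime_iff_eq C.prime Nat.prime_two).1 h2)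
  · exact h h2

theorem t_mul_mem {y : G} (hy : y ∈ eReg r x E) : t * y ∈ hReg r x := by
  obtain ⟨h1, h2, h3⟩ := (mem_eReg r x).1 hy
  exact (mem_hReg r x).2 ⟨C.comm_t.symm.mul_left h2, C.not_dvd_mul_t (C.J.hyp.comm _ h1) h3⟩

theorem card_H_ne : (Nat.card ↥(centralizer ({x} : Set G)) : ℂ) ≠ 0 := Nat.cast_ne_zero.2 Nat.card_pos.ne'

theorem card_I_ne : (Nat.card ↥(E ⊓ centralizer ({x} : Set G)) : ℂ) ≠ 0 := Nat.cast_ne_zero.2 Nat.card_pos.ne'

theorem card_E_ne : (Nat.card E : ℂ) ≠ 0 := Nat.cast_ne_zero.2 Nat.card_pos.ne'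

theorem card_centralizer_filter :
    ((Finset.univ.filter fun c : G => Commute c x).card : ℂ) = (Nat.card ↥(centralizer ({x} : Set G)) : ℂ) := by
  rw [Nat.cast_inj, ← Fintype.card_subtype, ← Nat.card_eq_fintype_card]
  exact Nat.card_congr (Equiv.subtypeEquivRight fun c => ⟨fun h => mem_centralizer_singleton_iff.2 h.eq,
    fun h => mem_centralizer_singleton_iff.1 h⟩)

/-- The section sum: a class function supported on the conjugates of `t · E₂'`. -/
theorem sum_support (Φ : G → ℂ) (hΦ : ∀ c s, Commute c x → s ∈ hReg r x → Φ (c * s * c⁻¹) = Φ s)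
    (hsup : ∀ s ∈ hReg r x, (∀ g y : G, Commute g x → y ∈ E → Odd (orderOf y) → g * s * g⁻¹ ≠ t * y) → Φ s = 0) :
    hAvg r x Φ = 2⁻¹ * regAvg r x E fun y => if Odd (orderOf y) then Φ (t * y) else 0 := by
  set I : ℂ := (Nat.card ↥(E ⊓ centralizer ({x} : Set G)) : ℂ) with hI
  have key : ∀ s ∈ hReg r x, (2 * I) * Φ s = ∑ c ∈ Finset.univ.filter (fun c : G => Commute c x),
      if c⁻¹ * s * c ∈ (eReg r x E).image (t * ·) ∧ Odd (orderOf (t * (c⁻¹ * s * c))) then Φ s else 0 := by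
    intro s hs
    by_cases hS : ∃ g y : G, Commute g x ∧ y ∈ E ∧ Odd (orderOf y) ∧ g * s * g⁻¹ = t * y
    · obtain ⟨g, y, hg, hy, hyo, hgy⟩ := hS
      have hty : t * (t * y) = y := by rw [← mul_assoc, C.J.hyp.tt, one_mul]
      have hyreg : y ∈ eReg r x E := by
        obtain ⟨hc, hr⟩ := (mem_hReg r x).1 (hgy ▸ C.hReg_conj hg hs : t * y ∈ hReg r x)
        refine (mem_eReg r x).2 ⟨hy, ?_, ?_⟩
        · rw [← hty]; exact C.comm_t.symm.mul_left hc
        · rw [← hty]; exact C.not_dvd_mul_t ((Commute.refl t).mul_right (C.J.hyp.comm _ hy)) hr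
      have hfilter : ((Finset.univ.filter fun c : G => Commute c x).filter fun c =>
          c⁻¹ * s * c ∈ (eReg r x E).image (t * ·) ∧ Odd (orderOf (t * (c⁻¹ * s * c)))) =
          Finset.univ.filter fun c : G => Commute c x ∧ c * t * c⁻¹ = g⁻¹ * t * g⁻¹⁻¹ := by
        ext c
        simp only [Finset.mem_filter, Finset.mem_univ, true_and]
        constructor
        · rintro ⟨hc, hmem, hodd⟩
          obtain ⟨y', hy', hce⟩ := Finset.mem_image.1 hmem
          rw [← hce, ← mul_assoc, C.J.hyp.tt, one_mul] at hodd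
          refine ⟨hc, ?_⟩
          have hy'E := ((mem_eReg r x).1 hy').1
          have h : (c⁻¹ * g⁻¹) * (t * y) * (c⁻¹ * g⁻¹)⁻¹ = t * y' := by rw [← hgy, hce]; group
          obtain ⟨hcom, -⟩ := C.S.commute_of_conj (y := ⟨y, hy⟩) (y' := ⟨y', hy'E⟩)
            (by rw [← Subgroup.orderOf_coe]; exact hyo) (by rw [← Subgroup.orderOf_coe]; exact hodd) h
          calc c * t * c⁻¹ = c * (t * (c⁻¹ * g⁻¹)) * g := by group
            _ = c * (c⁻¹ * g⁻¹ * t) * g := by rw [hcom.eq]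
            _ = g⁻¹ * t * g⁻¹⁻¹ := by group
        · rintro ⟨hc, hct⟩
          refine ⟨hc, ?_⟩
          have hd : Commute t (g * c) := by
            refine (mul_inv_eq_iff_eq_mul.1 ?_).symm
            rw [show g * c * t * (g * c)⁻¹ = g * (c * t * c⁻¹) * g⁻¹ by group, hct]
            group
          obtain ⟨⟨b, e⟩, hbe⟩ := C.S.equivC.surjective ⟨g * c, C.S.mem_C.2 hd⟩
          set e' := (g * c)⁻¹ * y * (g * c) with he'
          have he'E : e' ∈ E := by
            have : ((if b then t else 1) * (e : G)) = g * c := congrArg Subtype.val hbe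
            rw [he', ← this]
            cases b
            · simpa using mul_mem (mul_mem (inv_mem e.2) hy) e.2
            · simp only [if_true, mul_inv_rev, C.J.hyp.t_inv]
              rw [show (e : G)⁻¹ * t * y * (t * (e : G)) = (e : G)⁻¹ * (t * y * t) * e by group,
                (C.J.hyp.comm _ hy).eq, mul_assoc y, C.J.hyp.tt, mul_one]
              exact mul_mem (mul_mem (inv_mem e.2) hy) e.2
          have e1 : c⁻¹ * s * c = t * e' := by
            calc c⁻¹ * s * c = (g * c)⁻¹ * (g * s * g⁻¹) * (g * c) := by group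
              _ = ((g * c)⁻¹ * t * (g * c)) * e' := by rw [hgy, he']; group
              _ = t * e' := by rw [mul_assoc _ t, hd.eq, inv_mul_cancel_left]
          have he'o : orderOf e' = orderOf y := by
            rw [he', show (g * c)⁻¹ * y * (g * c) = MulAut.conj (g * c)⁻¹ y by simp [mul_assoc], MulEquiv.orderOf_eq]
          refine ⟨Finset.mem_image.2 ⟨e', (mem_eReg r x).2 ⟨he'E, ?_, ?_⟩, e1.symm⟩, ?_⟩
          · rw [he']
            exact (((hg.mul_left hc).inv_left).mul_left ((mem_eReg r x).1 hyreg).2.1).mul_left (hg.mul_left hc)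
          · rw [he'o]; exact ((mem_eReg r x).1 hyreg).2.2
          · rw [e1, ← mul_assoc, C.J.hyp.tt, one_mul, he'o]; exact hyo
      rw [← Finset.sum_filter, hfilter, Finset.sum_const, nsmul_eq_mul, C.card_transport, Nat.cast_mul, hI]
      · norm_num
      · rw [inv_inv]
        exact (hg.inv_left.mul_left C.comm_t.symm).mul_left hg
    · push Not at hS
      rw [hsup s hs hS, mul_zero, Finset.sum_eq_zero fun c _ => by split_ifs <;> rfl]
  have inner : ∀ c ∈ Finset.univ.filter (fun c : G => Commute c x), ∑ s ∈ hReg r x,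
      (if c⁻¹ * s * c ∈ (eReg r x E).image (t * ·) ∧ Odd (orderOf (t * (c⁻¹ * s * c))) then Φ s else 0) =
      ∑ y ∈ eReg r x E, if Odd (orderOf y) then Φ (t * y) else 0 := by
    intro c hc
    have hc' : Commute c x := (Finset.mem_filter.1 hc).2
    rw [← Finset.sum_filter, ← Finset.sum_filter]
    refine Finset.sum_bij' (fun s _ => t * (c⁻¹ * s * c)) (fun y _ => c * (t * y) * c⁻¹)
      (fun s hs => ?_) (fun y hy => ?_) (fun s hs => ?_) (fun y hy => ?_) fun s hs => ?_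
    · obtain ⟨hsH, hmem, hodd⟩ := Finset.mem_filter.1 hs |>.imp id id
      obtain ⟨y, hy, he⟩ := Finset.mem_image.1 hmem
      refine Finset.mem_filter.2 ⟨?_, hodd⟩
      rw [← he, ← mul_assoc, C.J.hyp.tt, one_mul]
      exact hy
    · obtain ⟨hy', hodd⟩ := Finset.mem_filter.1 hy
      refine Finset.mem_filter.2 ⟨C.hReg_conj hc' (C.t_mul_mem hy'), ?_, ?_⟩ <;>
        rw [show c⁻¹ * (c * (t * y) * c⁻¹) * c = t * y by group]
      · exact Finset.mem_image_of_mem _ hy'
      · rwa [← mul_assoc, C.J.hyp.tt, one_mul]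
    · rw [← mul_assoc t t, C.J.hyp.tt, one_mul]; group
    · rw [show c⁻¹ * (c * (t * y) * c⁻¹) * c = t * y by group, ← mul_assoc, C.J.hyp.tt, one_mul]
    · rw [← mul_assoc t t, C.J.hyp.tt, one_mul]
      have h := hΦ c⁻¹ s hc'.inv_left (Finset.mem_filter.1 hs).1
      rw [inv_inv] at h
      exact h.symm
  have tot : (2 * I) * ∑ s ∈ hReg r x, Φ s = (Nat.card ↥(centralizer ({x} : Set G)) : ℂ) *
      ∑ y ∈ eReg r x E, if Odd (orderOf y) then Φ (t * y) else 0 := by
    rw [Finset.mul_sum, Finset.sum_congr rfl key, Finset.sum_comm, Finset.sum_congr rfl inner, Finset.sum_const,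
      nsmul_eq_mul, C.card_centralizer_filter]
  rw [hAvg, regAvg_eq_sum]
  have hIne : I ≠ 0 := C.card_I_ne
  have hHne := C.card_H_ne
  rw [← hI]
  field_simp
  linear_combination (orderOf x : ℂ) * tot

/-- The fusion of the sections of `t` and `x`. -/
theorem sum_fusion {k : ℕ} (hk : k.Coprime r) (Φ : G → ℂ)
    (hΦ : ∀ c s, Commute c x → s ∈ hReg r x → Φ (c * s * c⁻¹) = Φ s) {ψ : E → ℂ} (hψ : IsSpecial ψ) :
    ∑ s ∈ hReg r x, ∑ y : E,
        ((Finset.univ.filter fun g : G => g * (t * y) * g⁻¹ = x ^ k * s).card : ℂ) * (Φ s * ψ y) =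
      (Nat.card ↥(centralizer ({x} : Set G)) : ℂ) * (Nat.card E : ℂ) /
          (Nat.card ↥(E ⊓ centralizer ({x} : Set G)) : ℂ) *
        ∑ y ∈ eReg r x E, Φ (t * y) * extFun E ψ (x ^ k * y) := by
  set I : ℂ := (Nat.card ↥(E ⊓ centralizer ({x} : Set G)) : ℂ) with hI
  set Ct := Finset.univ.filter fun c : G => Commute c x with hCt
  have hxk : Commute t (x ^ k) := C.comm_t.symm.pow_right k
  -- every pair is seen by as many elements of `C(x)` as `t` has there
  have key : ∀ s ∈ hReg r x, ∀ y : E,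
      (2 * I) * (((Finset.univ.filter fun g : G => g * (t * y) * g⁻¹ = x ^ k * s).card : ℂ) * (Φ s * ψ y)) =
      ∑ c ∈ Ct, ∑ g : G, if g * (t * y) * g⁻¹ = x ^ k * s ∧ c * t * c⁻¹ = g * t * g⁻¹ then Φ s * ψ y else 0 := by
    intro s hs y
    by_cases hy : Odd (orderOf y)
    · rw [Finset.sum_comm]
      rw [Finset.card_eq_sum_ones, Nat.cast_sum, Finset.sum_filter, Finset.sum_mul, Finset.mul_sum]
      refine Finset.sum_congr rfl fun g _ => ?_
      by_cases hg : g * (t * y) * g⁻¹ = x ^ k * s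
      · have hcx : Commute (g * t * g⁻¹) x := by
          obtain ⟨m, hm⟩ : ∃ m : ℕ, (t * (y : G)) ^ m = t := by
            refine ⟨orderOf y, ?_⟩
            rw [(C.J.hyp.comm _ y.2).mul_pow, ← Subgroup.orderOf_coe, pow_orderOf_eq_one, mul_one,
              ← pow_mod_orderOf, C.J.hyp.ord, Subgroup.orderOf_coe, Nat.odd_iff.1 hy, pow_one]
          have hc : Commute (x ^ k * s) x := ((Commute.refl x).pow_left k).mul_left ((mem_hReg r x).1 hs).1
          have := hc.pow_left m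
          rwa [← hg, conj_pow, hm] at this
        rw [if_pos hg, Finset.sum_congr rfl (g := fun c => if c * t * c⁻¹ = g * t * g⁻¹ then Φ s * ψ y else 0)
            fun c _ => by simp [hg],
          ← Finset.sum_filter, Finset.filter_filter, Finset.sum_const, nsmul_eq_mul, C.card_transport hcx,
          Nat.cast_mul, hI]
        push_cast
        ring
      · rw [if_neg hg, Finset.sum_eq_zero fun c _ => if_neg fun h => hg h.1]
        simp
    · rw [hψ.2.2 y hy]
      simp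
  have inner : ∀ c ∈ Ct, ∑ s ∈ hReg r x, ∑ y : E, ∑ g : G,
      (if g * (t * y) * g⁻¹ = x ^ k * s ∧ c * t * c⁻¹ = g * t * g⁻¹ then Φ s * ψ y else 0) =
      (2 * Nat.card E : ℂ) * ∑ y ∈ eReg r x E, Φ (t * y) * extFun E ψ (x ^ k * y) := by
    intro c hc
    have hc' : Commute c x := (Finset.mem_filter.1 hc).2
    have hsub : ∀ (s : G) (y : E), ∑ g : G,
        (if g * (t * y) * g⁻¹ = x ^ k * s ∧ c * t * c⁻¹ = g * t * g⁻¹ then Φ s * ψ y else 0) =
        ∑ w : Bool × E, if c * (t * ((w.2 * y * w.2⁻¹ : E) : G)) * c⁻¹ = x ^ k * s then Φ s * ψ y else 0 := by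
      intro s y
      rw [← Equiv.sum_comp (Equiv.mulLeft c) (fun g => if g * (t * y) * g⁻¹ = x ^ k * s ∧
          c * t * c⁻¹ = g * t * g⁻¹ then Φ s * ψ y else 0)]
      have hiff : ∀ d : G, c * t * c⁻¹ = c * d * t * (c * d)⁻¹ ↔ d ∈ centralizer ({t} : Set G) := by
        intro d
        rw [C.S.mem_C, show c * d * t * (c * d)⁻¹ = c * (d * t * d⁻¹) * c⁻¹ by group, mul_left_inj,
          mul_right_inj, eq_comm, mul_inv_eq_iff_eq_mul]
        exact ⟨Eq.symm, Eq.symm⟩
      rw [Finset.sum_congr rfl (g := fun d : G => if d ∈ centralizer ({t} : Set G) then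
        (if c * d * (t * y) * (c * d)⁻¹ = x ^ k * s then Φ s * ψ y else 0) else 0) fun d _ => by
          simp only [Equiv.coe_mulLeft, hiff]
          by_cases h1 : d ∈ centralizer ({t} : Set G) <;> simp [h1]]
      rw [← Finset.sum_filter, Finset.sum_subtype (p := fun d : G => d ∈ centralizer ({t} : Set G))
        (Finset.univ.filter fun d : G => d ∈ centralizer ({t} : Set G)) (fun d => by simp),
        ← C.S.equivC.sum_comp]
      refine Finset.sum_congr rfl fun w _ => ?_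
      have he : c * ((C.S.equivC w : centralizer ({t} : Set G)) : G) * (t * y) *
          (c * ((C.S.equivC w : centralizer ({t} : Set G)) : G))⁻¹ =
          c * (t * ((w.2 * y * w.2⁻¹ : E) : G)) * c⁻¹ := by
        rw [C.S.equivC_apply, Subgroup.coe_mul, Subgroup.coe_mul, Subgroup.coe_inv]
        have h1 := (C.J.hyp.comm _ w.2.2).eq
        cases w.1
        · simp only [Bool.false_eq_true, if_false, one_mul]
          rw [show c * (w.2 : G) * (t * y) * (c * (w.2 : G))⁻¹ = c * ((w.2 : G) * t * y * (w.2 : G)⁻¹) * c⁻¹ by group,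
            ← h1]
          group
        · simp only [if_true]
          have h2 := (C.J.hyp.comm _ (mul_mem (mul_mem w.2.2 y.2) (inv_mem w.2.2))).eq
          have hee : (w.2 : G) * t * y * (w.2 : G)⁻¹ = t * ((w.2 : G) * y * (w.2 : G)⁻¹) := by
            rw [← h1]; group
          rw [show c * (t * (w.2 : G)) * (t * y) * (c * (t * (w.2 : G)))⁻¹ =
            c * (t * ((w.2 : G) * t * y * (w.2 : G)⁻¹) * t⁻¹) * c⁻¹ by group, hee]
          rw [h2, mul_assoc t, mul_inv_cancel_right, ← h2]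
      rw [he]
    rw [Finset.sum_congr rfl fun s _ => Finset.sum_congr rfl fun y _ => hsub s y,
      Finset.sum_congr rfl fun s _ => Finset.sum_comm, Finset.sum_comm]
    have hw : ∀ w : Bool × E, ∑ s ∈ hReg r x, ∑ y : E,
        (if c * (t * ((w.2 * y * w.2⁻¹ : E) : G)) * c⁻¹ = x ^ k * s then Φ s * ψ y else 0) =
        ∑ y ∈ eReg r x E, Φ (t * y) * extFun E ψ (x ^ k * y) := by
      intro w
      have h1 : ∀ s : G, ∑ y : E,
          (if c * (t * ((w.2 * y * w.2⁻¹ : E) : G)) * c⁻¹ = x ^ k * s then Φ s * ψ y else 0) =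
          ∑ y : E, if c * (t * (y : G)) * c⁻¹ = x ^ k * s then Φ s * ψ y else 0 := fun s => by
        refine Fintype.sum_equiv (MulAut.conj w.2).toEquiv _ _ fun y => ?_
        rw [MulEquiv.toEquiv_eq_coe, MulEquiv.coe_toEquiv, MulAut.conj_apply, hψ.1 y w.2]
      rw [Finset.sum_congr rfl fun s _ => h1 s]
      have h2 : ∀ s ∈ hReg r x, (∑ y : E, if c * (t * (y : G)) * c⁻¹ = x ^ k * s then Φ s * ψ y else 0) =
          if t * (x ^ k * (c⁻¹ * s * c)) ∈ E then Φ s * extFun E ψ (t * (x ^ k * (c⁻¹ * s * c))) else 0 := by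
        intro s _
        have hiff : ∀ y : G, c * (t * y) * c⁻¹ = x ^ k * s ↔ y = t * (x ^ k * (c⁻¹ * s * c)) := by
          intro y
          have hk' : c⁻¹ * (x ^ k * s) * c = x ^ k * (c⁻¹ * s * c) := by
            rw [← mul_assoc, ((hc'.inv_left).pow_right k).eq]; group
          constructor
          · intro h
            rw [← hk', ← h, show c⁻¹ * (c * (t * y) * c⁻¹) * c = t * y by group, ← mul_assoc, C.J.hyp.tt, one_mul]
          · rintro rfl
            rw [← mul_assoc t t, C.J.hyp.tt, one_mul, ← hk']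
            group
        simp only [hiff]
        split_ifs with hmem
        · rw [Finset.sum_eq_single ⟨_, hmem⟩ (fun y _ hy => if_neg fun h => hy (Subtype.ext h))
            (fun h => absurd (Finset.mem_univ _) h), if_pos rfl, extFun_mk _ _ hmem]
        · exact Finset.sum_eq_zero fun y _ => if_neg fun h => hmem (by rw [← h]; exact y.2)
      rw [Finset.sum_congr rfl h2, ← Finset.sum_filter]
      refine Finset.sum_bij' (fun s _ => t * (c⁻¹ * s * c)) (fun y _ => c * (t * y) * c⁻¹)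
        (fun s hs => ?_) (fun y hy => ?_) (fun s hs => ?_) (fun y hy => ?_) fun s hs => ?_
      · obtain ⟨hs', hmem⟩ := Finset.mem_filter.1 hs
        have hs'' := C.hReg_conj hc'.inv_left hs'
        rw [inv_inv] at hs''
        obtain ⟨hcs, hrs⟩ := (mem_hReg r x).1 hs''
        rw [← mul_assoc, hxk.eq, mul_assoc] at hmem
        have hE : t * (c⁻¹ * s * c) ∈ E := by
          have := mul_mem (inv_mem (pow_mem C.mem k)) hmem
          rwa [inv_mul_cancel_left] at this
        have hcomm : Commute t (c⁻¹ * s * c) := by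
          have h := (Commute.refl t).mul_right (C.J.hyp.comm _ hE)
          rwa [← mul_assoc, C.J.hyp.tt, one_mul] at h
        exact (mem_eReg r x).2 ⟨hE, C.comm_t.symm.mul_left hcs, C.not_dvd_mul_t hcomm hrs⟩
      · refine Finset.mem_filter.2 ⟨C.hReg_conj hc' (C.t_mul_mem hy), ?_⟩
        rw [show c⁻¹ * (c * (t * y) * c⁻¹) * c = t * y by group, ← mul_assoc, hxk.eq,
          mul_assoc (x ^ k) t, ← mul_assoc t t, C.J.hyp.tt, one_mul]
        exact mul_mem (pow_mem C.mem k) ((mem_eReg r x).1 hy).1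
      · rw [← mul_assoc t t, C.J.hyp.tt, one_mul]; group
      · rw [show c⁻¹ * (c * (t * y) * c⁻¹) * c = t * y by group, ← mul_assoc, C.J.hyp.tt, one_mul]
      · congr 1
        · rw [← mul_assoc t t, C.J.hyp.tt, one_mul]
          have h := hΦ c⁻¹ s hc'.inv_left (Finset.mem_filter.1 hs).1
          rw [inv_inv] at h
          exact h.symm
        · rw [← mul_assoc t (x ^ k), hxk.eq, mul_assoc]
    rw [Finset.sum_congr rfl fun w _ => hw w, Finset.sum_const, Finset.card_univ, nsmul_eq_mul, Fintype.card_prod,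
      Fintype.card_bool, Nat.cast_mul, ← Nat.card_eq_fintype_card]
    norm_num
  have tot : (2 * I) * (∑ s ∈ hReg r x, ∑ y : E,
        ((Finset.univ.filter fun g : G => g * (t * y) * g⁻¹ = x ^ k * s).card : ℂ) * (Φ s * ψ y)) =
      (Nat.card ↥(centralizer ({x} : Set G)) : ℂ) *
        ((2 * Nat.card E : ℂ) * ∑ y ∈ eReg r x E, Φ (t * y) * extFun E ψ (x ^ k * y)) := by
    rw [Finset.mul_sum, Finset.sum_congr rfl fun s hs => by
      rw [Finset.mul_sum, Finset.sum_congr rfl fun y _ => key s hs y, Finset.sum_comm],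
      Finset.sum_comm, Finset.sum_congr rfl inner, Finset.sum_const, nsmul_eq_mul, hCt, C.card_centralizer_filter]
  have hIne : I ≠ 0 := C.card_I_ne
  rw [div_mul_eq_mul_div, eq_div_iff hIne]
  linear_combination (2 : ℂ)⁻¹ * tot

end Ctx

end Cfsg.Lib.Ree.Field.RAdic
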