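import Cfsg.Agent.Ree.Field.RAdic.Base
import Cfsg.Agent.Chars.DefectZero
import Cfsg.Agent.Blocks.SubsectionColumns

/-!
The columns of `G` at the section of `x` belonging to the two characters of `C(x)`.
-/

set_option autoImplicit false
set_option linter.style.haveILetI false
set_option linter.unusedSectionVars false

namespace Cfsg.Lib.Ree.Field.RAdic

open Subgroup Cfsg
open Cfsg.Lib.Chars
open scoped ComplexConjugate
open scoped _root_.Classical

universe u

variable {G : Type u} [Group G] [Fintype G] (r : ℕ) (x : G)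

/-- The centralizer. -/
abbrev CH (x : G) : Type u := ↥(centralizer ({x} : Set G))

/-- `x` as an element of its centralizer. -/
def xH : ↥(centralizer ({x} : Set G)) := ⟨x, mem_centralizer_singleton_iff.2 rfl⟩

theorem xH_mem_center : xH x ∈ center ↥(centralizer ({x} : Set G)) :=
  mem_center_iff.2 fun h => Subtype.ext (mem_centralizer_singleton_iff.1 h.2)

/-- The inner product over the regular elements of `C(x)`, times the order of `x`. -/
noncomputable def rInner (θ m : ↥(centralizer ({x} : Set G)) → ℂ) : ℂ :=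
  hAvg r x fun s => onG x θ s * conj (onG x m s)

/-- The column of `γ` at the section of `x ^ k`. -/
noncomputable def col (γ : ↥(centralizer ({x} : Set G)) → ℂ) (χ : G → ℂ) (k : ℕ) : ℂ :=
  hAvg r x fun s => χ (x ^ k * s) * conj (onG x γ s)

theorem onG_coe (f : ↥(centralizer ({x} : Set G)) → ℂ) (s : ↥(centralizer ({x} : Set G))) :
    onG x f s = f s := by rw [onG, dif_pos s.2]

theorem onG_conj {f : ↥(centralizer ({x} : Set G)) → ℂ} (hf : IsClassFunction _ f) {c s : G} (hc : Commute c x)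
    (hs : s ∈ hReg r x) : onG x f (c * s * c⁻¹) = onG x f s := by
  have hs' : s ∈ centralizer ({x} : Set G) := mem_centralizer_singleton_iff.2 ((mem_hReg r x).1 hs).1.eq
  have hc' : c ∈ centralizer ({x} : Set G) := mem_centralizer_singleton_iff.2 hc.eq
  have e : c * s * c⁻¹ = ((⟨c, hc'⟩ * ⟨s, hs'⟩ * ⟨c, hc'⟩⁻¹ : ↥(centralizer ({x} : Set G))) : G) := rfl
  rw [e, onG_coe, hf, ← onG_coe x f ⟨s, hs'⟩]

theorem sum_hReg (f : G → ℂ) :
    ∑ s ∈ hReg r x, f s = ∑ s : ↥(centralizer ({x} : Set G)), if ¬ r ∣ orderOf s then f s else 0 := by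
  rw [← Finset.sum_filter]
  refine (Finset.sum_bij (fun (s : ↥(centralizer ({x} : Set G))) _ => (s : G)) (fun s hs => ?_) (fun a _ b _ h => Subtype.ext h)
    (fun s hs => ?_) fun s _ => rfl).symm
  · refine (mem_hReg r x).2 ⟨mem_centralizer_singleton_iff.1 s.2, ?_⟩
    rw [Subgroup.orderOf_coe]
    exact (Finset.mem_filter.1 hs).2
  · obtain ⟨h1, h2⟩ := (mem_hReg r x).1 hs
    exact ⟨⟨s, mem_centralizer_singleton_iff.2 h1.eq⟩, Finset.mem_filter.2 ⟨Finset.mem_univ _,
      by rw [← Subgroup.orderOf_coe]; exact h2⟩, rfl⟩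

/-- The inner product of the regular part. -/
theorem rInner_eq (θ m : ↥(centralizer ({x} : Set G)) → ℂ) :
    rInner r x θ m = (orderOf x : ℂ) * classInner (pRegularPart r θ) m := by
  rw [rInner, hAvg, sum_hReg, classInner_def, div_eq_mul_inv, mul_assoc]
  congr 2
  refine Finset.sum_congr rfl fun s _ => ?_
  rw [onG_coe, onG_coe, Cfsg.Lib.Blocks.pRegularPart_apply]
  split_ifs <;> simp

variable {r x} {t : G} {E E₀ : Subgroup G} [Fintype E] {F : Type} [Field F] [Fintype F] {M : Ideal AlgInt}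
  {T : Twist.KTable E M}

namespace Ctx

variable (C : Ctx t E E₀ F T r x)
include C

theorem pow_mem_zpowers_of_regular {j : ℕ} {a q : ↥(centralizer ({x} : Set G))} (haq : Commute a q)
    (ha : ∃ b : ℕ, orderOf a = r ^ b) (hq : ¬ r ∣ orderOf q) (h : ¬ r ∣ orderOf (x ^ j * ((a * q : ↥(centralizer ({x} : Set G))) : G))) :
    a ∈ zpowers (xH x) := by
  haveI : Fact r.Prime := ⟨C.prime⟩
  obtain ⟨b, hb⟩ := ha
  set w := xH x ^ j * a with hw
  have hcx : ∀ y, Commute (xH x ^ j) y := fun y => (show Commute (xH x) y from (mem_center_iff.1 (xH_mem_center x) y).symm).pow_left j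
  have hxR : orderOf (xH x) = orderOf x := by rw [← Subgroup.orderOf_coe]; rfl
  obtain ⟨a', ha'⟩ := C.pow
  have hwp : ∃ n : ℕ, orderOf w = r ^ n := by
    have hd : orderOf w ∣ r ^ (a' + b) := by
      refine ((hcx a).orderOf_mul_dvd_lcm).trans (Nat.lcm_dvd ?_ ?_)
      · exact ((orderOf_pow_dvd j).trans (dvd_of_eq (hxR.trans ha'))).trans (pow_dvd_pow r (by omega))
      · rw [hb]; exact pow_dvd_pow r (by omega)
    obtain ⟨n, -, hn⟩ := (Nat.dvd_prime_pow C.prime).1 hd
    exact ⟨n, hn⟩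
  have hwq : Commute w q := (hcx q).mul_left haq
  have h1 : IsPPart r (w * q) w := ⟨q, rfl, hwq, hwp, hq⟩
  have h2 : IsPPart r (w * q) 1 := by
    refine (Cfsg.Lib.Blocks.isPPart_one_iff C.prime).2 ?_
    rw [← Subgroup.orderOf_coe, hw, mul_assoc, Subgroup.coe_mul, Subgroup.coe_pow]
    exact h
  have := Cfsg.Lib.Blocks.IsPPart.eq C.prime h1 h2
  rw [hw, mul_eq_one_iff_eq_inv] at this
  rw [← inv_inv a, ← this]
  exact inv_mem (pow_mem (mem_zpowers _) j)

/-- `R` times the regular part of a character vanishing off `⟨x⟩ × (regular)` is a generalized character. -/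
theorem gamma_int (γ : IrrCharacter ↥(centralizer ({x} : Set G)))
    (hker : ∀ h, (γ : CH x → ℂ) (xH x * h) = (γ : CH x → ℂ) h)
    (hvan : ∀ h : ↥(centralizer ({x} : Set G)), (γ : CH x → ℂ) h ≠ 0 → ∃ j : ℕ, ¬ r ∣ orderOf (x ^ j * (h : G)))
    (θ : IrrCharacter ↥(centralizer ({x} : Set G))) : ∃ z : ℤ, rInner r x (θ : CH x → ℂ) γ = z := by
  haveI : Fact r.Prime := ⟨C.prime⟩
  set f : ↥(centralizer ({x} : Set G)) → ℂ := fun s =>
    if r ∣ orderOf s then 0 else (orderOf x : ℂ) * (γ : CH x → ℂ) s with hf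
  have hfc : IsClassFunction _ f := fun g y => by
    simp only [hf]
    rw [show orderOf (y * g * y⁻¹) = orderOf g from orderOf_injective (MulAut.conj y).toMonoidHom
      (MulAut.conj y).injective g, isClassFunction_irr γ g y]
  have hgen : IsGeneralizedCharacter _ f := by
    refine Cfsg.Lib.Blocks.isGeneralized_of_elementary hfc fun E' hE' => ?_
    obtain ⟨q, hq, hel⟩ := hE'
    have := Cfsg.Lib.Blocks.isNilpotent_of_isElementary hq hel
    obtain ⟨Q, hQ, -, P, hPQ, ⟨s, hs⟩, hcomm⟩ := exists_regular_part (E := E') r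
    refine isGeneralized_of_coeff (fun g y => hfc (g : _) (y : _)) fun lam => ?_
    have hγ : IsCharacter _ (γ : CH x → ℂ) := isCharacter_of_irr γ.2
    obtain ⟨n, hn⟩ := classInner_char_nat (IsCharacter.comp_hom hγ (E'.subtype.comp Q.subtype))
      (IsCharacter.comp_hom (isCharacter_of_irr lam.2) Q.subtype)
    let ι : P × Q →* E' := MonoidHom.mk' (fun w => (w.1 : E') * (w.2 : E')) fun w w' => by
      have := hcomm w'.1 w'.1.2 w.2 w.2.2
      simp only [Prod.fst_mul, Prod.snd_mul, Subgroup.coe_mul]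
      rw [mul_assoc (w.1 : E'), ← mul_assoc (w'.1 : E'), this]
      group
    obtain ⟨m, hm⟩ := classInner_char_nat (IsCharacter.comp_hom hγ (E'.subtype.comp ι))
      (IsCharacter.comp_hom (isCharacter_of_irr lam.2) (Q.subtype.comp (MonoidHom.snd P Q)))
    set Z : Subgroup P := (zpowers (xH x)).comap (E'.subtype.comp P.subtype) with hZ
    have hZdvd : Nat.card Z ∣ orderOf x := by
      refine dvd_trans ?_ (dvd_of_eq (show Nat.card (zpowers (xH x)) = orderOf x by
        rw [Nat.card_zpowers, ← Subgroup.orderOf_coe]; rfl))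
      rw [← Subgroup.card_map_of_injective (f := E'.subtype.comp P.subtype)
        (E'.subtype_injective.comp P.subtype_injective)]
      exact Subgroup.card_dvd_of_le (Subgroup.map_comap_le _ _)
    obtain ⟨d, hd⟩ := hZdvd
    have hval : ∀ (a : P) (y : Q), (γ : CH x → ℂ) (((ι (a, y)) : E') : ↥(centralizer ({x} : Set G))) =
        if a ∈ Z then (γ : CH x → ℂ) ((y : E') : ↥(centralizer ({x} : Set G))) else 0 := by
      intro a y
      have hpow : ∀ (i : ℕ) (h : ↥(centralizer ({x} : Set G))), (γ : CH x → ℂ) (xH x ^ i * h) = (γ : CH x → ℂ) h := by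
        intro i
        induction i with
        | zero => intro h; rw [pow_zero, one_mul]
        | succ i ih => intro h; rw [pow_succ', mul_assoc, hker, ih]
      show (γ : CH x → ℂ) (((a : E') : ↥(centralizer ({x} : Set G))) * ((y : E') : ↥(centralizer ({x} : Set G)))) = _
      split_ifs with ha
      · obtain ⟨i, hi⟩ := (isOfFinOrder_of_finite (xH x)).mem_powers_iff_mem_zpowers.2 ha
        change xH x ^ i = ((a : E') : ↥(centralizer ({x} : Set G))) at hi
        rw [← hi, hpow]
      · by_contra hne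
        obtain ⟨j, hj⟩ := hvan _ hne
        refine ha (C.pow_mem_zpowers_of_regular (congrArg Subtype.val (hcomm a a.2 y y.2)) ?_ ?_ hj)
        · obtain ⟨i, -, hi⟩ := (Nat.dvd_prime_pow C.prime).1 ((orderOf_dvd_natCard a).trans (dvd_of_eq hs))
          exact ⟨i, by
            show orderOf (((a : E') : CH x)) = _
            rw [Subgroup.orderOf_coe, Subgroup.orderOf_coe, hi]⟩
        · rw [Subgroup.orderOf_coe]; exact (hQ (y : E')).1 y.2
    set S := ∑ y : Q, (γ : CH x → ℂ) ((y : E') : ↥(centralizer ({x} : Set G))) * conj ((lam : E' → ℂ) y) with hS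
    have hP0 : (Nat.card P : ℂ) ≠ 0 := Nat.cast_ne_zero.mpr Nat.card_pos.ne'
    have hQ0 : (Nat.card Q : ℂ) ≠ 0 := Nat.cast_ne_zero.mpr Nat.card_pos.ne'
    have hn' : S = (Nat.card Q : ℂ) * n := by
      rw [classInner_def, inv_mul_eq_iff_eq_mul₀ hQ0] at hn
      exact hn
    have hm' : (Nat.card Z : ℂ) * S = (Nat.card P : ℂ) * (Nat.card Q : ℂ) * m := by
      rw [classInner_def, Nat.card_prod, Nat.cast_mul, inv_mul_eq_iff_eq_mul₀ (mul_ne_zero hP0 hQ0)] at hm
      rw [← hm, Fintype.sum_prod_type]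
      simp only [MonoidHom.comp_apply, Subgroup.coe_subtype, MonoidHom.coe_snd]
      rw [Finset.sum_congr rfl fun a _ => (Finset.sum_congr rfl fun y _ => by rw [hval a y, ite_mul, zero_mul]),
        Finset.sum_comm, hS, Finset.mul_sum]
      refine Finset.sum_congr rfl fun y _ => ?_
      rw [Finset.sum_ite, Finset.sum_const_zero, add_zero, Finset.sum_const, nsmul_eq_mul, ← Fintype.card_subtype,
        ← Nat.card_eq_fintype_card]
    refine ⟨(d * m : ℕ), ?_⟩
    rw [classInner_def]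
    have hsum : ∑ g : E', f (g : ↥(centralizer ({x} : Set G))) * conj ((lam : E' → ℂ) g) = (orderOf x : ℂ) * S := by
      rw [← Finset.sum_subset (Finset.subset_univ (Finset.univ.filter fun g : E' => g ∈ Q))
        (fun g _ hg => by
          have hg' : g ∉ Q := fun h => hg (Finset.mem_filter.mpr ⟨Finset.mem_univ _, h⟩)
          rw [hQ, not_not, ← Subgroup.orderOf_coe] at hg'
          simp only [hf, if_pos hg', zero_mul]),
        Finset.sum_subtype (p := fun g : E' => g ∈ Q) (Finset.univ.filter fun g : E' => g ∈ Q) (fun g => by simp) _,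
        hS, Finset.mul_sum]
      refine Finset.sum_congr rfl fun y _ => ?_
      simp only [hf]
      rw [Subgroup.orderOf_coe, if_neg ((hQ (y : E')).mp y.2)]
      ring
    rw [hsum, ← hPQ, hd, Nat.cast_mul, Nat.cast_mul, mul_comm (Nat.card Z : ℂ) (d : ℂ), mul_assoc (d : ℂ), hm']
    push_cast
    field_simp
  obtain ⟨z, hz⟩ := IsGeneralizedCharacter.exists_mult hgen θ.2
  refine ⟨z, ?_⟩
  have hconj : conj (classInner f (θ : CH x → ℂ)) = rInner r x (θ : CH x → ℂ) γ := by
    rw [rInner_eq, classInner_def, classInner_def, map_mul, map_inv₀, map_natCast, map_sum]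
    simp only [Finset.mul_sum]
    refine Finset.sum_congr rfl fun s _ => ?_
    rw [Cfsg.Lib.Blocks.pRegularPart_apply, map_mul, Complex.conj_conj, hf]
    simp only
    split_ifs <;> simp
    ring
  rw [← hconj, hz, map_intCast]

theorem rpow_one (θ : IrrCharacter ↥(centralizer ({x} : Set G))) :
    ((θ : CH x → ℂ) (xH x) / (θ : CH x → ℂ) 1) ^ orderOf x = 1 :=
  Cfsg.Lib.Blocks.apply_central_root θ (xH_mem_center x) (Subtype.ext (by
    rw [Subgroup.coe_pow]; exact pow_orderOf_eq_one x))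

theorem restrict_expand (χ : IrrCharacter G) : ∃ n : IrrCharacter ↥(centralizer ({x} : Set G)) → ℕ,
    ∀ (k : ℕ) (s : ↥(centralizer ({x} : Set G))), (χ : G → ℂ) (x ^ k * (s : G)) =
      ∑ θ : IrrCharacter ↥(centralizer ({x} : Set G)),
        (n θ : ℂ) * ((θ : CH x → ℂ) (xH x) / (θ : CH x → ℂ) 1) ^ k * (θ : CH x → ℂ) s := by
  have hres : IsCharacter ↥(centralizer ({x} : Set G)) fun s => (χ : G → ℂ) (s : G) :=
    IsCharacter.restrict (isCharacter_of_irr χ.2) _
  choose n hn using fun θ : IrrCharacter ↥(centralizer ({x} : Set G)) => IsCharacter.exists_mult hres θ.2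
  refine ⟨n, fun k s => ?_⟩
  have h := classFunction_expand_apply (isClassFunction_isChar hres) (xH x ^ k * s)
  rw [show x ^ k * (s : G) = ((xH x ^ k * s : ↥(centralizer ({x} : Set G))) : G) by
    rw [Subgroup.coe_mul, Subgroup.coe_pow]; rfl]
  rw [h]
  refine Finset.sum_congr rfl fun θ _ => ?_
  rw [hn θ, Cfsg.Lib.Blocks.apply_mul_central θ (Subgroup.pow_mem _ (xH_mem_center x) k),
    Cfsg.Lib.Blocks.apply_central_pow θ (xH_mem_center x)]
  ring

theorem hAvg_expand {ι : Type u} [Fintype ι] (a : ι → ℂ) (f : ι → G → ℂ) :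
    hAvg r x (fun s => ∑ i, a i * f i s) = ∑ i, a i * hAvg r x (f i) := by
  simp only [hAvg, Finset.mul_sum]
  rw [Finset.sum_comm]
  exact Finset.sum_congr rfl fun i _ => Finset.sum_congr rfl fun s _ => by ring

/-- The columns are integral combinations of the roots of unity. -/
theorem col_expand (γ : IrrCharacter ↥(centralizer ({x} : Set G)))
    (hker : ∀ h, (γ : CH x → ℂ) (xH x * h) = (γ : CH x → ℂ) h)
    (hvan : ∀ h : ↥(centralizer ({x} : Set G)), (γ : CH x → ℂ) h ≠ 0 → ∃ j : ℕ, ¬ r ∣ orderOf (x ^ j * (h : G)))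
    (χ : IrrCharacter G) :
    ∃ z : IrrCharacter ↥(centralizer ({x} : Set G)) → ℤ, ∀ k : ℕ, col r x (γ : CH x → ℂ) (χ : G → ℂ) k =
      ∑ θ : IrrCharacter ↥(centralizer ({x} : Set G)), (z θ : ℂ) * ((θ : CH x → ℂ) (xH x) / (θ : CH x → ℂ) 1) ^ k := by
  obtain ⟨n, hn⟩ := C.restrict_expand χ
  choose a ha using C.gamma_int γ hker hvan
  refine ⟨fun θ => n θ * a θ, fun k => ?_⟩
  have e : col r x (γ : CH x → ℂ) (χ : G → ℂ) k = hAvg r x (fun s =>
      ∑ θ : IrrCharacter ↥(centralizer ({x} : Set G)), ((n θ : ℂ) * ((θ : CH x → ℂ) (xH x) / (θ : CH x → ℂ) 1) ^ k) *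
        (onG x (θ : CH x → ℂ) s * conj (onG x (γ : CH x → ℂ) s))) := by
    rw [col, hAvg, hAvg]
    congr 1
    refine Finset.sum_congr rfl fun s hs => ?_
    have hs' : s ∈ centralizer ({x} : Set G) := mem_centralizer_singleton_iff.2 ((mem_hReg r x).1 hs).1.eq
    rw [hn k ⟨s, hs'⟩, Finset.sum_mul]
    exact Finset.sum_congr rfl fun θ _ => by rw [onG_coe x (θ : CH x → ℂ) ⟨s, hs'⟩]; ring
  rw [e, C.hAvg_expand]
  refine Finset.sum_congr rfl fun θ _ => ?_
  rw [show hAvg r x (fun s => onG x (θ : CH x → ℂ) s * conj (onG x (γ : CH x → ℂ) s)) = rInner r x (θ : CH x → ℂ) γ from rfl,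
    ha θ]
  push_cast
  ring

/-- The norm of the column. -/
theorem col_norm {k : ℕ} (hk : k.Coprime r) (γ : IrrCharacter ↥(centralizer ({x} : Set G)))
    (hker : ∀ h, (γ : CH x → ℂ) (xH x * h) = (γ : CH x → ℂ) h)
    (hvan : ∀ h : ↥(centralizer ({x} : Set G)), (γ : CH x → ℂ) h ≠ 0 → ∃ j : ℕ, ¬ r ∣ orderOf (x ^ j * (h : G))) :
    ∑ χ : IrrCharacter G, col r x (γ : CH x → ℂ) (χ : G → ℂ) k * conj (col r x (γ : CH x → ℂ) (χ : G → ℂ) k) =
      (orderOf x : ℂ) := by
  set a : ℂ := (orderOf x : ℂ) / (Nat.card ↥(centralizer ({x} : Set G)) : ℂ) with ha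
  set Ct := Finset.univ.filter fun c : G => Commute c x with hCt
  set Γ := onG x (γ : CH x → ℂ) with hΓ
  have hcount : ∀ s ∈ hReg r x, ∀ s' ∈ hReg r x,
      ∑ χ : IrrCharacter G, (χ : G → ℂ) (x ^ k * s) * conj ((χ : G → ℂ) (x ^ k * s')) =
        ∑ c ∈ Ct, if c * s' * c⁻¹ = s then (1 : ℂ) else 0 := by
    intro s hs s' hs'
    rw [sum_mul_conj_eq_card, Finset.card_filter, Nat.cast_sum, hCt, Finset.sum_filter]
    refine Finset.sum_congr rfl fun g _ => ?_
    by_cases hg : g * (x ^ k * s') * g⁻¹ = x ^ k * s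
    · obtain ⟨h1, -, h3⟩ := C.conj_section hk hs' hs hg
      rw [if_pos hg, if_pos h1, if_pos h3, Nat.cast_one]
    · rw [if_neg hg, Nat.cast_zero]
      split_ifs with h1 h2
      · exfalso; refine hg ?_
        rw [show g * (x ^ k * s') * g⁻¹ = g * x ^ k * g⁻¹ * (g * s' * g⁻¹) by group, h2, (h1.pow_right k).eq,
          mul_inv_cancel_right]
      · rfl
      · rfl
  have h1 : ∑ χ : IrrCharacter G, col r x (γ : CH x → ℂ) (χ : G → ℂ) k * conj (col r x (γ : CH x → ℂ) (χ : G → ℂ) k) =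
      a * a * ∑ s ∈ hReg r x, ∑ s' ∈ hReg r x, conj (Γ s) * Γ s' *
        ∑ χ : IrrCharacter G, (χ : G → ℂ) (x ^ k * s) * conj ((χ : G → ℂ) (x ^ k * s')) := by
    have ca : conj a = a := by rw [ha, map_div₀, map_natCast, map_natCast]
    have e : ∀ χ : IrrCharacter G, col r x (γ : CH x → ℂ) (χ : G → ℂ) k * conj (col r x (γ : CH x → ℂ) (χ : G → ℂ) k) =
        a * a * ∑ s ∈ hReg r x, ∑ s' ∈ hReg r x, conj (Γ s) * Γ s' *
          ((χ : G → ℂ) (x ^ k * s) * conj ((χ : G → ℂ) (x ^ k * s'))) := by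
      intro χ
      simp only [col, hAvg, ← ha, map_mul, ca, map_sum, Complex.conj_conj, ← hΓ, Finset.mul_sum, Finset.sum_mul]
      rw [Finset.sum_comm]
      exact Finset.sum_congr rfl fun s _ => Finset.sum_congr rfl fun s' _ => by ring
    rw [Finset.sum_congr rfl fun χ _ => e χ, ← Finset.mul_sum, Finset.sum_comm]
    congr 1
    refine Finset.sum_congr rfl fun s _ => ?_
    rw [Finset.sum_comm]
    exact Finset.sum_congr rfl fun s' _ => by rw [Finset.mul_sum]
  have h2 : ∑ s ∈ hReg r x, ∑ s' ∈ hReg r x, conj (Γ s) * Γ s' *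
        ∑ χ : IrrCharacter G, (χ : G → ℂ) (x ^ k * s) * conj ((χ : G → ℂ) (x ^ k * s')) =
      (Nat.card ↥(centralizer ({x} : Set G)) : ℂ) * ∑ s' ∈ hReg r x, conj (Γ s') * Γ s' := by
    rw [Finset.sum_congr rfl fun s hs => Finset.sum_congr rfl fun s' hs' => by rw [hcount s hs s' hs', Finset.mul_sum],
      Finset.sum_comm, Finset.sum_congr rfl fun s' _ => Finset.sum_comm, Finset.sum_comm,
      Finset.sum_congr rfl (g := fun _ => ∑ s' ∈ hReg r x, conj (Γ s') * Γ s') fun c hc => ?_,
      Finset.sum_const, nsmul_eq_mul, hCt, C.card_centralizer_filter]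
    refine Finset.sum_congr rfl fun s' hs' => ?_
    have hc' : Commute c x := (Finset.mem_filter.1 hc).2
    simp only [mul_ite, mul_one, mul_zero]
    rw [Finset.sum_ite_eq, if_pos (C.hReg_conj hc' hs'), hΓ,
      onG_conj r x (isClassFunction_irr γ) hc' hs']
  -- the full norm of `γ`
  have h3 : (orderOf x : ℂ) * ∑ s ∈ hReg r x, conj (Γ s) * Γ s = (Nat.card ↥(centralizer ({x} : Set G)) : ℂ) := by
    have hnorm := classInner_self_irr γ.2
    rw [classInner_def, inv_mul_eq_iff_eq_mul₀ C.card_H_ne, mul_one] at hnorm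
    rw [← hnorm, sum_hReg, ← Finset.sum_filter]
    set Hr := Finset.univ.filter fun s : ↥(centralizer ({x} : Set G)) => ¬ r ∣ orderOf s with hHr
    set P := (Finset.range (orderOf x) ×ˢ Hr) with hP
    have hinj : Set.InjOn (fun w : ℕ × ↥(centralizer ({x} : Set G)) => xH x ^ w.1 * w.2) (P : Set _) := by
      rintro ⟨i, s⟩ hi ⟨i', s'⟩ hi' h
      simp only [hP, Finset.coe_product, Set.mem_prod, Finset.mem_coe, Finset.mem_range, hHr, Finset.mem_filter,
        Finset.mem_univ, true_and] at hi hi'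
      have h' : x ^ i * (s : G) = x ^ i' * (s' : G) := by
        have := congrArg Subtype.val h
        simpa [xH] using this
      have e := Cfsg.Lib.Blocks.IsPPart.eq C.prime
        (C.isPPart (mem_centralizer_singleton_iff.1 s.2) (by rw [Subgroup.orderOf_coe]; exact hi.2) i)
        (h' ▸ C.isPPart (mem_centralizer_singleton_iff.1 s'.2) (by rw [Subgroup.orderOf_coe]; exact hi'.2) i')
      have hii : i = i' := pow_injOn_Iio_orderOf hi.1 hi'.1 e
      subst hii
      exact Prod.ext rfl (Subtype.ext (mul_left_cancel h'))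
    have hpow : ∀ (i : ℕ) (h : CH x), (γ : CH x → ℂ) (xH x ^ i * h) = (γ : CH x → ℂ) h := by
      intro i
      induction i with
      | zero => intro h; rw [pow_zero, one_mul]
      | succ i ih => intro h; rw [pow_succ', mul_assoc, hker, ih]
    have hfull : ∑ h : CH x, (γ : CH x → ℂ) h * conj ((γ : CH x → ℂ) h) =
        ∑ h ∈ P.image (fun w => xH x ^ w.1 * w.2), (γ : CH x → ℂ) h * conj ((γ : CH x → ℂ) h) := by
      refine (Finset.sum_subset (Finset.subset_univ _) fun h _ hh => ?_).symm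
      by_contra hne
      have hne' : (γ : CH x → ℂ) h ≠ 0 := fun e => hne (by rw [e, zero_mul])
      obtain ⟨j, hj⟩ := hvan h hne'
      refine hh (Finset.mem_image.2 ⟨((orderOf x - j % orderOf x) % orderOf x, xH x ^ j * h), ?_, ?_⟩)
      · rw [hP, Finset.mem_product, Finset.mem_range, hHr, Finset.mem_filter]
        exact ⟨Nat.mod_lt _ (orderOf_pos x), Finset.mem_univ _, by rw [← Subgroup.orderOf_coe]; simpa [xH] using hj⟩
      · rw [← mul_assoc, show orderOf x = orderOf (xH x) by rw [← Subgroup.orderOf_coe]; rfl, pow_mod_orderOf,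
          ← pow_mod_orderOf (xH x) j, ← pow_add, Nat.sub_add_cancel (Nat.mod_lt j (orderOf_pos _)).le,
          pow_orderOf_eq_one, one_mul]
    rw [hfull, Finset.sum_image hinj, hP, Finset.sum_product]
    simp only [hpow, Finset.sum_const, Finset.card_range, nsmul_eq_mul, hΓ, onG_coe]
    congr 1
    exact Finset.sum_congr rfl fun s _ => mul_comm _ _
  rw [h1, h2, ha]
  have hH := C.card_H_ne
  field_simp
  linear_combination (orderOf x : ℂ) * h3

/-- The column is orthogonal to the degrees. -/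
theorem col_one {k : ℕ} (hk : k.Coprime r) (f : ↥(centralizer ({x} : Set G)) → ℂ) :
    ∑ χ : IrrCharacter G, col r x f (χ : G → ℂ) k * (χ : G → ℂ) 1 = 0 := by
  have e : ∀ χ : IrrCharacter G, col r x f (χ : G → ℂ) k * (χ : G → ℂ) 1 = (orderOf x : ℂ) /
      (Nat.card ↥(centralizer ({x} : Set G)) : ℂ) * ∑ s ∈ hReg r x, conj (onG x f s) *
        ((χ : G → ℂ) (x ^ k * s) * conj ((χ : G → ℂ) 1)) := by
    intro χ
    rw [col, hAvg, mul_assoc, Finset.sum_mul, ← IsCharacter.conj_inv (isCharacter_of_irr χ.2) 1, inv_one]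
    congr 1
    exact Finset.sum_congr rfl fun s _ => by ring
  rw [Finset.sum_congr rfl fun χ _ => e χ, ← Finset.mul_sum, Finset.sum_comm,
    Finset.sum_eq_zero fun s hs => ?_, mul_zero]
  rw [← Finset.mul_sum, sum_mul_conj_eq_card, Finset.card_eq_zero.2 (Finset.filter_eq_empty_iff.2 fun g _ hg => ?_),
    Nat.cast_zero, mul_zero]
  rw [mul_one, mul_inv_cancel] at hg
  obtain ⟨-, h2⟩ := (mem_hReg r x).1 hs
  have hxs : x ^ k = s⁻¹ := eq_inv_of_mul_eq_one_left hg.symm
  have h3 := C.pow_regular (j := k) (by rw [hxs, orderOf_inv]; exact h2)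
  exact C.ne (orderOf_eq_one_iff.1 (Nat.Coprime.eq_one_of_dvd (C.coprime_pow hk).symm (orderOf_dvd_of_pow_eq_one h3)))

/-- The column against a special function at the section of `t`. -/
theorem col_coord {k : ℕ} (hk : k.Coprime r) {f : ↥(centralizer ({x} : Set G)) → ℂ}
    (hf : IsClassFunction _ f) {ψ : E → ℂ} (hψ : IsSpecial ψ) :
    ∑ χ : IrrCharacter G, col r x f (χ : G → ℂ) k * conj (coord t E χ ψ) =
      regAvg r x E fun y => extFun E ψ (x ^ k * y) * conj (onG x f (t * y)) := by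
  have e : ∀ χ : IrrCharacter G, col r x f (χ : G → ℂ) k * conj (coord t E χ ψ) =
      (orderOf x : ℂ) / (Nat.card ↥(centralizer ({x} : Set G)) : ℂ) * (Nat.card E : ℂ)⁻¹ *
        ∑ s ∈ hReg r x, ∑ y : E, (conj (onG x f s) * ψ y) *
          ((χ : G → ℂ) (x ^ k * s) * conj ((χ : G → ℂ) (t * y))) := by
    intro χ
    rw [col, hAvg, C.S.coord_apply, map_mul, map_inv₀, map_natCast, map_sum]
    simp only [map_mul, Complex.conj_conj, Finset.mul_sum, Finset.sum_mul]
    rw [Finset.sum_comm]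
    exact Finset.sum_congr rfl fun s _ => Finset.sum_congr rfl fun y _ => by ring
  rw [Finset.sum_congr rfl fun χ _ => e χ, ← Finset.mul_sum, Finset.sum_comm,
    Finset.sum_congr rfl fun s _ => Finset.sum_comm,
    Finset.sum_congr rfl fun s _ => Finset.sum_congr rfl fun y _ => by
      rw [← Finset.mul_sum, sum_mul_conj_eq_card, mul_comm]]
  rw [C.sum_fusion hk (fun s => conj (onG x f s)) (fun c s hc hs => by rw [onG_conj r x hf hc hs]) hψ, regAvg_eq_sum,
    Finset.mul_sum, Finset.mul_sum, Finset.mul_sum]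
  refine Finset.sum_congr rfl fun y _ => ?_
  have hH := C.card_H_ne
  have hE := C.card_E_ne
  field_simp

end Ctx

end Cfsg.Lib.Ree.Field.RAdic
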