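import Cfsg.Agent.Ree.Field.RAdic.Column
import Cfsg.Agent.Blocks.RegularCongr

/-!
The congruence between the central character at `t` and the columns at the section of `x`.
-/

set_option autoImplicit false
set_option linter.style.haveILetI false
set_option linter.unusedSectionVars false

namespace Cfsg.Lib.Ree.Field.RAdic

open Subgroup Cfsg
open Cfsg.Lib.Chars Cfsg.Lib.Blocks
open scoped ComplexConjugate
open scoped _root_.Classical

universe u

variable {G : Type u} [Group G] [Fintype G]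

/-- The class sum acts on the translates of a character by the central character. -/
theorem centralChar_mul_apply {X : Type u} [Group X] [Fintype X] (χ : IrrCharacter X) (z g : X) :
    centralChar (χ : X → ℂ) z * (χ : X → ℂ) g = ∑ w : X, if IsConj z w then (χ : X → ℂ) (w * g) else 0 := by
  have h1 := IsIrrCharacter.apply_one_ne_zero χ.2
  obtain ⟨n, ρ, hρ, he⟩ := χ.2
  have h := sum_conjClass_character_mul ρ z g
  have hn : (χ : X → ℂ) 1 = (n : ℂ) := by rw [← he, ρ.char_one, Module.finrank_fin_fun]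
  rw [hn] at h1
  rw [← Finset.sum_filter, ← he, centralChar, ← card_isConj, he, hn, ← he, div_mul_eq_mul_div, ← h,
    mul_div_cancel_right₀ _ h1]

/-- A sum over a set on which an element of prime power order acts without fixed points. -/
theorem small_sum_conj_free {p n : ℕ} {𝔓 : Ideal AlgInt} (hP : IsPModular p 𝔓) {y : G} (hy : y ^ p ^ n = 1)
    (A : Finset G) (Φ : G → ℂ) (hA : ∀ a ∈ A, y * a * y⁻¹ ∈ A) (hfix : ∀ a ∈ A, ¬ Commute a y)
    (hΦ : ∀ a, Φ (y * a * y⁻¹) = Φ a) (hmem : ∀ a, Φ a ∈ place 𝔓) : Small 𝔓 (∑ a ∈ A, Φ a) := by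
  haveI : Fact p.Prime := ⟨hP.1⟩
  rw [← Finset.sum_fiberwise_of_maps_to (g := Φ) (t := A.image Φ) fun a ha => Finset.mem_image_of_mem Φ ha]
  refine small_sum _ _ fun w hw => ?_
  rw [Finset.sum_congr rfl fun a ha => (Finset.mem_filter.1 ha).2, Finset.sum_const, nsmul_eq_mul]
  obtain ⟨a₀, -, rfl⟩ := Finset.mem_image.1 hw
  refine Small.mul_mem (small_natCast hP ?_) (hmem a₀)
  set B := A.filter fun a => Φ a = Φ a₀
  have hB : ∀ a ∈ B, y * a * y⁻¹ ∈ B := fun a ha => by
    rw [Finset.mem_filter] at ha ⊢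
    exact ⟨hA a ha.1, by rw [hΦ]; exact ha.2⟩
  let f : Function.End B := fun a => ⟨y * (a : G) * y⁻¹, hB _ a.2⟩
  have hpow : ∀ (k : ℕ) (a : B), (((f ^ k) a : B) : G) = y ^ k * (a : G) * (y ^ k)⁻¹ := by
    intro k
    induction k with
    | zero =>
      intro a
      rw [pow_zero, pow_zero, one_mul, inv_one, mul_one]
      rfl
    | succ k ih =>
      intro a
      rw [pow_succ, pow_succ]
      show (((f ^ k) (f a) : B) : G) = _
      rw [ih]
      show y ^ k * (y * (a : G) * y⁻¹) * (y ^ k)⁻¹ = _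
      group
  have hf : f ^ p ^ n = 1 := funext fun a => Subtype.ext (by
    rw [hpow, hy, one_mul, inv_one, mul_one]; rfl)
  have h0 := Equiv.Perm.card_fixedPoints_modEq hf
  have hempty : IsEmpty f.fixedPoints := ⟨fun ⟨a, ha⟩ => hfix a (Finset.mem_filter.1 a.2).1
    (mul_inv_eq_iff_eq_mul.1 (congrArg Subtype.val ha)).symm⟩
  rw [Fintype.card_coe, Fintype.card_eq_zero] at h0
  exact Nat.modEq_zero_iff_dvd.1 h0

/-- `t` as an element of `C(x)`. -/
def tH {t x : G} (h : Commute x t) : CH x := ⟨t, mem_centralizer_singleton_iff.2 h.symm.eq⟩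

variable {t x : G} {r : ℕ} {E E₀ : Subgroup G} [Fintype E] {F : Type} [Field F] [Fintype F] {M : Ideal AlgInt}
  {T : Twist.KTable E M}

/-- The average of a character against `T.x` on the common section of `t` and `x`. -/
noncomputable def pairAt (r : ℕ) (t x : G) (T : Twist.KTable E M) (χ : G → ℂ) (k : ℕ) : ℂ :=
  regAvg r x E fun y => χ (t * (x ^ k * y)) * conj (extFun E T.x (x ^ k * y))

namespace Ctx

variable (C : Ctx t E E₀ F T r x) {𝔓 : Ideal AlgInt} (hP : IsPModular r 𝔓)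
include C

theorem card_class_H : Nat.card {z : CH x // IsConj (tH C.comm_t) z} = invCount x := by
  refine Nat.card_congr
    { toFun := fun z => ⟨(z.1 : G), ?_, mem_centralizer_singleton_iff.1 z.1.2⟩
      invFun := fun s => ⟨⟨s.1, mem_centralizer_singleton_iff.2 s.2.2.eq⟩, ?_⟩
      left_inv := fun z => rfl
      right_inv := fun s => rfl }
  · obtain ⟨c, hc⟩ := isConj_iff.1 z.2
    rw [← congrArg Subtype.val hc, Subgroup.coe_mul, Subgroup.coe_mul, Subgroup.coe_inv, ← MulAut.conj_apply,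
      MulEquiv.orderOf_eq]
    exact C.J.hyp.ord
  · obtain ⟨g, hg, hgs⟩ := C.conj_t s.1 s.2.1 s.2.2
    exact isConj_iff.2 ⟨⟨g, mem_centralizer_singleton_iff.2 hg.eq⟩, Subtype.ext hgs⟩

theorem centralChar_tH (f : CH x → ℂ) :
    centralChar f (tH C.comm_t) = (invCount x : ℂ) * f (tH C.comm_t) / f 1 := by
  rw [centralChar, ← card_isConj, C.card_class_H]

theorem isConj_t_iff {z : G} : IsConj t z ↔ orderOf z = 2 := by
  refine ⟨fun h => ?_, fun h => C.S.conj_all h⟩
  obtain ⟨g, rfl⟩ := isConj_iff.1 h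
  rw [← MulAut.conj_apply, MulEquiv.orderOf_eq, C.J.hyp.ord]

theorem xt_integral (y : G) : IsIntegral ℤ (extFun E T.x y) := by
  by_cases hy : y ∈ E
  · rw [extFun_mk _ _ hy]
    obtain ⟨a, b, ha, hb, e⟩ := T.special_x.2.1
    rw [e, Pi.sub_apply]
    exact (IsCharacter.isIntegral ha _).sub (IsCharacter.isIntegral hb _)
  · rw [extFun, Function.extend_apply' _ _ _ fun ⟨z, hz⟩ => hy (hz ▸ z.2), Pi.zero_apply]
    exact isIntegral_zero

theorem conj_xt_integral (y : G) : IsIntegral ℤ (conj (extFun E T.x y)) :=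
  (C.xt_integral y).map (starRingEnd ℂ).toIntAlgHom

include hP

theorem inv_card_mem : ((eReg r x E).card : ℂ)⁻¹ ∈ place 𝔓 :=
  (isUnitAt_natCast hP C.eReg_not_dvd).inv.mem_place

theorem pairAt_mem (χ : IrrCharacter G) (k : ℕ) : pairAt r t x T (χ : G → ℂ) k ∈ place 𝔓 := by
  rw [pairAt, C.regAvg_eq_inv]
  refine mul_mem (C.inv_card_mem hP) (sum_mem fun y _ => isIntegral_mem_place hP ?_)
  exact (IsCharacter.isIntegral (isCharacter_of_irr χ.2) _).mul (C.conj_xt_integral _)

theorem lambda_mem (θ : IrrCharacter (CH x)) (k : ℕ) :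
    ((θ : CH x → ℂ) (xH x) / (θ : CH x → ℂ) 1) ^ k ∈ place 𝔓 :=
  pow_mem (isIntegral_mem_place hP (isIntegral_of_pow_eq_one (orderOf_pos x) (C.rpow_one θ))) k

theorem rInner_eq_zero_or_small (θ m : IrrCharacter (CH x)) :
    rInner r x (θ : CH x → ℂ) m = 0 ∨
      Small 𝔓 (centralChar (θ : CH x → ℂ) (tH C.comm_t) - centralChar (m : CH x → ℂ) (tH C.comm_t)) := by
  by_cases h : m ∈ blockOf 𝔓 (θ : CH x → ℂ)
  · exact Or.inr ((sameBlock_iff hP θ m).1 h (tH C.comm_t))
  · refine Or.inl ?_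
    rw [rInner_eq, classInner_pRegularPart_eq_zero hP (isPBlock_blockOf θ) (mem_blockOf_self hP θ) h, mul_zero]

variable (D : HData r x t E (signedCard F) (Function.extend Subtype.val T.x 0))
include D

theorem gamma_unit (i : Fin 2) : IsUnitAt 𝔓 (centralChar (D.γ i : CH x → ℂ) (tH C.comm_t)) := by
  obtain ⟨a, b, ha, hb, e⟩ := D.unit i
  rw [show onG x (D.γ i : CH x → ℂ) t = (D.γ i : CH x → ℂ) (tH C.comm_t) from onG_coe x _ (tH C.comm_t),
    ← irr_apply_one_eq_deg] at e
  have h1 := IsIrrCharacter.apply_one_ne_zero (D.γ i).2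
  have hu : ∀ z : ℤ, ¬ (r : ℤ) ∣ z → IsUnitAt 𝔓 (z : ℂ) := fun z hz =>
    isUnitAt_iff.2 ⟨intCast_mem_place z, not_small_intCast hP hz⟩
  have ha0 : (a : ℂ) ≠ 0 := (hu a ha).ne_zero
  have hω : centralChar (D.γ i : CH x → ℂ) (tH C.comm_t) = (b : ℂ) * (a : ℂ)⁻¹ := by
    rw [C.centralChar_tH]
    field_simp
    linear_combination e
  rw [hω]
  exact (hu b hb).mul (hu a ha).inv

theorem St_small : Small 𝔓 (centralChar (D.St : CH x → ℂ) (tH C.comm_t)) := by
  rw [C.centralChar_tH, mul_div_assoc]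
  refine Small.mul_mem (small_natCast hP D.dvd_inv) ?_
  rw [div_eq_mul_inv, irr_apply_one_eq_deg]
  exact mul_mem (isIntegral_mem_place hP (IsCharacter.isIntegral (isCharacter_of_irr D.St.2) _))
    (isUnitAt_natCast hP D.deg_St).inv.mem_place

theorem principal_small : Small 𝔓 (centralChar (Cfsg.Lib.Chars.principal (CH x) : CH x → ℂ) (tH C.comm_t)) := by
  rw [C.centralChar_tH, show (Cfsg.Lib.Chars.principal (CH x) : CH x → ℂ) = fun _ => 1 from rfl]
  simp only [mul_one, div_one]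
  exact small_natCast hP D.dvd_inv

/-- The pairing with the function on the regular elements. -/
theorem pair_expand (θ : IrrCharacter (CH x)) {k : ℕ} (hk : k.Coprime r) :
    regAvg r x E (fun y => onG x (θ : CH x → ℂ) (t * y) * conj (extFun E T.x (x ^ k * y))) =
      -rInner r x (θ : CH x → ℂ) (Cfsg.Lib.Chars.principal (CH x) : CH x → ℂ) +
        (D.εS : ℂ) * rInner r x (θ : CH x → ℂ) D.St + ∑ i, (D.ε i : ℂ) * rInner r x (θ : CH x → ℂ) (D.γ i) := by
  set Γ : G → ℂ := fun s => -1 + (D.εS : ℂ) * onG x (D.St : CH x → ℂ) s +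
    ∑ i, (D.ε i : ℂ) * onG x (D.γ i : CH x → ℂ) s with hΓ
  set Φ : G → ℂ := fun s => onG x (θ : CH x → ℂ) s * conj (Γ s) with hΦ
  have hsum := C.sum_support Φ (fun c s hc hs => by
    simp only [hΦ, hΓ]
    rw [onG_conj r x (isClassFunction_irr θ) hc hs, onG_conj r x (isClassFunction_irr D.St) hc hs,
      Finset.sum_congr rfl fun i _ => by rw [onG_conj r x (isClassFunction_irr (D.γ i)) hc hs]])
    (fun s hs hno => by
      obtain ⟨hsc, hsr⟩ := (mem_hReg r x).1 hs
      have h := D.section_rest ⟨s, mem_centralizer_singleton_iff.2 hsc.eq⟩ hsr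
        fun g y hg hy ho => hno g y hg hy ho
      have h' : Γ s = 0 := by
        simp only [hΓ, ← onG_coe x _ (⟨s, mem_centralizer_singleton_iff.2 hsc.eq⟩ : CH x)] at h ⊢
        exact h
      simp only [hΦ, h', map_zero, mul_zero])
  have hL : regAvg r x E (fun y => onG x (θ : CH x → ℂ) (t * y) * conj (extFun E T.x (x ^ k * y))) =
      hAvg r x Φ := by
    rw [hsum, C.regAvg_eq_inv, C.regAvg_eq_inv]
    simp only [Finset.mul_sum]
    refine Finset.sum_congr rfl fun y hy => ?_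
    obtain ⟨h1, h2, h3⟩ := (mem_eReg r x).1 hy
    split_ifs with ho
    · have hs := C.t_mul_mem hy
      obtain ⟨hsc, -⟩ := (mem_hReg r x).1 hs
      have h := D.section_t k hk ⟨t * y, mem_centralizer_singleton_iff.2 hsc.eq⟩ y h1 h2 h3 rfl ho
      have h' : Γ (t * y) = 2 * extFun E T.x (x ^ k * y) := by
        simp only [hΓ, ← onG_coe x _ (⟨t * y, mem_centralizer_singleton_iff.2 hsc.eq⟩ : CH x)] at h ⊢
        exact h
      simp only [hΦ, h', map_mul, map_ofNat]
      ring
    · have hm : x ^ k * y ∈ E := mul_mem (pow_mem C.mem _) h1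
      rw [extFun_mk _ _ hm, T.special_x.2.2 ⟨_, hm⟩ fun h => ho ?_]
      · simp
      · rwa [← Subgroup.orderOf_coe, Subgroup.coe_mk, show Odd (orderOf (x ^ k * y)) ↔ Odd (orderOf y) from by
          have hcop : (orderOf (x ^ k)).Coprime (orderOf y) :=
            (C.coprime_of_not_dvd h3).coprime_dvd_left (orderOf_pow_dvd k)
          rw [(h2.symm.pow_left k).orderOf_mul_eq_mul_orderOf_of_coprime hcop, Nat.odd_mul]
          exact ⟨fun h => h.2, fun h => ⟨C.odd_R.of_dvd_nat (orderOf_pow_dvd k), h⟩⟩] at h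
  rw [hL]
  have hp : ∀ s ∈ hReg r x, onG x (Cfsg.Lib.Chars.principal (CH x) : CH x → ℂ) s = 1 := fun s hs => by
    rw [onG, dif_pos (mem_centralizer_singleton_iff.2 ((mem_hReg r x).1 hs).1.eq)]; rfl
  simp only [rInner, hAvg, Fin.sum_univ_two, Finset.mul_sum, ← Finset.sum_neg_distrib, ← Finset.sum_add_distrib]
  refine Finset.sum_congr rfl fun s hs => ?_
  simp only [hΦ, hΓ, Fin.sum_univ_two, map_add, map_neg, map_one, map_mul, map_intCast, hp s hs]
  ring

/-- The congruence. -/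
theorem congr_col (χ : IrrCharacter G) {k : ℕ} (hk : k.Coprime r) :
    Small 𝔓 (centralChar (χ : G → ℂ) t * pairAt r t x T (χ : G → ℂ) k -
      ∑ i, (D.ε i : ℂ) * centralChar (D.γ i : CH x → ℂ) (tH C.comm_t) *
        col r x (D.γ i : CH x → ℂ) (χ : G → ℂ) k) := by
  obtain ⟨n, hn⟩ := C.restrict_expand χ
  choose a ha using fun (i : Fin 2) => C.gamma_int (D.γ i) (D.kerγ i) (D.van i)
  set L : IrrCharacter (CH x) → ℂ :=
    fun θ => (n θ : ℂ) * ((θ : CH x → ℂ) (xH x) / (θ : CH x → ℂ) 1) ^ k with hL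
  set b : IrrCharacter (CH x) → ℂ := fun θ =>
    regAvg r x E fun y => onG x (θ : CH x → ℂ) (t * y) * conj (extFun E T.x (x ^ k * y)) with hb
  set ω : IrrCharacter (CH x) → ℂ := fun θ => centralChar (θ : CH x → ℂ) (tH C.comm_t) with hω
  have hcol : ∀ i, col r x (D.γ i : CH x → ℂ) (χ : G → ℂ) k = ∑ θ, L θ * (a i θ : ℂ) := by
    intro i
    have e : col r x (D.γ i : CH x → ℂ) (χ : G → ℂ) k = hAvg r x (fun s =>
        ∑ θ, L θ * (onG x (θ : CH x → ℂ) s * conj (onG x (D.γ i : CH x → ℂ) s))) := by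
      rw [col, hAvg, hAvg]
      congr 1
      refine Finset.sum_congr rfl fun s hs => ?_
      have hs' : s ∈ centralizer ({x} : Set G) := mem_centralizer_singleton_iff.2 ((mem_hReg r x).1 hs).1.eq
      rw [hn k ⟨s, hs'⟩, Finset.sum_mul]
      exact Finset.sum_congr rfl fun θ _ => by rw [onG_coe x (θ : CH x → ℂ) ⟨s, hs'⟩, hL]; ring
    rw [e, C.hAvg_expand]
    exact Finset.sum_congr rfl fun θ _ => by rw [← ha i θ]; rfl
  -- the involutions that do not commute with `x`
  set A := Finset.univ.filter fun z : G => IsConj t z ∧ ¬ Commute z x with hA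
  set B := Finset.univ.filter fun z : G => IsConj t z ∧ Commute z x with hB
  set f : G → ℂ := fun y => conj (extFun E T.x (x ^ k * y)) with hf
  have hsplit : centralChar (χ : G → ℂ) t * pairAt r t x T (χ : G → ℂ) k =
      ((eReg r x E).card : ℂ)⁻¹ * ∑ y ∈ eReg r x E, f y * (∑ z ∈ A, (χ : G → ℂ) (z * (t * (x ^ k * y)))) +
        ((eReg r x E).card : ℂ)⁻¹ * ∑ y ∈ eReg r x E, f y * (∑ z ∈ B, (χ : G → ℂ) (z * (t * (x ^ k * y)))) := by
    rw [pairAt, C.regAvg_eq_inv, ← mul_add, ← Finset.sum_add_distrib, mul_left_comm, Finset.mul_sum]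
    congr 1
    refine Finset.sum_congr rfl fun y _ => ?_
    rw [← mul_add, ← mul_assoc, centralChar_mul_apply, mul_comm, hf, hA, hB, Finset.sum_filter,
      Finset.sum_filter, ← Finset.sum_add_distrib]
    congr 1
    refine Finset.sum_congr rfl fun z _ => ?_
    by_cases h1 : IsConj t z <;> by_cases h2 : Commute z x <;> simp [*]
  have hfree : Small 𝔓
      (((eReg r x E).card : ℂ)⁻¹ * ∑ y ∈ eReg r x E, f y * (∑ z ∈ A, (χ : G → ℂ) (z * (t * (x ^ k * y))))) := by
    refine Small.mem_mul (small_sum _ _ fun y hy => Small.mem_mul ?_ (isIntegral_mem_place hP (C.conj_xt_integral _)))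
      (C.inv_card_mem hP)
    obtain ⟨-, h2, -⟩ := (mem_eReg r x).1 hy
    obtain ⟨m, hm⟩ := C.pow
    have hg : Commute (t * (x ^ k * y)) x := C.comm_t.symm.mul_left (((Commute.refl x).pow_left k).mul_left h2)
    refine small_sum_conj_free hP (n := m) (y := x) (hm ▸ pow_orderOf_eq_one x) A _ (fun z hz => ?_)
      (fun z hz => (Finset.mem_filter.1 hz).2.2) (fun z => ?_)
      fun z => isIntegral_mem_place hP (IsCharacter.isIntegral (isCharacter_of_irr χ.2) _)
    · obtain ⟨-, h1, h3⟩ := Finset.mem_filter.1 hz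
      refine Finset.mem_filter.2 ⟨Finset.mem_univ _, h1.trans (isConj_iff.2 ⟨x, rfl⟩), fun hc => h3 ?_⟩
      have h4 := (((Commute.refl x).inv_left).mul_left hc).mul_left (Commute.refl x)
      rwa [show x⁻¹ * (x * z * x⁻¹) * x = z by group] at h4
    · show (χ : G → ℂ) (x * z * x⁻¹ * (t * (x ^ k * y))) = _
      rw [mul_assoc (x * z), ← hg.inv_right.eq,
        show x * z * (t * (x ^ k * y) * x⁻¹) = x * (z * (t * (x ^ k * y))) * x⁻¹ by group]
      exact isClassFunction_irr χ _ _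
  have hfixed : ((eReg r x E).card : ℂ)⁻¹ * ∑ y ∈ eReg r x E, f y * (∑ z ∈ B, (χ : G → ℂ) (z * (t * (x ^ k * y)))) =
      ∑ θ, L θ * (ω θ * b θ) := by
    have hy : ∀ y ∈ eReg r x E, ∑ z ∈ B, (χ : G → ℂ) (z * (t * (x ^ k * y))) =
        ∑ θ, L θ * (ω θ * onG x (θ : CH x → ℂ) (t * y)) := by
      intro y hy
      obtain ⟨hsc, -⟩ := (mem_hReg r x).1 (C.t_mul_mem hy)
      set s : CH x := ⟨t * y, mem_centralizer_singleton_iff.2 hsc.eq⟩ with hs
      have e : ∑ z ∈ B, (χ : G → ℂ) (z * (t * (x ^ k * y))) =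
          ∑ z ∈ Finset.univ.filter (fun z : CH x => IsConj (tH C.comm_t) z), (χ : G → ℂ) (x ^ k * ((z * s : CH x) : G)) := by
        refine (Finset.sum_bij (fun (z : CH x) _ => (z : G)) (fun z hz => ?_) (fun a _ b _ h => Subtype.ext h)
          (fun z hz => ?_) fun z _ => ?_).symm
        · obtain ⟨c, hc⟩ := isConj_iff.1 (Finset.mem_filter.1 hz).2
          refine Finset.mem_filter.2 ⟨Finset.mem_univ _, isConj_iff.2 ⟨(c : G), ?_⟩, mem_centralizer_singleton_iff.1 z.2⟩
          rw [← hc]; rfl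
        · obtain ⟨-, h1, h2⟩ := Finset.mem_filter.1 hz
          obtain ⟨g, hg, hgs⟩ := C.conj_t z (C.isConj_t_iff.1 h1) h2
          exact ⟨⟨z, mem_centralizer_singleton_iff.2 h2.eq⟩, Finset.mem_filter.2 ⟨Finset.mem_univ _,
            isConj_iff.2 ⟨⟨g, mem_centralizer_singleton_iff.2 hg.eq⟩, Subtype.ext hgs⟩⟩, rfl⟩
        · have hzx : Commute x (z : G) := (mem_centralizer_singleton_iff.1 z.2).symm
          rw [Subgroup.coe_mul, show (s : G) = t * y from rfl]
          rw [← mul_assoc, (hzx.pow_left k).eq, mul_assoc, ← mul_assoc (x ^ k), (C.comm_t.pow_left k).eq,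
            mul_assoc t]
      rw [e, Finset.sum_congr rfl fun z _ => hn k (z * s), Finset.sum_comm]
      refine Finset.sum_congr rfl fun θ _ => ?_
      simp only [hL, hω]
      rw [← Finset.mul_sum, show onG x (θ : CH x → ℂ) (t * y) = (θ : CH x → ℂ) s from onG_coe x (θ : CH x → ℂ) s,
        centralChar_mul_apply, Finset.sum_filter]
      exact congrArg _ (Finset.sum_congr rfl fun w _ => by by_cases h : IsConj (tH C.comm_t) w <;> simp [h])
    rw [Finset.mul_sum, Finset.sum_congr rfl fun y hy' => by rw [hy y hy', Finset.mul_sum, Finset.mul_sum],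
      Finset.sum_comm]
    refine Finset.sum_congr rfl fun θ _ => ?_
    simp only [hb]
    rw [C.regAvg_eq_inv, ← mul_assoc, Finset.mul_sum, Finset.mul_sum]
    exact Finset.sum_congr rfl fun y _ => by rw [hf]; ring
  have hrhs : ∑ i, (D.ε i : ℂ) * centralChar (D.γ i : CH x → ℂ) (tH C.comm_t) *
      col r x (D.γ i : CH x → ℂ) (χ : G → ℂ) k =
      ∑ θ, L θ * ∑ i, (D.ε i : ℂ) * ω (D.γ i) * (a i θ : ℂ) := by
    simp only [hcol, Finset.mul_sum]
    rw [Finset.sum_comm]
    exact Finset.sum_congr rfl fun θ _ => Finset.sum_congr rfl fun i _ => by rw [hω]; ring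
  rw [hsplit, hfixed, hrhs, add_sub_assoc, ← Finset.sum_sub_distrib]
  refine hfree.add (small_sum _ _ fun θ _ => ?_)
  rw [← mul_sub]
  refine Small.mem_mul ?_ (mul_mem (natCast_mem_place _) (C.lambda_mem hP θ k))
  have hbmem : b θ ∈ place 𝔓 := by
    simp only [hb]
    rw [C.regAvg_eq_inv]
    refine mul_mem (C.inv_card_mem hP) (sum_mem fun y hy => isIntegral_mem_place hP (IsIntegral.mul ?_ (C.conj_xt_integral _)))
    rw [onG, dif_pos (mem_centralizer_singleton_iff.2 ((mem_hReg r x).1 (C.t_mul_mem hy)).1.eq)]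
    exact IsCharacter.isIntegral (isCharacter_of_irr θ.2) _
  have hexp : b θ = _ := C.pair_expand hP D θ hk
  have hsm := fun m : IrrCharacter (CH x) => C.rInner_eq_zero_or_small hP θ m
  by_cases hcase : ∀ i, (a i θ : ℂ) = 0
  · rw [Finset.sum_eq_zero fun i _ => by rw [hcase i, mul_zero], sub_zero]
    by_cases hb0 : b θ = 0
    · rw [hb0, mul_zero]; exact small_zero
    · refine Small.mul_mem ?_ hbmem
      rw [hexp, Finset.sum_eq_zero fun i _ => by rw [ha i θ, hcase i, mul_zero], add_zero] at hb0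
      rcases hsm (Cfsg.Lib.Chars.principal (CH x)) with h1 | h1
      · rcases hsm D.St with h2 | h2
        · exact absurd (by rw [h1, h2, neg_zero, mul_zero, add_zero]) hb0
        · simpa [hω] using h2.add (C.St_small hP D)
      · simpa [hω] using h1.add (C.principal_small hP D)
  · push Not at hcase
    obtain ⟨i₀, hi₀⟩ := hcase
    have hω0 : ¬ Small 𝔓 (ω θ) := fun h => by
      rcases hsm (D.γ i₀) with h1 | h1
      · exact hi₀ (by rw [← ha i₀ θ]; exact h1)
      · have h2 := h.sub h1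
        rw [hω, sub_sub_cancel] at h2
        exact (C.gamma_unit hP D i₀).not_small h2
    have h1 : rInner r x (θ : CH x → ℂ) (Cfsg.Lib.Chars.principal (CH x) : CH x → ℂ) = 0 :=
      (hsm _).resolve_right fun h => hω0 (by simpa [hω] using h.add (C.principal_small hP D))
    have h2 : rInner r x (θ : CH x → ℂ) (D.St : CH x → ℂ) = 0 :=
      (hsm _).resolve_right fun h => hω0 (by simpa [hω] using h.add (C.St_small hP D))
    rw [hexp, h1, h2, neg_zero, mul_zero, add_zero, zero_add, Finset.mul_sum, ← Finset.sum_sub_distrib]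
    refine small_sum _ _ fun i _ => ?_
    rw [ha i θ, show ω θ * ((D.ε i : ℂ) * (a i θ : ℂ)) - (D.ε i : ℂ) * ω (D.γ i) * (a i θ : ℂ) =
      (D.ε i : ℂ) * ((ω θ - ω (D.γ i)) * (a i θ : ℂ)) by ring]
    refine Small.mem_mul ?_ (intCast_mem_place _)
    rcases hsm (D.γ i) with h | h
    · rw [← ha i θ, h, mul_zero]; exact small_zero
    · exact Small.mul_mem h (intCast_mem_place _)

end Ctx

end Cfsg.Lib.Ree.Field.RAdic
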