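import Mathlib

/-!
The coordinates of seven members at the three functions of the section: the counting.
-/

set_option autoImplicit false

namespace Cfsg.Lib.Ree.Field.RAdic

/-- Three integers with sum two have squares of sum at least two. -/
theorem two_le_sq {a b c : ℤ} (h : a + b + c = 2) : 2 ≤ a * a + b * b + c * c := by
  nlinarith [sq_nonneg (a - b), sq_nonneg (b - c), sq_nonneg (a - c)]

theorem zero_or_one {a b c : ℤ} (h : a + b + c = 2) (h2 : a * a + b * b + c * c = 2) :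
    (a = 0 ∨ a = 1) ∧ (b = 0 ∨ b = 1) ∧ (c = 0 ∨ c = 1) := by
  have key : ∀ z : ℤ, 0 ≤ z * (z - 1) ∧ (z * (z - 1) = 0 → z = 0 ∨ z = 1) := fun z =>
    ⟨by rcases le_or_gt z 0 with h | h <;> nlinarith, fun e => by
      rcases mul_eq_zero.1 e with e | e <;> omega⟩
  have ha := (key a).1; have hb := (key b).1; have hc := (key c).1
  exact ⟨(key a).2 (by nlinarith), (key b).2 (by nlinarith), (key c).2 (by nlinarith)⟩

/-- **The counting.** -/
theorem seven_count {ι : Type*} [Fintype ι] [DecidableEq ι] (cx ca cb : ι → ℤ) (o : ι) (ch : Fin 7 → ι)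
    (hinj : Function.Injective ch) (hone : ∀ i, ch i ≠ o) (gxx : ∑ i, cx i * cx i = 4)
    (gxa : ∑ i, cx i * ca i = 2) (gxb : ∑ i, cx i * cb i = 2) (gaa : ∑ i, ca i * ca i = 4)
    (gbb : ∑ i, cb i * cb i = 4) (gab : ∑ i, ca i * cb i = 2) (ox : cx o = -1) (oa : ca o = 0) (ob : cb o = 0)
    (hx0 : cx (ch 0) ≠ 0 ∧ cx (ch 1) ≠ 0 ∧ cx (ch 2) ≠ 0)
    (hw0 : ca (ch 3) + cb (ch 3) ≠ 0 ∧ ca (ch 4) + cb (ch 4) ≠ 0 ∧ ca (ch 5) + cb (ch 5) ≠ 0 ∧
      ca (ch 6) + cb (ch 6) ≠ 0) :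
    (∀ i, i ≠ o → i ≠ ch 0 → i ≠ ch 1 → i ≠ ch 2 → cx i = 0) ∧
      (cx (ch 0) * cx (ch 0) = 1 ∧ cx (ch 1) * cx (ch 1) = 1 ∧ cx (ch 2) * cx (ch 2) = 1) ∧
      (∀ i, (∀ j, ch j ≠ i) → ca i = 0 ∧ cb i = 0) ∧
      (ca (ch 0) + cb (ch 0) = 0 → ca (ch 1) + cb (ch 1) = 2 * cx (ch 1)) := by
  have one_le : ∀ {z : ℤ}, z ≠ 0 → 1 ≤ z * z := fun h => Int.add_one_le_iff.2 (mul_self_pos.2 h)
  have n01 : ch 0 ≠ ch 1 := fun e => absurd (hinj e) (by decide)
  have n02 : ch 0 ≠ ch 2 := fun e => absurd (hinj e) (by decide)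
  have n12 : ch 1 ≠ ch 2 := fun e => absurd (hinj e) (by decide)
  set U : Finset ι := {o, ch 0, ch 1, ch 2} with hU
  have hUsum : ∀ f : ι → ℤ, ∑ i ∈ U, f i = f o + (f (ch 0) + (f (ch 1) + f (ch 2))) := fun f => by
    rw [hU, Finset.sum_insert (by simp [(hone 0).symm, (hone 1).symm, (hone 2).symm]),
      Finset.sum_insert (by simp [n01, n02]), Finset.sum_pair n12]
  have p0 := one_le hx0.1
  have p1 := one_le hx0.2.1
  have p2 := one_le hx0.2.2
  have hmemU : ∀ i, i ∉ U → i ≠ o ∧ i ≠ ch 0 ∧ i ≠ ch 1 ∧ i ≠ ch 2 := fun i h => by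
    simpa [hU] using h
  have hsx : ∀ i, i ∉ U → cx i = 0 := by
    intro i hi
    have hle : ∑ j ∈ insert i U, cx j * cx j ≤ ∑ j, cx j * cx j :=
      Finset.sum_le_sum_of_subset_of_nonneg (Finset.subset_univ _) fun j _ _ => mul_self_nonneg _
    rw [gxx, Finset.sum_insert hi, hUsum, ox] at hle
    exact mul_self_eq_zero.1 (le_antisymm (by linarith) (mul_self_nonneg _))
  have hsplit : ∀ f : ι → ℤ, (∀ i, cx i = 0 → f i = 0) →
      ∑ i, f i = f o + (f (ch 0) + (f (ch 1) + f (ch 2))) := fun f hf => by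
    rw [← hUsum, Finset.sum_subset (Finset.subset_univ U) fun i _ hn => hf i (hsx i hn)]
  have hxx := hsplit (fun i => cx i * cx i) fun i h => by rw [h, mul_zero]
  rw [gxx, ox] at hxx
  have s0 : cx (ch 0) * cx (ch 0) = 1 := by linarith
  have s1 : cx (ch 1) * cx (ch 1) = 1 := by linarith
  have s2 : cx (ch 2) * cx (ch 2) = 1 := by linarith
  have hxa := hsplit (fun i => cx i * ca i) fun i h => by rw [h, zero_mul]
  rw [gxa, oa, mul_zero, zero_add] at hxa
  have hxb := hsplit (fun i => cx i * cb i) fun i h => by rw [h, zero_mul]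
  rw [gxb, ob, mul_zero, zero_add] at hxb
  have hA2 : ∀ u : ι → ℤ, cx (ch 0) * u (ch 0) + cx (ch 1) * u (ch 1) + cx (ch 2) * u (ch 2) = 2 →
      2 ≤ u (ch 0) * u (ch 0) + u (ch 1) * u (ch 1) + u (ch 2) * u (ch 2) := fun u hu => by
    have h := two_le_sq hu
    linear_combination h + (u (ch 0) * u (ch 0)) * s0 + (u (ch 1) * u (ch 1)) * s1 + (u (ch 2) * u (ch 2)) * s2
  have hA := hA2 ca (by linarith)
  have hB := hA2 cb (by linarith)
  have hn1 : ∀ {a b : ℤ}, a + b ≠ 0 → 1 ≤ a * a + b * b := by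
    intro a b h
    rcases eq_or_ne a 0 with rfl | ha
    · have := one_le (show b ≠ 0 by simpa using h)
      linarith
    · have := one_le ha
      have := mul_self_nonneg b
      linarith
  have q3 := hn1 hw0.1
  have q4 := hn1 hw0.2.1
  have q5 := hn1 hw0.2.2.1
  have q6 := hn1 hw0.2.2.2
  set U7 : Finset ι := Finset.univ.image ch with hU7
  have h7 : ∀ f : ι → ℤ, ∑ i ∈ U7, f i =
      f (ch 0) + f (ch 1) + f (ch 2) + f (ch 3) + f (ch 4) + f (ch 5) + f (ch 6) := fun f => by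
    rw [hU7, Finset.sum_image hinj.injOn, Fin.sum_univ_seven]
  have hn0 : ∀ i, 0 ≤ ca i * ca i + cb i * cb i := fun i => add_nonneg (mul_self_nonneg _) (mul_self_nonneg _)
  have htot : ∑ i, (ca i * ca i + cb i * cb i) = 8 := by
    rw [Finset.sum_add_distrib, gaa, gbb]; norm_num
  have hout : ∀ i, i ∉ U7 → ca i = 0 ∧ cb i = 0 := by
    intro i hi
    have hle : ∑ j ∈ insert i U7, (ca j * ca j + cb j * cb j) ≤ 8 :=
      htot ▸ Finset.sum_le_sum_of_subset_of_nonneg (Finset.subset_univ _) fun j _ _ => hn0 j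
    rw [Finset.sum_insert hi, h7] at hle
    obtain ⟨e1, e2⟩ := (add_eq_zero_iff_of_nonneg (mul_self_nonneg _) (mul_self_nonneg _)).1
      (le_antisymm (by linarith) (hn0 i) : ca i * ca i + cb i * cb i = 0)
    exact ⟨mul_self_eq_zero.1 e1, mul_self_eq_zero.1 e2⟩
  have hsum7 : ∀ f : ι → ℤ, (∀ i, ca i = 0 ∧ cb i = 0 → f i = 0) →
      ∑ i, f i = f (ch 0) + f (ch 1) + f (ch 2) + f (ch 3) + f (ch 4) + f (ch 5) + f (ch 6) := fun f hf => by
    rw [← Finset.sum_subset (Finset.subset_univ U7) fun i _ hn => hf i (hout i hn), h7]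
  have htot7 := hsum7 (fun i => ca i * ca i + cb i * cb i) fun i h => by simp [h.1, h.2]
  rw [htot] at htot7
  have hab7 := hsum7 (fun i => ca i * cb i) fun i h => by simp [h.1]
  rw [gab] at hab7
  have hz : ∀ i, ca i * ca i + cb i * cb i = 1 → ca i * cb i = 0 := fun i h => by
    rcases eq_or_ne (ca i) 0 with e | e
    · rw [e, zero_mul]
    · have := one_le e
      rw [mul_self_eq_zero.1 (le_antisymm (by linarith) (mul_self_nonneg (cb i))), mul_zero]
  rw [hz (ch 3) (by linarith), hz (ch 4) (by linarith), hz (ch 5) (by linarith), hz (ch 6) (by linarith)] at hab7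
  have hU2 : ca (ch 0) * ca (ch 0) + ca (ch 1) * ca (ch 1) + ca (ch 2) * ca (ch 2) = 2 := by linarith
  have hB2 : cb (ch 0) * cb (ch 0) + cb (ch 1) * cb (ch 1) + cb (ch 2) * cb (ch 2) = 2 := by linarith
  have hdiff : (ca (ch 0) - cb (ch 0)) * (ca (ch 0) - cb (ch 0)) + (ca (ch 1) - cb (ch 1)) * (ca (ch 1) - cb (ch 1)) +
      (ca (ch 2) - cb (ch 2)) * (ca (ch 2) - cb (ch 2)) = 0 := by linear_combination hU2 + hB2 + 2 * hab7
  have d0 := mul_self_nonneg (ca (ch 0) - cb (ch 0))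
  have d1 := mul_self_nonneg (ca (ch 1) - cb (ch 1))
  have d2 := mul_self_nonneg (ca (ch 2) - cb (ch 2))
  have ab0 : ca (ch 0) = cb (ch 0) := sub_eq_zero.1 (mul_self_eq_zero.1 (by linarith))
  have ab1 : ca (ch 1) = cb (ch 1) := sub_eq_zero.1 (mul_self_eq_zero.1 (by linarith))
  refine ⟨fun i a b c d => hsx i (by simp [hU, a, b, c, d]), ⟨s0, s1, s2⟩,
    fun i h => hout i (by simp [hU7, h]), fun hw => ?_⟩
  have hz0 : ca (ch 0) = 0 := by linarith
  obtain ⟨-, u1, u2⟩ := zero_or_one (a := cx (ch 0) * ca (ch 0)) (b := cx (ch 1) * ca (ch 1))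
    (c := cx (ch 2) * ca (ch 2)) (by linarith) (by
    linear_combination hU2 + ca (ch 0) * ca (ch 0) * s0 + ca (ch 1) * ca (ch 1) * s1 + ca (ch 2) * ca (ch 2) * s2)
  rw [hz0, mul_zero, zero_add] at hxa
  have hA1 : cx (ch 1) * ca (ch 1) = 1 := by omega
  rw [← ab1]
  linear_combination 2 * cx (ch 1) * hA1 - 2 * ca (ch 1) * s1

end Cfsg.Lib.Ree.Field.RAdic
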