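import Cfsg.Agent.Ree.Field.RAdic.Levels
import Cfsg.Agent.Ree.Field.RAdic.Congr
import Cfsg.Agent.Blocks.Roots

/-!
The contradiction from the two levels `0` and `R / r`: the argument on `G` given the data on `C(x)`.
-/

set_option autoImplicit false
set_option linter.style.haveILetI false
set_option linter.unusedSectionVars false

namespace Cfsg.Lib.Ree.Field.RAdic

open Subgroup Cfsg
open Cfsg.Lib.Chars Cfsg.Lib.Blocks
open scoped ComplexConjugate
open scoped _root_.Classical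

universe u

/-- The pattern `(1, 1)` is impossible. -/
theorem no_case_one {Q d A B k : ℤ} (hk : 2 * k = Q - 1) (hQ : Q % 8 = 5) (hd : d % 8 = 5) (hne : d ≠ Q)
    (hA : A ≠ 0) (hB : B ≠ 0) (hs : A + B = d - 1)
    (h : (k : ℂ) ^ 2 / (A : ℂ) + (k : ℂ) ^ 2 / (B : ℂ) = -1 + (Q : ℂ) ^ 2 / (d : ℂ)) : False := by
  have hd0 : d ≠ 0 := by omega
  have h' : k ^ 2 * (A + B) * d = A * B * (Q ^ 2 - d) := by
    have e : ((k ^ 2 * (A + B) * d : ℤ) : ℂ) = ((A * B * (Q ^ 2 - d) : ℤ) : ℂ) := by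
      have hA' : (A : ℂ) ≠ 0 := Int.cast_ne_zero.2 hA
      have hB' : (B : ℂ) ≠ 0 := Int.cast_ne_zero.2 hB
      have hd' : (d : ℂ) ≠ 0 := Int.cast_ne_zero.2 hd0
      field_simp at h
      push_cast
      linear_combination h
    exact_mod_cast e
  have key : ((A - B) * (d - Q ^ 2)) ^ 2 = (d - Q) ^ 2 * ((d - 1) * (d - Q ^ 2)) := by
    have e1 : 4 * A * B * (Q ^ 2 - d) = (Q - 1) ^ 2 * (d - 1) * d := by
      rw [← hk, ← hs]; linear_combination -4 * h'
    linear_combination (d - Q ^ 2) ^ 2 * (A + B + d - 1) * hs + (d - Q ^ 2) * e1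
  obtain ⟨Y, hY⟩ := (Int.pow_dvd_pow_iff two_ne_zero).1 ⟨_, key⟩
  have hY2 : Y ^ 2 = (d - 1) * (d - Q ^ 2) := by
    refine mul_left_cancel₀ (pow_ne_zero 2 (sub_ne_zero.2 hne)) ?_
    rw [← key, hY]; ring
  obtain ⟨q₁, hq⟩ : ∃ n, Q = 8 * n + 5 := ⟨Q / 8, by omega⟩
  obtain ⟨n, hn⟩ : ∃ n, d = 8 * n + 5 := ⟨d / 8, by omega⟩
  set a := 2 * n + 1 with ha
  set b := 2 * n - 16 * q₁ ^ 2 - 20 * q₁ - 5 with hb
  have hY4 : Y ^ 2 = 16 * (a * b) := by rw [hY2, hq, hn]; ring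
  obtain ⟨Z, hZ⟩ := (Int.pow_dvd_pow_iff two_ne_zero).1 (show (4 : ℤ) ^ 2 ∣ Y ^ 2 from ⟨a * b, by rw [hY4]; ring⟩)
  have hZ2 : Z ^ 2 = a * b := by rw [hZ] at hY4; linarith [hY4, show (4 * Z) ^ 2 = 16 * Z ^ 2 by ring]
  have h4 := congrArg (fun z : ℤ => (z : ZMod 4)) hZ2
  rw [ha, hb] at h4
  push_cast at h4
  generalize (Z : ZMod 4) = z at h4
  generalize (n : ZMod 4) = u at h4
  generalize (q₁ : ZMod 4) = v at h4
  revert h4
  revert z u v
  decide

/-- The pattern `(0, 2)`. -/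
theorem case_two {Q d A B : ℤ} (hd : d ≠ 0) (hA : A ≠ 0) (hB : B ≠ 0) (hA1 : A ≠ -1) (hs : A + B = d - 1)
    (h : 1 / (A : ℂ) + (Q : ℂ) ^ 2 / (B : ℂ) = -1 + (Q : ℂ) ^ 2 / (d : ℂ)) :
    (Q ^ 2 - d) * A = -(d * (d - 1)) := by
  have h' : (B + Q ^ 2 * A) * d = A * B * (Q ^ 2 - d) := by
    have e : (((B + Q ^ 2 * A) * d : ℤ) : ℂ) = ((A * B * (Q ^ 2 - d) : ℤ) : ℂ) := by
      have hA' : (A : ℂ) ≠ 0 := Int.cast_ne_zero.2 hA
      have hB' : (B : ℂ) ≠ 0 := Int.cast_ne_zero.2 hB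
      have hd' : (d : ℂ) ≠ 0 := Int.cast_ne_zero.2 hd
      field_simp at h
      push_cast
      linear_combination h
    exact_mod_cast e
  have hBe : B = d - 1 - A := by linarith
  rw [hBe] at h'
  have : (A + 1) * ((Q ^ 2 - d) * A + d * (d - 1)) = 0 := by linear_combination h'
  rcases mul_eq_zero.1 this with e | e
  · exact absurd (by omega) hA1
  · linarith

variable {G : Type u} [Group G] [Fintype G] {t x : G} {r : ℕ} {E E₀ : Subgroup G} [Fintype E] {F : Type} [Field F]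
  [Fintype F] {M : Ideal AlgInt} {T : Twist.KTable E M}

namespace Ctx

variable (C : Ctx t E E₀ F T r x)
include C

theorem signed_mod : signedCard F % 8 = 5 := by
  have := C.J.mod
  rw [signedCard]
  split_ifs <;> omega

theorem index_eq (χ : IrrCharacter G) : ∃ u z : ℤ, (χ : G → ℂ) t = u ∧
    (8 : ℤ) ∣ (Chars.deg (χ : G → ℂ) : ℤ) - u ∧
    ((centralizer ({t} : Set G)).index : ℤ) * u = (Chars.deg (χ : G → ℂ) : ℤ) * z ∧
    centralChar (χ : G → ℂ) t = z := by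
  obtain ⟨u, hu, h8, hd⟩ := C.S.value_int χ
  obtain ⟨z, hz⟩ := hd
  refine ⟨u, z, hu, h8, hz, ?_⟩
  rw [centralChar, hu, irr_apply_one_eq_deg,
    div_eq_iff (Nat.cast_ne_zero.2 (deg_irr_pos χ).ne' : (Chars.deg (χ : G → ℂ) : ℂ) ≠ 0)]
  have e := congrArg (fun w : ℤ => (w : ℂ)) hz
  push_cast at e
  linear_combination e

theorem pow_dvd_deg {χ : IrrCharacter G} {z u : ℤ}
    (h : ((centralizer ({t} : Set G)).index : ℤ) * u = (Chars.deg (χ : G → ℂ) : ℤ) * z) (hz : ¬ (r : ℤ) ∣ z) :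
    (r : ℤ) ^ ((centralizer ({t} : Set G)).index.factorization r) ∣ (Chars.deg (χ : G → ℂ) : ℤ) := by
  have h1 : (r : ℤ) ^ ((centralizer ({t} : Set G)).index.factorization r) ∣ (Chars.deg (χ : G → ℂ) : ℤ) * z := by
    rw [← h]
    exact (by exact_mod_cast Nat.ordProj_dvd _ _ :
      (r : ℤ) ^ ((centralizer ({t} : Set G)).index.factorization r) ∣ ((centralizer ({t} : Set G)).index : ℤ)).mul_right u
  exact ((Nat.prime_iff_prime_int.mp C.prime).coprime_iff_not_dvd.2 hz).pow_left.dvd_of_dvd_mul_right h1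

theorem not_small_central {χ : IrrCharacter G} {𝔓 : Ideal AlgInt} (hP : IsPModular r 𝔓) {z : ℤ}
    (hz : centralChar (χ : G → ℂ) t = z) : ¬ Small 𝔓 (centralChar (χ : G → ℂ) t) ↔ ¬ (r : ℤ) ∣ z := by
  rw [hz, small_intCast_iff hP]

variable (D : HData r x t E (signedCard F) (Function.extend Subtype.val T.x 0))
include D

theorem false_of_data (hh : r ∣ (centralizer ({t} : Set G)).index) : False := by
  haveI := C.J.simple
  obtain ⟨ν, h0, h1, h2⟩ := C.exists_nu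
  have hν : Lev E₀ r x C.mem ν := ⟨h0, h1, h2⟩
  obtain ⟨𝔓, hP⟩ := exists_isPModular C.prime
  choose X hX hzero using fun i : Fin 2 => C.exists_twins D hν i
  set R := orderOf x with hRdef
  set ζ : ℂ := (ν ⟨x, C.mem⟩ : ℂ) with hζ
  set h := (centralizer ({t} : Set G)).index with hhdef
  set m := h.factorization r with hm
  have hm1 : 1 ≤ m := C.prime.factorization_pos_of_dvd Subgroup.index_ne_zero_of_finite hh
  have hQ8 : (signedCard F) % 8 = 5 := C.signed_mod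
  have hQ2 : 2 * midVal (signedCard F) = (signedCard F) + 1 := by rw [midVal]; omega
  have hμ : ∀ j : ℕ, ∀ y : E, (y : G) ∈ E₀ → (ν ^ j) y = 1 := fun j y hy => by
    rw [MonoidHom.pow_apply, hν.triv y hy, one_pow]
  have hne0 : ∀ i j, j < R → cX t T (ν ^ j) (X i j) ≠ 0 := fun i j hj e => by
    simpa [e] using (hX i j hj).1
  -- a member of a level is not a member of another one
  have hsep : ∀ (χ : IrrCharacter G) (j j' : ℕ), j < R → j' < R → cX t T (ν ^ j) χ ≠ 0 →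
      cX t T (ν ^ j') χ ≠ 0 → j = j' := by
    intro χ j j' hj hj' hc hc'
    by_contra hjj
    have hne : ν ^ j' ≠ ν ^ j := fun e => hjj (hν.prim.pow_inj hj hj' (by
      simpa using (congrArg Units.val (DFunLike.congr_fun e (⟨x, C.mem⟩ : E))).symm))
    exact hc' ((C.tw.sep (ν ^ j) (hμ j) χ (Or.inl hc)).2 (ν ^ j') (hμ j') hne).1
  have hdist : ∀ i i' j j', j < R → j' < R → X i j = X i' j' → i = i' := by
    intro i i' j j' hj hj' e
    have hjj : j = j' := hsep _ j j' hj hj' (hne0 i j hj) (e ▸ hne0 i' j' hj')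
    subst hjj
    have h1 := (hX i j hj).2.1
    have h2 := (hX i' j hj).2.1
    rw [← e, h1] at h2
    have h3 := mul_right_cancel₀ (hne0 i j hj) h2
    fin_cases i <;> fin_cases i' <;> first | rfl | (exfalso; norm_num at h3)
  -- the twins
  have htwin : ∀ i j, j < R → (r : ℤ) ^ m ∣ (Chars.deg (X i j : G → ℂ) : ℤ) := by
    intro i j hj
    obtain ⟨u, z, hu, -, hz, hω⟩ := C.index_eq (X i j)
    refine C.pow_dvd_deg hz ((C.not_small_central hP hω).1 fun hs => ?_)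
    have hk : (1 : ℕ).Coprime r := Nat.coprime_one_left r
    have hc := C.congr_col hP D (X i j) hk
    rw [Finset.sum_eq_single i (fun i' _ hne => by
        rw [hzero i' _ (fun j' hj' e => hne (hdist i' i j' j hj' hj e.symm)) 1 hk, mul_zero])
      (fun hn => absurd (Finset.mem_univ _) hn)] at hc
    have hsm := (hs.mul_mem (C.pairAt_mem hP (X i j) 1)).sub hc
    rw [sub_sub_cancel, (hX i j hj).2.2 1 hk] at hsm
    have hsq : ∀ w : ℂ, w * w = 1 → IsUnitAt 𝔓 w := fun w hw =>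
      isUnitAt_of_pow_eq_one hP two_ne_zero (by rw [pow_two, hw])
    have hε : IsUnitAt 𝔓 (D.ε i : ℂ) := hsq _ (by exact_mod_cast D.sq i)
    have hζu : IsUnitAt 𝔓 (ζ ^ (j * 1)) := isUnitAt_of_pow_eq_one hP (orderOf_pos x).ne' (by
      rw [← pow_mul, mul_comm, pow_mul, hν.prim.pow_eq_one, one_pow])
    exact ((hε.mul (C.gamma_unit hP D i)).mul ((hε.mul hζu).mul (hsq _ (hX i j hj).1))).not_small hsm
  -- the levels
  have hR0 : 0 < R := orderOf_pos x
  set j₁ := R / r with hj₁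
  have hj1 : j₁ < R := Nat.div_lt_self hR0 C.prime.one_lt
  have hj10 : j₁ ≠ 0 := (Nat.div_pos (Nat.le_of_dvd hR0 C.dvd_R) C.prime.pos).ne'
  obtain ⟨c0, a0, b0, L0⟩ := C.exists_coords (ν ^ 0)
  obtain ⟨c1, a1, b1, L1⟩ := C.exists_coords (ν ^ j₁)
  have hcast : ∀ {j : ℕ} {c a b : IrrCharacter G → ℤ}, LevCoords t T (ν ^ j) c a b → j < R →
      c (X 0 j) * c (X 0 j) = 1 ∧ c (X 1 j) * c (X 1 j) = 1 ∧ a (X 0 j) + b (X 0 j) = 0 ∧
        a (X 1 j) + b (X 1 j) = 2 * c (X 1 j) := by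
    intro j c a b L hj
    obtain ⟨p1, p2, -⟩ := hX 0 j hj
    obtain ⟨q1, q2, -⟩ := hX 1 j hj
    rw [L.x] at p1 q1
    rw [L.x, L.al, L.be] at p2 q2
    simp only [Matrix.cons_val_zero, Matrix.cons_val_one, Int.cast_zero, zero_mul] at p2 q2
    exact ⟨by exact_mod_cast p1, by exact_mod_cast q1, by exact_mod_cast p2, by exact_mod_cast q2⟩
  obtain ⟨u0, v0, wX0, wX0'⟩ := hcast L0 hR0
  obtain ⟨u1, v1, wX1, wX1'⟩ := hcast L1 hj1
  obtain ⟨hXX0, A0, B0, hAB0, hA0, hB0, cA0, cB0, hout0, hpat0⟩ := C.level_four L0 u0 v0 wX0 wX0'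
  obtain ⟨hXX1, A1, B1, hAB1, hA1, hB1, cA1, cB1, hout1, hpat1⟩ := C.level_four L1 u1 v1 wX1 wX1'
  -- the principal character at level 0
  set P : IrrCharacter G := Cfsg.Lib.Chars.principal G with hP'
  have hPsec : sectVal t E P = T.ps 0 := by
    rw [T.ps_zero]; rfl
  have htw1 : ∀ f : E → ℂ, Twist.twist (ν ^ 0) f = f := fun f => by funext y; simp [Twist.twist]
  have hPc : c0 P = -1 ∧ a0 P = 0 ∧ b0 P = 0 := by
    have hin := fun i j => T.inner_ps i j
    refine ⟨?_, ?_, ?_⟩ <;> apply Int.cast_injective (α := ℂ)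
    · rw [← L0.x, cX, coord, htw1, hPsec, Twist.KTable.x, classInner_sub_right, hin, hin]
      norm_num [Fin.ext_iff]
    · rw [← L0.al, cA, coord, htw1, hPsec, Twist.KTable.al, classInner_sub_right, hin, hin]
      norm_num [Fin.ext_iff]
    · rw [← L0.be, cB, coord, htw1, hPsec, Twist.KTable.be, classInner_sub_right, hin, hin]
      norm_num [Fin.ext_iff]
  have hPX : ∀ i j, j < R → P ≠ X i j := by
    intro i j hj e
    have h1 := htwin i j hj
    rw [← e, show Chars.deg (P : G → ℂ) = 1 from by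
      apply Nat.cast_injective (R := ℂ); rw [← irr_apply_one_eq_deg]; simp [hP', Cfsg.Lib.Chars.principal],
      Nat.cast_one] at h1
    have h2 : (r : ℤ) ∣ 1 := (dvd_pow_self _ (by omega)).trans h1
    have h3 := C.prime.one_lt
    have := Int.le_of_dvd one_pos h2
    omega
  have hPmem : P = A0 ∨ P = B0 := by
    by_contra hc
    push Not at hc
    have := hout0 P (by simp [hPX 0 0 hR0, hPX 1 0 hR0, hc.1, hc.2])
    rw [hPc.1] at this
    norm_num at this
  have hz0 : c0 P * (a0 P + b0 P) = 0 := by rw [hPc.2.1, hPc.2.2]; ring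
  obtain ⟨hPA, hzA0, hzB0⟩ : P = A0 ∧ c0 A0 * (a0 A0 + b0 A0) = 0 ∧ c0 B0 * (a0 B0 + b0 B0) = 2 := by
    rcases hpat0 with ⟨e1, e2, -, -⟩ | ⟨e1, e2⟩ <;> rcases hPmem with e | e
    · exact ⟨e, e1, e2⟩
    · rw [← e, hz0] at e2; norm_num at e2
    · rw [← e, hz0] at e1; norm_num at e1
    · rw [← e, hz0] at e2; norm_num at e2
  subst hPA
  have hdegP : Chars.deg (P : G → ℂ) = 1 := by
    apply Nat.cast_injective (R := ℂ); rw [← irr_apply_one_eq_deg]; simp [hP', Cfsg.Lib.Chars.principal]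
  -- the degrees
  set d := c0 B0 * (Chars.deg (B0 : G → ℂ) : ℤ) with hd
  set DX := c0 (X 0 0) * (Chars.deg (X 0 0 : G → ℂ) : ℤ) with hDX
  set DX' := c0 (X 1 0) * (Chars.deg (X 1 0 : G → ℂ) : ℤ) with hDX'
  obtain ⟨s0, k0⟩ := C.level_eqs (hμ 0) L0 hXX0 hAB0 hA0 hB0 hout0 u0 v0 cA0 cB0 wX0 wX0'
  obtain ⟨s1, k1⟩ := C.level_eqs (hμ j₁) L1 hXX1 hAB1 hA1 hB1 hout1 u1 v1 cA1 cB1 wX1 wX1'
  have hdeq : ∀ i, c0 (X i 0) * (Chars.deg (X i 0 : G → ℂ) : ℤ) =
      c1 (X i j₁) * (Chars.deg (X i j₁ : G → ℂ) : ℤ) := by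
    intro i
    have e := C.twins_degree D hν i (X i) (hX i) (hzero i)
    rw [← hRdef, ← hj₁, L0.x, L1.x, irr_apply_one_eq_deg, irr_apply_one_eq_deg] at e
    exact_mod_cast e
  rw [← hdeq 0, ← hdeq 1] at s1
  rw [← hdeq 0, ← hdeq 1] at k1
  rw [← hd, ← hDX, ← hDX', hPc.1, hdegP] at s0
  rw [← hd, ← hDX, ← hDX', hzA0, hzB0, hPc.1, hdegP] at k0
  rw [← hDX, ← hDX'] at s1 k1
  set DA := c1 A1 * (Chars.deg (A1 : G → ℂ) : ℤ) with hDA
  set DB := c1 B1 * (Chars.deg (B1 : G → ℂ) : ℤ) with hDB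
  have hsumAB : DA + DB = d - 1 := by omega
  have e2Q : -1 + midVal (signedCard F) * 2 = (signedCard F) := by linarith
  rw [e2Q] at k0
  have k01 := k1.trans k0.symm
  have hcount : ((-1 + midVal (signedCard F) * (c1 A1 * (a1 A1 + b1 A1)) : ℤ) : ℂ) ^ 2 / (DA : ℂ) +
      ((-1 + midVal (signedCard F) * (c1 B1 * (a1 B1 + b1 B1)) : ℤ) : ℂ) ^ 2 / (DB : ℂ) = -1 + ((signedCard F) : ℂ) ^ 2 / (d : ℂ) := by
    simp only [mul_zero, add_zero, Nat.cast_one, mul_one, Int.cast_neg, Int.cast_one] at k01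
    linear_combination k01
  -- the congruences modulo `r` and `8`
  have hd0 : d ≠ 0 := mul_ne_zero (fun e => by simp [e] at cB0) (by exact_mod_cast (deg_irr_pos B0).ne')
  have hDA0 : DA ≠ 0 := mul_ne_zero (fun e => by simp [e] at cA1) (by exact_mod_cast (deg_irr_pos A1).ne')
  have hDB0 : DB ≠ 0 := mul_ne_zero (fun e => by simp [e] at cB1) (by exact_mod_cast (deg_irr_pos B1).ne')
  have hrd : (r : ℤ) ^ m ∣ d - 1 := by
    rw [show d - 1 = -(DX + DX') by omega]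
    exact (dvd_add ((htwin 0 0 hR0).mul_left _) ((htwin 1 0 hR0).mul_left _)).neg_right
  have hB0t : (B0 : G → ℂ) t = ((c0 B0 * (signedCard F) : ℤ) : ℂ) := by
    rw [C.value_t (hμ 0) L0 (fun e => by simp [e] at cB0)]
    congr 1
    linear_combination (-(midVal (signedCard F) * (a0 B0 + b0 B0))) * cB0 + c0 B0 * midVal (signedCard F) * hzB0 + c0 B0 * hQ2
  have hd8 : d % 8 = 5 := by
    obtain ⟨u, z, hu, h8, -, -⟩ := C.index_eq B0
    rw [hB0t] at hu
    have hu' : u = c0 B0 * (signedCard F) := (Int.cast_injective hu).symm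
    rw [hu'] at h8
    have h9 : (8 : ℤ) ∣ d - (signedCard F) := by
      have := h8.mul_left (c0 B0)
      rwa [mul_sub, ← mul_assoc, cB0, one_mul, ← hd] at this
    omega
  rcases hpat1 with ⟨e1, e2, za, zb⟩ | ⟨e1, e2⟩
  · -- `(0, 2)`
    rw [e1, e2, e2Q, mul_zero, add_zero] at hcount
    have hA1P : A1 ≠ P := by
      intro e
      refine hj10 (hsep P j₁ 0 hj1 hR0 ?_ ?_)
      · rw [← e, L1.x]
        exact Int.cast_ne_zero.2 fun e' => by simp [e'] at cA1
      · rw [L0.x, hPc.1]; norm_num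
    have hDA1 : DA ≠ -1 := by
      intro e
      refine hA1P (eq_principal_of_deg_one C.J.nab A1 ?_)
      have h1 : ((Chars.deg (A1 : G → ℂ) : ℤ)) = 1 ∨ ((Chars.deg (A1 : G → ℂ) : ℤ)) = -1 := by
        rcases mul_self_eq_one_iff.1 cA1 with e' | e' <;> rw [hDA, e'] at e <;> omega
      omega
    have hk : ((signedCard F) ^ 2 - d) * DA = -(d * (d - 1)) := case_two hd0 hDA0 hDB0 hDA1 hsumAB (by
      rw [← hcount]; norm_num)
    have hrm : (r : ℤ) ^ m ∣ DA := by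
      have h1 : (r : ℤ) ^ m ∣ ((signedCard F) ^ 2 - d) * DA := by rw [hk]; exact (hrd.mul_left d).neg_right
      have h2 : ¬ (r : ℤ) ∣ (signedCard F) ^ 2 - d := fun hq => D.q_unit.2 (by
        have h3 : (r : ℤ) ∣ d - 1 := (dvd_pow_self _ (by omega)).trans hrd
        have := dvd_add hq h3
        rwa [show (signedCard F) ^ 2 - d + (d - 1) = (signedCard F) ^ 2 - 1 by ring] at this)
      exact ((Nat.prime_iff_prime_int.mp C.prime).coprime_iff_not_dvd.2 h2).pow_left.dvd_of_dvd_mul_left h1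
    have hcne : c1 A1 ≠ 0 := fun e => by simp [e] at cA1
    obtain ⟨u, z, hu, -, hz, hω⟩ := C.index_eq A1
    have hu' : u = -c1 A1 := by
      have h1 := C.value_t (hμ j₁) L1 hcne
      rw [za, zb, hu] at h1
      have := Int.cast_injective h1
      simpa using this
    have hnz : ¬ (r : ℤ) ∣ z := by
      intro hz'
      have h1 : (r : ℤ) ^ m ∣ (Chars.deg (A1 : G → ℂ) : ℤ) := by
        have := hrm.mul_left (c1 A1)
        rwa [hDA, ← mul_assoc, cA1, one_mul] at this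
      have h2 : (r : ℤ) ^ (m + 1) ∣ (h : ℤ) := by
        have h3 := mul_dvd_mul h1 hz'
        rw [← pow_succ, ← hz, hu'] at h3
        have := h3.mul_right (-c1 A1)
        rwa [mul_assoc, neg_mul_neg, cA1, mul_one] at this
      exact Nat.pow_succ_factorization_not_dvd Subgroup.index_ne_zero_of_finite C.prime
        (by exact_mod_cast h2)
    have hk1 : (1 : ℕ).Coprime r := Nat.coprime_one_left r
    have hc := C.congr_col hP D A1 hk1
    have hnot : ∀ i, ∀ j < R, A1 ≠ X i j := by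
      intro i j hj e
      have hjj : j = j₁ := hsep A1 j j₁ hj hj1 (by rw [e]; exact hne0 i j hj)
        (by rw [L1.x]; exact Int.cast_ne_zero.2 hcne)
      subst hjj
      fin_cases i
      · exact hA1.1 e
      · exact hA1.2 e
    rw [Finset.sum_eq_zero fun i _ => by rw [hzero i A1 (hnot i) 1 hk1, mul_zero]] at hc
    rw [sub_zero] at hc
    have hpair : pairAt r t x T (A1 : G → ℂ) 1 = (c1 A1 : ℂ) * ζ ^ (j₁ * 1) := by
      have hone : regAvg r x E (fun y => conj (extFun E T.x (x ^ 1 * y))) = -1 := by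
        have e : regAvg r x E (fun y => extFun E T.x (x ^ 1 * y)) = -1 := D.one_x 1 hk1
        have := congrArg conj e
        rw [C.regAvg_eq_inv, map_mul, map_inv₀, map_natCast, map_sum, map_neg, map_one] at this
        rw [C.regAvg_eq_inv, this]
      have e : pairAt r t x T (A1 : G → ℂ) 1 =
          (-(c1 A1 : ℂ) * ζ ^ (j₁ * 1)) * regAvg r x E (fun y => conj (extFun E T.x (x ^ 1 * y))) := by
        rw [pairAt, C.regAvg_eq_inv, C.regAvg_eq_inv, mul_left_comm, Finset.mul_sum, Finset.mul_sum, Finset.mul_sum]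
        refine Finset.sum_congr rfl fun y hy => ?_
        obtain ⟨hy1, -, -⟩ := (mem_eReg r x).1 hy
        have hm' : x ^ 1 * y ∈ E := mul_mem (pow_mem C.mem _) hy1
        by_cases ho : Odd (orderOf (⟨x ^ 1 * y, hm'⟩ : E))
        · have hv := C.value_section (hμ j₁) L1 hcne ho
          simp only [za, zb, Int.cast_zero, zero_mul, add_zero] at hv
          have hνy : (((ν ^ j₁) ⟨x ^ 1 * y, hm'⟩ : ℂˣ) : ℂ) = ζ ^ (j₁ * 1) := by
            rw [show (⟨x ^ 1 * y, hm'⟩ : E) = ⟨x, C.mem⟩ * ⟨y, hy1⟩ from Subtype.ext (by simp), MonoidHom.pow_apply,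
              map_mul, hν.reg ⟨y, hy1⟩ (by rw [← Subgroup.orderOf_coe]; exact ((mem_eReg r x).1 hy).2.2), mul_one,
              Units.val_pow_eq_pow_val, mul_one]
          rw [hνy] at hv
          rw [hv]
          ring
        · rw [extFun_mk _ _ hm', T.special_x.2.2 _ ho]
          simp
      rw [e, hone]
      ring
    rw [hpair] at hc
    have hu1 : IsUnitAt 𝔓 ((c1 A1 : ℂ) * ζ ^ (j₁ * 1)) := by
      refine (isUnitAt_of_pow_eq_one hP two_ne_zero (by rw [pow_two]; exact_mod_cast cA1)).mul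
        (isUnitAt_of_pow_eq_one hP hR0.ne' ?_)
      rw [← pow_mul, mul_comm, pow_mul, hν.prim.pow_eq_one, one_pow]
    refine (IsUnitAt.mul ?_ hu1).not_small hc
    rw [hω]
    exact isUnitAt_iff.2 ⟨intCast_mem_place z, not_small_intCast hP hnz⟩
  · -- `(1, 1)`
    rw [e1, e2, mul_one] at hcount
    refine no_case_one (k := -1 + midVal (signedCard F)) (by omega) hQ8 hd8 (fun e => ?_) hDA0 hDB0 hsumAB hcount
    have hBP : B0 = P := by
      refine eq_principal_of_norm_eq C.J.nab C.J.hyp.t_ne B0 ?_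
      have hv : c0 B0 * (signedCard F) = (Chars.deg (B0 : G → ℂ) : ℤ) := by
        rw [← e, hd, ← mul_assoc, cB0, one_mul]
      rw [hB0t, hv, Int.cast_natCast, Complex.norm_natCast]
    exact hAB0 hBP.symm

end Ctx

/-- The piece. -/
theorem coreSpec : CoreSpec.{u} := by
  intro G _ _ t E E₀ _ F _ _ J M T hM hT T' r x F₁ _ _ X L h3 D
  have C : Ctx t E E₀ F T r x :=
    ⟨J, hM, hT, L.abel, L.conj_t, L.not_conj, X.prime, h3, X.mem, X.comm_t, X.ne, X.pow, X.inter, X.gen, D.cen_reg⟩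
  exact C.false_of_data D
    ((Nat.ModEq.dvd_iff (invCount_modEq J X) dvd_rfl).2 D.dvd_inv)

end Cfsg.Lib.Ree.Field.RAdic
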