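import Cfsg.Agent.Ree.Field.RAdic.Side
import Cfsg.Agent.Chars.Clifford

/-!
A normal subgroup of Ree type and odd index: the seven members other than the principal one are invariant as soon as
their coordinates are.
-/

set_option autoImplicit false
set_option linter.unusedSectionVars false
set_option linter.style.haveILetI false

namespace Cfsg.Lib.Ree.Field.RAdic

open Cfsg Cfsg.Lib.Chars Cfsg.Lib.Blocks
open scoped ComplexConjugate

universe u v

/-- Four letters in two pairs: a map which fixes the label. -/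
theorem pair_back {α : Type*} {a b c d x y z : α} (f : α → ℤ) (hab : f a ≠ f b) (hcd : f c ≠ f d)
    (hx : x = a ∨ x = b ∨ x = c ∨ x = d) (hy : y = a ∨ y = b ∨ y = c ∨ y = d) (hz : z = a ∨ z = b ∨ z = c ∨ z = d)
    (hxy : f x = f y) (hxz : f x = f z) (hyz : z = y → y = x) (hyx : y = x → z = x) : z = x := by
  rcases hx with rfl | rfl | rfl | rfl <;> rcases hy with rfl | rfl | rfl | rfl <;>
    rcases hz with rfl | rfl | rfl | rfl
  all_goals
    first
      | rfl
      | omega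
      | exact hyz rfl
      | exact hyx rfl

variable {X : Type u} [Group X] [Fintype X] (M : Subgroup X) [M.Normal] [Fintype M] {tM : M} {EM : Subgroup M}
  [Fintype EM] {L : Type v} [Field L] [Fintype L] (C : Real.RCtx tM EM L)

/-- The conjugate character. -/
noncomputable def conjC (g : X) (φ : IrrCharacter M) : IrrCharacter M := ⟨_, IsIrrCharacter.conjN φ.2 g⟩

theorem conjC_coe (g : X) (φ : IrrCharacter M) : (conjC M g φ : M → ℂ) = Chars.conjN M g (φ : M → ℂ) := rfl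

theorem deg_conjC (g : X) (φ : IrrCharacter M) : deg (conjC M g φ : M → ℂ) = deg (φ : M → ℂ) := by
  refine Nat.cast_injective (R := ℂ) ?_
  rw [← irr_apply_one_eq_deg, ← irr_apply_one_eq_deg, conjC_coe]
  show (φ : M → ℂ) _ = _
  exact congrArg _ (Subtype.ext (show g * ((1 : M) : X) * g⁻¹ = ((1 : M) : X) by simp))

include C

/-- The signed degrees in absolute value. -/
theorem deg_abs (φ : IrrCharacter M) : (deg (φ : M → ℂ) : ℤ) = |C.D.d φ| := by
  rw [Ctx.d, abs_mul, Nat.abs_cast]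
  rcases mul_self_eq_one_iff.1 (C.D.R.sg_sq φ) with e | e <;> simp [e]

theorem long_fixed (hinv : ∀ φ g, coord tM EM (conjC M g φ) C.D.Tb.x = coord tM EM φ C.D.Tb.x)
    {φ : IrrCharacter M} (hφ : φ = C.S.e1 ∨ φ = C.S.c3 ∨ φ = C.S.c4) (g : X) : conjC M g φ = φ := by
  obtain ⟨r0, r1, r5, r6, r7, r8, r3, r4⟩ := C.S.rows
  obtain ⟨m0, m1, m5, m6, m7, m8, m3, m4⟩ := C.S.mem
  have hmem : φ ∈ C.D.R.L := by rcases hφ with rfl | rfl | rfl <;> assumption
  have hrow : (C.D.R.row φ).1 = 1 := by rcases hφ with rfl | rfl | rfl <;> simp [r1, r3, r4]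
  have hco : coord tM EM (conjC M g φ) C.D.Tb.x ≠ 0 := by
    rw [hinv, (C.D.R.coords φ hmem).1, hrow, mul_one]
    intro e
    have := C.D.R.sg_sq φ
    rw [Int.cast_eq_zero.1 e] at this
    norm_num at this
  have hL : conjC M g φ ∈ C.D.R.L := by_contra fun hn => hco (C.D.R.rest _ hn).1
  have hrow' : (C.D.R.row (conjC M g φ)).1 ≠ 0 := fun e => hco (by
    rw [(C.D.R.coords _ hL).1, e, mul_zero, Int.cast_zero])
  have h27 : (27 : ℤ) ≤ Fintype.card L := by exact_mod_cast C.q_ge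
  have q1 : (1 : ℤ) < (Fintype.card L : ℤ) ^ 2 - Fintype.card L + 1 := by nlinarith
  have q2 : (Fintype.card L : ℤ) ^ 2 - Fintype.card L + 1 <
      Fintype.card L * ((Fintype.card L : ℤ) ^ 2 - Fintype.card L + 1) := by nlinarith
  have q3 : (Fintype.card L : ℤ) * ((Fintype.card L : ℤ) ^ 2 - Fintype.card L + 1) < (Fintype.card L : ℤ) ^ 3 := by
    nlinarith
  have a0 : |C.D.d C.S.o| = 1 := by rw [C.S.head.1]; rfl
  have a1 : |C.D.d C.S.e1| = (Fintype.card L : ℤ) ^ 2 - Fintype.card L + 1 := by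
    rw [C.d_e1, abs_of_pos (by linarith)]
  have a3 : |C.D.d C.S.c3| = Fintype.card L * ((Fintype.card L : ℤ) ^ 2 - Fintype.card L + 1) := by
    rw [C.d_c3, abs_of_pos (by linarith)]
  have a4 : |C.D.d C.S.c4| = (Fintype.card L : ℤ) ^ 3 := by rw [C.d_c4, abs_neg, abs_of_nonneg (by positivity)]
  have hd : |C.D.d (conjC M g φ)| = |C.D.d φ| := by rw [← deg_abs, ← deg_abs, deg_conjC]
  rcases mem_cases C hL with e | e | e | e | e | e | e | e
  case' inr.inr.inl => exact absurd (by rw [e, r5]) hrow'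
  case' inr.inr.inr.inl => exact absurd (by rw [e, r6]) hrow'
  case' inr.inr.inr.inr.inl => exact absurd (by rw [e, r7]) hrow'
  case' inr.inr.inr.inr.inr.inl => exact absurd (by rw [e, r8]) hrow'
  all_goals
    rcases hφ with rfl | rfl | rfl
  all_goals
    first
      | exact e
      | (exfalso; rw [e] at hd; linarith)

theorem short_fixed {Mi : Ideal AlgInt} (hM : IsPModular 2 Mi) (K₁ : Twist.KTable EM Mi) (hx : K₁.x = C.D.Tb.x)
    (hA : K₁.A 1 = (midVal (signedCard L) : ℂ)) (hB : K₁.B 1 = (midVal (signedCard L) : ℂ))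
    (hconj : ∀ s : M, orderOf s = 2 → IsConj tM s) (hodd : Odd M.index)
    (hinvx : ∀ φ g, coord tM EM (conjC M g φ) C.D.Tb.x = coord tM EM φ C.D.Tb.x)
    (hinvw : ∀ φ g, coord tM EM (conjC M g φ) (K₁.al + K₁.be) = coord tM EM φ (K₁.al + K₁.be))
    {φ : IrrCharacter M} (hφ : φ = C.S.c5 ∨ φ = C.S.c6 ∨ φ = C.S.c7 ∨ φ = C.S.c8) (g : X) :
    conjC M g φ = φ := by
  obtain ⟨r0, r1, r5, r6, r7, r8, r3, r4⟩ := C.S.rows
  obtain ⟨m0, m1, m5, m6, m7, m8, m3, m4⟩ := C.S.mem
  obtain ⟨-, w5, w6, w7, w8, -, -⟩ := C.S.ws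
  have hsg : ∀ χ, C.D.R.sg χ ≠ 0 := fun χ e => by
    have := C.D.R.sg_sq χ
    rw [e] at this
    norm_num at this
  have key : ∀ ψ, (ψ = C.S.c5 ∨ ψ = C.S.c6 ∨ ψ = C.S.c7 ∨ ψ = C.S.c8) → ∀ a : X,
      (conjC M a ψ = C.S.c5 ∨ conjC M a ψ = C.S.c6 ∨ conjC M a ψ = C.S.c7 ∨ conjC M a ψ = C.S.c8) ∧
        C.D.d (conjC M a ψ) = C.D.d ψ := by
    intro ψ hψ a
    have hmem : ψ ∈ C.D.R.L := by rcases hψ with rfl | rfl | rfl | rfl <;> assumption
    have hL : conjC M a ψ ∈ C.D.R.L := mem_of_coord C hM K₁ (by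
      rw [hinvw]; exact coord_short C hM K₁ hx hA hB hψ)
    have hr0 : (C.D.R.row (conjC M a ψ)).1 = 0 := by
      have h : coord tM EM (conjC M a ψ) C.D.Tb.x = 0 := by
        rw [hinvx, (C.D.R.coords ψ hmem).1]
        rcases hψ with rfl | rfl | rfl | rfl <;> simp [r5, r6, r7, r8]
      rw [(C.D.R.coords _ hL).1, Int.cast_eq_zero] at h
      exact (mul_eq_zero.1 h).resolve_left (hsg _)
    have hψ' : conjC M a ψ = C.S.c5 ∨ conjC M a ψ = C.S.c6 ∨ conjC M a ψ = C.S.c7 ∨ conjC M a ψ = C.S.c8 := by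
      rcases mem_cases C hL with e | e | e | e | e | e | e | e
      · rw [e, r0] at hr0; norm_num at hr0
      · rw [e, r1] at hr0; norm_num at hr0
      · exact Or.inl e
      · exact Or.inr (Or.inl e)
      · exact Or.inr (Or.inr (Or.inl e))
      · exact Or.inr (Or.inr (Or.inr e))
      · rw [e, r3] at hr0; norm_num at hr0
      · rw [e, r4] at hr0; norm_num at hr0
    refine ⟨hψ', ?_⟩
    have hwψ : C.D.w ψ = midVal (signedCard L) := by rcases hψ with rfl | rfl | rfl | rfl <;> assumption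
    have hwψ' : C.D.w (conjC M a ψ) = midVal (signedCard L) := by
      rcases hψ' with e | e | e | e <;> rw [e] <;> assumption
    have ht : (conjC M a ψ : M → ℂ) tM = (ψ : M → ℂ) tM := by
      obtain ⟨c, hc⟩ := isConj_iff.1 (hconj ⟨a * (tM : X) * a⁻¹, (inferInstance : M.Normal).conj_mem _ tM.2 a⟩ (by
        rw [Subgroup.orderOf_mk, ← MulAut.conj_apply, MulEquiv.orderOf_eq, Subgroup.orderOf_coe]
        exact C.D.set.hyp.ord))
      rw [conjC_coe]
      show (ψ : M → ℂ) ⟨a * (tM : X) * a⁻¹, _⟩ = _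
      rw [← hc]
      exact isClassFunction_irr ψ _ _
    rw [C.D.value_t hL, C.D.value_t hmem, hwψ, hwψ'] at ht
    have hm0 : (midVal (signedCard L) : ℂ) ≠ 0 := by
      rw [mid_val C]
      have := C.q_ge
      exact_mod_cast (show (-((Fintype.card L / 2 : ℕ) : ℤ)) ≠ 0 by omega)
    rw [Ctx.d, Ctx.d, Int.cast_injective (mul_right_cancel₀ hm0 ht), deg_conjC]
  obtain ⟨h5, h7⟩ := signed_ne C
  obtain ⟨h1, d1⟩ := key φ hφ g
  obtain ⟨h2, d2⟩ := key _ h1 g
  have hpair : conjC M g (conjC M g φ) = φ := by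
    refine pair_back C.D.d h5 h7 hφ h1 h2 d1.symm (d2.trans d1).symm (fun e => ?_) fun e => by rw [e, e]
    have e' : Chars.conjN M g⁻¹ (Chars.conjN M g (Chars.conjN M g (φ : M → ℂ))) =
        Chars.conjN M g⁻¹ (Chars.conjN M g (φ : M → ℂ)) := by
      rw [show Chars.conjN M g (Chars.conjN M g (φ : M → ℂ)) = Chars.conjN M g (φ : M → ℂ) from congrArg Subtype.val e]
    rw [← conjN_mul, ← conjN_mul, ← conjN_mul, mul_inv_cancel, conjN_one, mul_one] at e'
    exact Subtype.ext e'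
  obtain ⟨k, hk⟩ := hodd
  have hsq : ∀ j : ℕ, Chars.conjN M (g ^ (2 * j)) (φ : M → ℂ) = φ := by
    intro j
    induction j with
    | zero => rw [mul_zero, pow_zero, conjN_one]
    | succ j ih =>
      rw [show g ^ (2 * (j + 1)) = g ^ (2 * j) * (g * g) by rw [mul_add, pow_add, mul_one, pow_two], conjN_mul, ih,
        conjN_mul]
      exact congrArg Subtype.val hpair
  have h : Chars.conjN M (g ^ M.index) (φ : M → ℂ) = φ :=
    conjN_of_mem (isClassFunction_irr φ) (⟨_, Subgroup.pow_index_mem M g⟩ : M)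
  rw [show g ^ M.index = g ^ (2 * k) * g by rw [hk, pow_succ], conjN_mul, hsq] at h
  exact Subtype.ext h

end Cfsg.Lib.Ree.Field.RAdic
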