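import Cfsg.Agent.Ree.Twist.Coords
import Cfsg.Agent.Chars.Burnside
import Cfsg.Agent.Chars.Berger

/-!
The value at the involution and two criteria for the principal character of a simple group.
-/

set_option autoImplicit false
set_option linter.style.haveILetI false
set_option linter.unusedSectionVars false

namespace Cfsg.Lib.Ree.Twist

open Cfsg Cfsg.Lib.Chars Cfsg.Lib.Blocks
open scoped ComplexConjugate

universe u v

variable {G : Type u} [Group G] [Fintype G] {t : G} {E E₀ : Subgroup G} [Fintype E] {F : Type v} [Field F]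
  [Fintype F] (S : Setting t E E₀ F)
include S

theorem Setting.value_int (χ : IrrCharacter G) : ∃ u : ℤ, (χ : G → ℂ) t = u ∧
    (8 : ℤ) ∣ (deg (χ : G → ℂ) : ℤ) - u ∧
    (deg (χ : G → ℂ) : ℤ) ∣ ((Subgroup.centralizer ({t} : Set G)).index : ℤ) * u := by
  classical
  letI := Fintype.ofFinite (Subgroup.centralizer ({t} : Set G))
  obtain ⟨c, hc⟩ := Cfsg.Lib.GW.Chr.exists_translate _ S.t_mem_C S.tt (fun w hw => S.mem_C.1 hw)
    (isCharacter_of_irr χ.2)
  have hu : (χ : G → ℂ) t =
      ((∑ η : IrrCharacter (Subgroup.centralizer ({t} : Set G)), c η *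
        (deg (η : Subgroup.centralizer ({t} : Set G) → ℂ) : ℤ) : ℤ) : ℂ) := by
    have h := hc 1
    rw [OneMemClass.coe_one, mul_one] at h
    rw [h, Int.cast_sum]
    exact Finset.sum_congr rfl fun η _ => by rw [irr_apply_one_eq_deg]; push_cast; rfl
  generalize hU : (∑ η : IrrCharacter (Subgroup.centralizer ({t} : Set G)), c η *
    (deg (η : Subgroup.centralizer ({t} : Set G) → ℂ) : ℤ) : ℤ) = u at hu
  refine ⟨u, hu, ?_, ?_⟩
  · obtain ⟨T, a, b, n, hy⟩ := AbCentMax.exists_sys S.hyp S.ab
    haveI : Fact (Nat.Prime 2) := ⟨Nat.prime_two⟩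
    have ha1 : a ≠ 1 := fun e => by have := hy.ao; rw [e, orderOf_one] at this; omega
    have hb1 : b ≠ 1 := fun e => by have := hy.bo; rw [e, orderOf_one] at this; omega
    have hne : a * b ≠ 1 := fun e => hy.ne (by
      rw [eq_inv_of_mul_eq_one_right e, inv_eq_of_mul_eq_one_right
        (show a * a = 1 by rw [← pow_two, ← hy.ao, pow_orderOf_eq_one])])
    have habc : a * b ∈ (T : Subgroup G) := (T : Subgroup G).mul_mem hy.aT hy.bT
    have hcard : Nat.card (T : Subgroup G) = 8 := by
      rw [Nat.card_eq_fintype_card]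
      change Fintype.card {x : G // x ∈ (T : Subgroup G)} = 8
      rw [Fintype.card_subtype, show (Finset.univ.filter fun x : G => x ∈ (T : Subgroup G)) =
        {1, a, b, a * b} ∪ ({1, a, b, a * b} : Finset G).image (fun x => t * x) by
          ext x
          simp only [Finset.mem_filter, Finset.mem_univ, true_and, Finset.mem_union, Finset.mem_image,
            Finset.mem_insert, Finset.mem_singleton]
          constructor
          · intro hx
            obtain ⟨w, hw, rfl | rfl⟩ := hy.cases x hx
            · exact Or.inl hw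
            · exact Or.inr ⟨w, hw, rfl⟩
          · rintro ((rfl | rfl | rfl | rfl) | ⟨w, (rfl | rfl | rfl | rfl), rfl⟩)
            exacts [one_mem _, hy.aT, hy.bT, habc, mul_mem hy.tT (one_mem _), mul_mem hy.tT hy.aT,
              mul_mem hy.tT hy.bT, mul_mem hy.tT habc],
        Finset.card_union_of_disjoint, Finset.card_image_of_injective _ (mul_right_injective t)]
      · rw [Finset.card_insert_of_notMem, Finset.card_insert_of_notMem, Finset.card_insert_of_notMem,
          Finset.card_singleton] <;> simp [ha1, hb1, hy.ne, Ne.symm ha1, Ne.symm hb1, Ne.symm hne]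
      · refine Finset.disjoint_left.2 fun x hx hx' => ?_
        obtain ⟨w, hw, rfl⟩ := Finset.mem_image.1 hx'
        have hE : ∀ z ∈ ({1, a, b, a * b} : Finset G), z ∈ E := by
          intro z hz
          simp only [Finset.mem_insert, Finset.mem_singleton] at hz
          rcases hz with rfl | rfl | rfl | rfl
          exacts [one_mem _, S.hyp.le hy.aE, S.hyp.le hy.bE, mul_mem (S.hyp.le hy.aE) (S.hyp.le hy.bE)]
        exact S.split_unique (hE _ hx) (hE _ hw) rfl
    obtain ⟨m, hm⟩ := sum_subgroup_nat (T : Subgroup G) (isCharacter_of_irr χ.2)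
    have hval : ∀ x : (T : Subgroup G), (χ : G → ℂ) x =
        if x = 1 then (deg (χ : G → ℂ) : ℂ) else (u : ℂ) := by
      intro x
      split_ifs with h
      · rw [h, OneMemClass.coe_one, irr_apply_one_eq_deg]
      · rw [← hu]
        refine classFunction_eq_of_isConj (isClassFunction_irr χ) (S.conj_all ?_).symm
        have hx2 : (x : G) * x = 1 := by
          have hT : ∀ w, (w = 1 ∨ w = a ∨ w = b ∨ w = a * b) → w * w = 1 := by
            rintro w (rfl | rfl | rfl | rfl)
            · exact one_mul 1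
            · rw [← pow_two, ← hy.ao, pow_orderOf_eq_one]
            · rw [← pow_two, ← hy.bo, pow_orderOf_eq_one]
            · rw [← pow_two, (hy.tcomm a hy.aT b hy.bT).mul_pow]
              nth_rw 1 [← hy.ao]
              rw [pow_orderOf_eq_one, one_mul, ← hy.bo, pow_orderOf_eq_one]
          obtain ⟨w, hw, hxw | hxw⟩ := hy.cases x x.2 <;> rw [hxw]
          · exact hT w hw
          · have hwE : Commute t w := by
              refine S.hyp.comm w ?_
              rcases hw with rfl | rfl | rfl | rfl
              exacts [one_mem _, S.hyp.le hy.aE, S.hyp.le hy.bE, mul_mem (S.hyp.le hy.aE) (S.hyp.le hy.bE)]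
            rw [← pow_two, hwE.mul_pow, pow_two, pow_two, S.tt, hT w hw, one_mul]
        exact orderOf_eq_prime (by rw [pow_two, hx2]) fun e => h (Subtype.ext e)
    rw [Finset.sum_congr rfl fun x _ => hval x, Finset.sum_ite, Finset.filter_eq', if_pos (Finset.mem_univ _),
      Finset.sum_singleton, Finset.sum_const, Finset.filter_ne', Finset.card_erase_of_mem (Finset.mem_univ _),
      Finset.card_univ, ← Nat.card_eq_fintype_card, hcard] at hm
    refine ⟨(m : ℤ) - u, Int.cast_injective (α := ℂ) ?_⟩
    push_cast at hm ⊢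
    rw [nsmul_eq_mul] at hm
    push_cast at hm
    linear_combination hm
  · have h := isIntegral_centralChar_irr χ.2 t
    rw [card_isConj, irr_apply_one_eq_deg, hu] at h
    have hd : (deg (χ : G → ℂ) : ℚ) ≠ 0 := by exact_mod_cast (deg_irr_pos χ).ne'
    obtain ⟨z, hz⟩ := int_of_isIntegral_rat
      (q := ((Subgroup.centralizer ({t} : Set G)).index : ℚ) * u / deg (χ : G → ℂ)) (by push_cast; exact h)
    rw [div_eq_iff hd] at hz
    exact ⟨z, by rw [mul_comm (deg (χ : G → ℂ) : ℤ)]; exact_mod_cast hz⟩

end Cfsg.Lib.Ree.Twist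

namespace Cfsg.Lib.Ree.Field.RAdic

open Cfsg Cfsg.Lib.Chars
open Module

universe u

variable {G : Type u} [Group G] [Fintype G]

/-- A linear character of a nonabelian simple group is principal. -/
theorem eq_principal_of_deg_one [IsSimpleGroup G] (hnab : ¬ IsMulCommutative G) (χ : IrrCharacter G)
    (h : Chars.deg (χ : G → ℂ) = 1) : χ = Cfsg.Lib.Chars.principal G := by
  obtain ⟨μ, hμ⟩ := exists_hom_of_deg_one (isCharacter_of_irr χ.2) (by rw [irr_apply_one_eq_deg, h, Nat.cast_one])
  rcases IsSimpleGroup.eq_bot_or_eq_top_of_normal μ.ker inferInstance with hk | hk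
  · exact absurd ⟨⟨fun a b => (MonoidHom.ker_eq_bot_iff μ).1 hk (by rw [map_mul, map_mul, mul_comm])⟩⟩ hnab
  · refine Subtype.ext ?_
    rw [hμ]
    funext g
    rw [show μ g = 1 from MonoidHom.mem_ker.1 (hk ▸ Subgroup.mem_top g)]
    simp [Cfsg.Lib.Chars.principal]

/-- A character with a value of full modulus at a nontrivial element of a nonabelian simple group is principal. -/
theorem eq_principal_of_norm_eq [IsSimpleGroup G] (hnab : ¬ IsMulCommutative G) {g : G} (hg : g ≠ 1)
    (χ : IrrCharacter G) (h : ‖(χ : G → ℂ) g‖ = (Chars.deg (χ : G → ℂ) : ℝ)) : χ = Cfsg.Lib.Chars.principal G := by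
  obtain ⟨n, ρ, hρ, hchar⟩ := χ.2
  have hn : Chars.deg (χ : G → ℂ) = finrank ℂ (Fin n → ℂ) := by
    apply Nat.cast_injective (R := ℂ)
    rw [← irr_apply_one_eq_deg, ← hchar, ρ.char_one]
  rw [hn, ← hchar] at h
  obtain ⟨ω, hω, -⟩ := scalar_of_norm_character_eq ρ g h
  rcases IsSimpleGroup.eq_bot_or_eq_top_of_normal ρ.ker inferInstance with hk | hk
  · have hcen : g ∈ Subgroup.center G := Subgroup.mem_center_iff.2 fun x =>
      (MonoidHom.ker_eq_bot_iff ρ).1 hk (by rw [map_mul, map_mul, hω]; ext v; simp)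
    rcases IsSimpleGroup.eq_bot_or_eq_top_of_normal (Subgroup.center G) inferInstance with hc | hc
    · exact absurd (Subgroup.mem_bot.1 (hc ▸ hcen)) hg
    · exact absurd ⟨⟨fun a b => (Subgroup.mem_center_iff.1 (hc ▸ Subgroup.mem_top b) a)⟩⟩ hnab
  · refine eq_principal_of_deg_one hnab χ ?_
    have hval : ∀ x, ‖(χ : G → ℂ) x‖ = (Chars.deg (χ : G → ℂ) : ℝ) := fun x => by
      rw [← hchar, Representation.character, show ρ x = 1 from MonoidHom.mem_ker.1 (hk ▸ Subgroup.mem_top x),
        LinearMap.trace_one, Complex.norm_natCast, show (Chars.deg ρ.character) = Chars.deg (χ : G → ℂ) by rw [hchar], hn]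
    exact deg_one_of_norm_eq χ.2 hval

end Cfsg.Lib.Ree.Field.RAdic
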