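import Cfsg.Agent.Ree.Field.RAdic.Twins
import Cfsg.Agent.Ree.Field.RAdic.Values

/-!
The members of a level: integrality, the Gram matrix, the four members with a coordinate at `T.x`, their values at
`t`, and the two relations between their signed degrees.
-/

set_option autoImplicit false
set_option linter.style.haveILetI false
set_option linter.unusedSectionVars false

namespace Cfsg.Lib.Ree.Field.RAdic

open Subgroup Cfsg
open Cfsg.Lib.Chars
open scoped ComplexConjugate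
open scoped _root_.Classical

universe u

/-- Two squares of integers with sum at most one and vanishing sum are zero, for four summands. -/
theorem four_zero {e₁ e₂ e₃ e₄ : ℤ} (h : e₁ + e₂ + e₃ + e₄ = 0)
    (h2 : e₁ ^ 2 + e₂ ^ 2 + e₃ ^ 2 + e₄ ^ 2 ≤ 1) : e₁ = 0 ∧ e₂ = 0 ∧ e₃ = 0 ∧ e₄ = 0 := by
  have b : ∀ e : ℤ, e ^ 2 ≤ 1 → e = -1 ∨ e = 0 ∨ e = 1 := fun e he => by
    have h1 : e ≤ 1 := by nlinarith
    have h1' : -1 ≤ e := by nlinarith
    omega
  have p1 := b e₁ (by nlinarith [sq_nonneg e₂, sq_nonneg e₃, sq_nonneg e₄])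
  have p2 := b e₂ (by nlinarith [sq_nonneg e₁, sq_nonneg e₃, sq_nonneg e₄])
  have p3 := b e₃ (by nlinarith [sq_nonneg e₁, sq_nonneg e₂, sq_nonneg e₄])
  have p4 := b e₄ (by nlinarith [sq_nonneg e₁, sq_nonneg e₂, sq_nonneg e₃])
  rcases p1 with rfl | rfl | rfl <;> rcases p2 with rfl | rfl | rfl <;> rcases p3 with rfl | rfl | rfl <;>
    rcases p4 with rfl | rfl | rfl <;> first | omega | norm_num at h h2 ⊢

variable {G : Type u} [Group G] [Fintype G] {t x : G} {r : ℕ} {E E₀ : Subgroup G} [Fintype E] {F : Type} [Field F]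
  [Fintype F] {M : Ideal AlgInt} {T : Twist.KTable E M}

/-- Integral coordinates at a level. -/
structure LevCoords (t : G) (T : Twist.KTable E M) (μ : E →* ℂˣ) (c a b : IrrCharacter G → ℤ) : Prop where
  x : ∀ χ, cX t T μ χ = c χ
  al : ∀ χ, cA t T μ χ = a χ
  be : ∀ χ, cB t T μ χ = b χ

namespace Ctx

variable (C : Ctx t E E₀ F T r x)
include C

theorem exists_coords (μ : E →* ℂˣ) : ∃ c a b : IrrCharacter G → ℤ, LevCoords t T μ c a b := by
  choose c hc using C.cX_int μ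
  choose a ha using C.cA_int μ
  choose b hb using C.cB_int μ
  exact ⟨c, a, b, hc, ha, hb⟩

theorem gram {μ : E →* ℂˣ} {c a b : IrrCharacter G → ℤ} (h : LevCoords t T μ c a b) :
    ∑ χ, c χ * c χ = 4 ∧ ∑ χ, a χ * a χ = 4 ∧ ∑ χ, b χ * b χ = 4 ∧ ∑ χ, c χ * a χ = 2 ∧ ∑ χ, c χ * b χ = 2 ∧
      ∑ χ, a χ * b χ = 2 := by
  have key : ∀ (f g : IrrCharacter G → ℤ) (ψ φ : E → ℂ) (n : ℤ), IsSpecial ψ → IsSpecial φ →
      classInner ψ φ = n → (∀ χ, coord t E χ (Twist.twist μ ψ) = f χ) →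
      (∀ χ, coord t E χ (Twist.twist μ φ) = g χ) → ∑ χ, f χ * g χ = 2 * n := by
    intro f g ψ φ n hψ hφ hn hf hg
    have h1 := C.S.isometry (Twist.special_twist μ hψ) (Twist.special_twist μ hφ)
    rw [Twist.inner_twist, hn] at h1
    simp only [hf, hg, map_intCast] at h1
    exact_mod_cast h1
  obtain ⟨i1, i2, i3, i4, i5, i6, -, -, -⟩ := T.inners
  refine ⟨?_, ?_, ?_, ?_, ?_, ?_⟩
  · exact key c c _ _ 2 T.special_x T.special_x (by exact_mod_cast i1) h.x h.x
  · exact key a a _ _ 2 T.special_al T.special_al (by exact_mod_cast i2) h.al h.al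
  · exact key b b _ _ 2 T.special_be T.special_be (by exact_mod_cast i3) h.be h.be
  · exact key c a _ _ 1 T.special_x T.special_al (by exact_mod_cast i4) h.x h.al
  · exact key c b _ _ 1 T.special_x T.special_be (by exact_mod_cast i5) h.x h.be
  · exact key a b _ _ 1 T.special_al T.special_be (by exact_mod_cast i6) h.al h.be

omit C in
theorem sum_four {R : Type*} [AddCommMonoid R] {X X' A B : IrrCharacter G} (h1 : X ≠ X') (h2 : A ≠ B)
    (hA : A ≠ X ∧ A ≠ X') (hB : B ≠ X ∧ B ≠ X') (f : IrrCharacter G → R) :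
    ∑ χ ∈ ({X, X', A, B} : Finset (IrrCharacter G)), f χ = f X + f X' + f A + f B := by
  rw [Finset.sum_insert, Finset.sum_insert, Finset.sum_insert, Finset.sum_singleton, add_assoc, add_assoc]
  · simpa using h2
  · simp [hA.2.symm, hB.2.symm]
  · simp [h1, hA.1.symm, hB.1.symm]

/-- The four members. -/
theorem level_four {μ : E →* ℂˣ} {c a b : IrrCharacter G → ℤ} (h : LevCoords t T μ c a b) {X X' : IrrCharacter G}
    (hX : c X * c X = 1) (hX' : c X' * c X' = 1) (hw : a X + b X = 0) (hw' : a X' + b X' = 2 * c X') :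
    X ≠ X' ∧ ∃ A B, A ≠ B ∧ (A ≠ X ∧ A ≠ X') ∧ (B ≠ X ∧ B ≠ X') ∧ c A * c A = 1 ∧ c B * c B = 1 ∧
      (∀ χ, χ ∉ ({X, X', A, B} : Finset (IrrCharacter G)) → c χ = 0) ∧
      ((c A * (a A + b A) = 0 ∧ c B * (a B + b B) = 2 ∧ a A = 0 ∧ b A = 0) ∨
        (c A * (a A + b A) = 1 ∧ c B * (a B + b B) = 1)) := by
  obtain ⟨g1, g2, g3, g4, g5, g6⟩ := C.gram h
  have hXX : X ≠ X' := fun e => by
    rw [e] at hw
    have : c X' = 0 := by omega
    rw [this] at hX'
    norm_num at hX'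
  refine ⟨hXX, ?_⟩
  set S := (Finset.univ.erase X).erase X' with hS
  have hsplit : ∀ f : IrrCharacter G → ℤ, ∑ χ, f χ = f X + (f X' + ∑ χ ∈ S, f χ) := fun f => by
    rw [← Finset.add_sum_erase _ f (Finset.mem_univ X),
      ← Finset.add_sum_erase _ f (Finset.mem_erase.2 ⟨hXX.symm, Finset.mem_univ X'⟩)]
  have hS2 : ∑ χ ∈ S, c χ * c χ = 2 := by
    have := hsplit fun χ => c χ * c χ
    omega
  set N := S.filter fun χ => c χ ≠ 0 with hN
  have hN1 : ∀ χ ∈ N, 1 ≤ c χ * c χ := fun χ hχ => by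
    rcases lt_or_gt_of_ne (Finset.mem_filter.1 hχ).2 with h0 | h0 <;> nlinarith
  have hN2 : ∑ χ ∈ N, c χ * c χ = 2 := by
    rw [← hS2, hN]
    exact Finset.sum_filter_of_ne fun χ _ hne e => hne (by rw [e, mul_zero])
  have hsq : ∀ χ ∈ N, c χ * c χ = 1 := by
    intro χ hχ
    have h1 := Finset.single_le_sum (fun ψ hψ => zero_le_one.trans (hN1 ψ hψ)) hχ
    rw [hN2] at h1
    have h2 := hN1 χ hχ
    have hne := (Finset.mem_filter.1 hχ).2
    have : c χ ≤ 1 := by nlinarith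
    have : -1 ≤ c χ := by nlinarith
    rcases (show c χ = 1 ∨ c χ = -1 by omega) with e | e <;> rw [e] <;> norm_num
  have hcard : N.card = 2 := by
    rw [Finset.sum_congr rfl hsq, Finset.sum_const, nsmul_eq_mul, mul_one] at hN2
    exact_mod_cast hN2
  obtain ⟨A, B, hAB, hNAB⟩ := Finset.card_eq_two.1 hcard
  have hmA : A ∈ N := by rw [hNAB]; simp
  have hmB : B ∈ N := by rw [hNAB]; simp
  have hneq : ∀ χ ∈ N, χ ≠ X ∧ χ ≠ X' := fun χ hχ => by
    have h1 := (Finset.mem_filter.1 hχ).1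
    rw [hS, Finset.mem_erase, Finset.mem_erase] at h1
    exact ⟨h1.2.1, h1.1⟩
  have hout : ∀ A B : IrrCharacter G, N = {A, B} →
      ∀ χ, χ ∉ ({X, X', A, B} : Finset (IrrCharacter G)) → c χ = 0 := by
    intro A B e χ hχ
    simp only [Finset.mem_insert, Finset.mem_singleton, not_or] at hχ
    by_contra hne
    have : χ ∈ N := Finset.mem_filter.2 ⟨by simp [hS, hχ.1, hχ.2.1], hne⟩
    rw [e] at this
    simp [hχ.2.2.1, hχ.2.2.2] at this
  -- sums supported on the four members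
  have h4 : ∀ f : IrrCharacter G → ℤ, (∀ χ, c χ = 0 → f χ = 0) → ∑ χ, f χ = f X + f X' + f A + f B := by
    intro f hf
    rw [← Finset.sum_subset (Finset.subset_univ ({X, X', A, B} : Finset (IrrCharacter G)))
      fun χ _ hχ => hf χ (hout A B hNAB χ hχ), sum_four hXX hAB (hneq A hmA) (hneq B hmB)]
  have h4le : ∀ f : IrrCharacter G → ℤ, (∀ χ, 0 ≤ f χ) → f X + f X' + f A + f B ≤ ∑ χ, f χ := by
    intro f hf
    rw [← sum_four hXX hAB (hneq A hmA) (hneq B hmB)]
    exact Finset.sum_le_sum_of_subset_of_nonneg (Finset.subset_univ _) fun χ _ _ => hf χ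
  have hA1 := hsq A hmA
  have hB1 := hsq B hmB
  have hsum : c A * (a A + b A) + c B * (a B + b B) = 2 := by
    have e := h4 (fun χ => c χ * (a χ + b χ)) fun χ e => by rw [e, zero_mul]
    rw [Finset.sum_congr rfl fun χ _ => mul_add (c χ) (a χ) (b χ), Finset.sum_add_distrib, g4, g5] at e
    rw [hw, hw'] at e
    linear_combination -e - 2 * hX'
  have hsqz : (c A * (a A + b A)) ^ 2 + (c B * (a B + b B)) ^ 2 ≤ 8 := by
    have e := h4le (fun χ => (a χ + b χ) ^ 2) fun χ => sq_nonneg _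
    have hR : ∑ χ, (a χ + b χ) ^ 2 = 12 := by
      rw [Finset.sum_congr rfl fun χ _ => show (a χ + b χ) ^ 2 = a χ * a χ + 2 * (a χ * b χ) + b χ * b χ by ring,
        Finset.sum_add_distrib, Finset.sum_add_distrib, ← Finset.mul_sum, g2, g3, g6]
      norm_num
    rw [hR, hw, hw'] at e
    have eA : (c A * (a A + b A)) ^ 2 = (a A + b A) ^ 2 := by linear_combination (a A + b A) ^ 2 * hA1
    have eB : (c B * (a B + b B)) ^ 2 = (a B + b B) ^ 2 := by linear_combination (a B + b B) ^ 2 * hB1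
    rw [eA, eB]
    have e4 : (2 * c X') ^ 2 = 4 := by linear_combination 4 * hX'
    linarith
  have rows : ∀ A B : IrrCharacter G, A ≠ B → (A ≠ X ∧ A ≠ X') → (B ≠ X ∧ B ≠ X') → c A * c A = 1 → c B * c B = 1 →
      N = {A, B} → c A * (a A + b A) = 0 → c B * (a B + b B) = 2 → a A = 0 ∧ b A = 0 := by
    intro A B hAB hA hB hA1 hB1 e hzA hzB
    have wA : a A + b A = 0 := by linear_combination c A * hzA - (a A + b A) * hA1
    have wB : a B + b B = 2 * c B := by linear_combination c B * hzB - (a B + b B) * hB1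
    have h4' : ∀ f : IrrCharacter G → ℤ, (∀ χ, c χ = 0 → f χ = 0) → ∑ χ, f χ = f X + f X' + f A + f B := by
      intro f hf
      rw [← Finset.sum_subset (Finset.subset_univ ({X, X', A, B} : Finset (IrrCharacter G)))
        fun χ _ hχ => hf χ (hout A B e χ hχ), sum_four hXX hAB hA hB]
    have e1 := h4' (fun χ => c χ * (a χ - b χ)) fun χ e => by rw [e, zero_mul]
    rw [Finset.sum_congr rfl fun χ _ => mul_sub (c χ) (a χ) (b χ), Finset.sum_sub_distrib, g4, g5, sub_self] at e1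
    have e2 : (a X - b X) ^ 2 + (a X' - b X') ^ 2 + (a A - b A) ^ 2 + (a B - b B) ^ 2 ≤ 4 := by
      rw [← sum_four hXX hAB hA hB (fun χ => (a χ - b χ) ^ 2)]
      refine (Finset.sum_le_sum_of_subset_of_nonneg (Finset.subset_univ _) fun χ _ _ => sq_nonneg _).trans ?_
      rw [Finset.sum_congr rfl fun χ _ => show (a χ - b χ) ^ 2 = a χ * a χ - 2 * (a χ * b χ) + b χ * b χ by ring,
        Finset.sum_add_distrib, Finset.sum_sub_distrib, ← Finset.mul_sum, g2, g3, g6]
      norm_num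
    have dX : a X - b X = 2 * a X := by omega
    have dX' : a X' - b X' = 2 * (a X' - c X') := by omega
    have dA : a A - b A = 2 * a A := by omega
    have dB : a B - b B = 2 * (a B - c B) := by omega
    rw [dX, dX', dA, dB] at e1 e2
    obtain ⟨-, -, z3, -⟩ := four_zero (e₁ := c X * a X) (e₂ := c X' * (a X' - c X')) (e₃ := c A * a A)
      (e₄ := c B * (a B - c B)) (by linarith) (by
        rw [mul_pow, mul_pow, mul_pow, mul_pow, pow_two (c X), pow_two (c X'), pow_two (c A), pow_two (c B), hX, hX',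
          hA1, hB1]
        nlinarith)
    have : a A = 0 := by linear_combination c A * z3 - a A * hA1
    omega
  have hle : c A * (a A + b A) ≤ 2 := by
    by_contra hc
    push Not at hc
    nlinarith [sq_nonneg (c B * (a B + b B))]
  have hge : 0 ≤ c A * (a A + b A) := by
    by_contra hc
    push Not at hc
    nlinarith [sq_nonneg (c B * (a B + b B))]
  rcases (show c A * (a A + b A) = 0 ∨ c A * (a A + b A) = 1 ∨ c A * (a A + b A) = 2 by omega) with e | e | e
  · have hzB : c B * (a B + b B) = 2 := by omega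
    obtain ⟨z1, z2⟩ := rows A B hAB (hneq A hmA) (hneq B hmB) hA1 hB1 hNAB e hzB
    exact ⟨A, B, hAB, hneq A hmA, hneq B hmB, hA1, hB1, hout A B hNAB, Or.inl ⟨e, hzB, z1, z2⟩⟩
  · exact ⟨A, B, hAB, hneq A hmA, hneq B hmB, hA1, hB1, hout A B hNAB, Or.inr ⟨e, by omega⟩⟩
  · have hzB : c B * (a B + b B) = 0 := by omega
    have hNBA : N = {B, A} := by rw [hNAB, Finset.pair_comm]
    obtain ⟨z1, z2⟩ := rows B A hAB.symm (hneq B hmB) (hneq A hmA) hB1 hA1 hNBA hzB e
    exact ⟨B, A, hAB.symm, hneq B hmB, hneq A hmA, hB1, hA1, hout B A hNBA, Or.inl ⟨hzB, e, z1, z2⟩⟩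

/-- The values on the section of `t`. -/
theorem value_section {μ : E →* ℂˣ} (hμ : ∀ y : E, (y : G) ∈ E₀ → μ y = 1) {c a b : IrrCharacter G → ℤ}
    (h : LevCoords t T μ c a b) {χ : IrrCharacter G} (hc : c χ ≠ 0) {y : E} (hy : Odd (orderOf y)) :
    (χ : G → ℂ) (t * (y : G)) = (μ y : ℂ) * (-(c χ : ℂ) + (a χ : ℂ) * T.A y + (b χ : ℂ) * T.B y) := by
  have hne : cX t T μ χ ≠ 0 := by rw [h.x]; exact_mod_cast hc
  have h1 := (C.tw.sep μ hμ χ (Or.inl hne)).1 y hy
  rw [← cX, ← cA, ← cB, h.x, h.al, h.be] at h1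
  exact h1

theorem value_t {μ : E →* ℂˣ} (hμ : ∀ y : E, (y : G) ∈ E₀ → μ y = 1) {c a b : IrrCharacter G → ℤ}
    (h : LevCoords t T μ c a b) {χ : IrrCharacter G} (hc : c χ ≠ 0) :
    (χ : G → ℂ) t = ((-c χ + midVal (signedCard F) * (a χ + b χ) : ℤ) : ℂ) := by
  have h1 := C.value_section hμ h hc (y := 1) (by simp)
  rw [map_one, Units.val_one, one_mul, OneMemClass.coe_one, mul_one, C.tw.mid.1, C.tw.mid.2] at h1
  rw [h1]
  push_cast
  ring

theorem pairCount_support {μ : E →* ℂˣ} (hμ : ∀ y : E, (y : G) ∈ E₀ → μ y = 1) {y : E} (hy : Odd (orderOf y))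
    (h : pairCount y ≠ 0) : μ y = 1 := by
  have hne : Nat.card {w : E // orderOf w = 2 ∧ (w * y) * (w * y) = 1} ≠ 0 := fun e => h (by rw [pairCount, e]; simp)
  obtain ⟨⟨w, hw, hwy⟩⟩ := (Nat.card_ne_zero.1 hne).1
  have hμw : μ w = 1 := hμ w (C.S.conj_E hw hw).1
  have h2 := congrArg μ hwy
  rw [map_mul, map_mul, hμw, one_mul, map_one, ← pow_two] at h2
  refine orderOf_eq_one_iff.1 (Nat.Coprime.eq_one_of_dvd ?_ (orderOf_dvd_of_pow_eq_one h2))
  exact (Nat.coprime_two_right.2 hy).coprime_dvd_left (orderOf_map_dvd μ y)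

/-- The count of pairs of involutions in the section does not depend on the level. -/
theorem count_level {μ : E →* ℂˣ} (hμ : ∀ y : E, (y : G) ∈ E₀ → μ y = 1) :
    ∑ χ : IrrCharacter G, (χ : G → ℂ) t ^ 2 * cX t T μ χ / (χ : G → ℂ) 1 =
      ∑ χ : IrrCharacter G, (χ : G → ℂ) t ^ 2 * cX t T 1 χ / (χ : G → ℂ) 1 := by
  have key : ∀ μ : E →* ℂˣ, ∑ χ : IrrCharacter G, (χ : G → ℂ) t ^ 2 * cX t T μ χ / (χ : G → ℂ) 1 =
      (Nat.card (Subgroup.centralizer ({t} : Set G)) : ℂ) ^ 2 / (Nat.card G : ℂ) *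
        classInner pairCount (fun y => conj (Twist.twist μ T.x y)) := by
    intro μ
    have hsp := Twist.special_twist μ T.special_x
    have hsp' : IsSpecial fun y : E => conj (Twist.twist μ T.x y) := by
      have hg : IsGeneralizedCharacter E fun y : E => conj (Twist.twist μ T.x y) := by
        obtain ⟨p, q, hp, hq, e⟩ := hsp.2.1
        refine ⟨_, _, IsCharacter.conjugate hp, IsCharacter.conjugate hq, ?_⟩
        funext y
        simp only [e, Pi.sub_apply, map_sub]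
      exact ⟨isClassFunction_generalized hg, hg, fun y hy => by simp only [hsp.2.2 y hy, map_zero]⟩
    rw [← C.S.count hsp']
    simp only [Complex.conj_conj]
    rfl
  rw [key μ, key 1]
  congr 1
  rw [classInner_def, classInner_def]
  congr 1
  refine Finset.sum_congr rfl fun y _ => ?_
  simp only [Complex.conj_conj, Twist.twist, MonoidHom.one_apply, Units.val_one, one_mul]
  by_cases hy : Odd (orderOf y)
  · by_cases h : pairCount y = 0
    · rw [h, zero_mul, zero_mul]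
    · rw [C.pairCount_support hμ hy h, Units.val_one, one_mul]
  · rw [T.special_x.2.2 y hy, mul_zero]

/-- The relations of the signed degrees of the four members. -/
theorem level_eqs {μ : E →* ℂˣ} (hμ : ∀ y : E, (y : G) ∈ E₀ → μ y = 1) {c a b : IrrCharacter G → ℤ}
    (h : LevCoords t T μ c a b) {X X' A B : IrrCharacter G} (h1 : X ≠ X') (h2 : A ≠ B) (hA : A ≠ X ∧ A ≠ X')
    (hB : B ≠ X ∧ B ≠ X') (hout : ∀ χ, χ ∉ ({X, X', A, B} : Finset (IrrCharacter G)) → c χ = 0)
    (cX' : c X * c X = 1) (cX'' : c X' * c X' = 1) (cA' : c A * c A = 1) (cB' : c B * c B = 1)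
    (hw : a X + b X = 0) (hw' : a X' + b X' = 2 * c X') :
    c X * (Chars.deg (X : G → ℂ) : ℤ) + c X' * (Chars.deg (X' : G → ℂ) : ℤ) + c A * (Chars.deg (A : G → ℂ) : ℤ) +
        c B * (Chars.deg (B : G → ℂ) : ℤ) = 0 ∧
    1 / ((c X * (Chars.deg (X : G → ℂ) : ℤ) : ℤ) : ℂ) +
        (signedCard F : ℂ) ^ 2 / ((c X' * (Chars.deg (X' : G → ℂ) : ℤ) : ℤ) : ℂ) +
        ((-1 + midVal (signedCard F) * (c A * (a A + b A)) : ℤ) : ℂ) ^ 2 /
          ((c A * (Chars.deg (A : G → ℂ) : ℤ) : ℤ) : ℂ) +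
        ((-1 + midVal (signedCard F) * (c B * (a B + b B)) : ℤ) : ℂ) ^ 2 /
          ((c B * (Chars.deg (B : G → ℂ) : ℤ) : ℤ) : ℂ) =
      ∑ χ : IrrCharacter G, (χ : G → ℂ) t ^ 2 * cX t T 1 χ / (χ : G → ℂ) 1 := by
  have hfour : ∀ f : IrrCharacter G → ℂ, ∑ χ, (c χ : ℂ) * f χ =
      (c X : ℂ) * f X + (c X' : ℂ) * f X' + (c A : ℂ) * f A + (c B : ℂ) * f B := by
    intro f
    rw [← Finset.sum_subset (Finset.subset_univ ({X, X', A, B} : Finset (IrrCharacter G)))
      fun χ _ hχ => by rw [hout χ hχ, Int.cast_zero, zero_mul], sum_four h1 h2 hA hB]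
  refine ⟨?_, ?_⟩
  · have e := C.S.odd_sum (Twist.special_twist μ T.special_x) (g := 1) (by simp)
    simp only [show ∀ χ : IrrCharacter G, coord t E χ (Twist.twist μ T.x) = (c χ : ℂ) from h.x, irr_apply_one_eq_deg, hfour] at e
    exact_mod_cast e
  · have hQ2 : 2 * midVal (signedCard F) = signedCard F + 1 := by
      have := C.J.mod
      rw [midVal, signedCard]
      split_ifs <;> omega
    rw [← C.count_level hμ]
    simp only [show ∀ χ : IrrCharacter G, cX t T μ χ = (c χ : ℂ) from h.x]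
    rw [Finset.sum_congr rfl fun χ _ => show ((χ : IrrCharacter G) : G → ℂ) t ^ 2 * (c χ : ℂ) / (χ : G → ℂ) 1 =
      (c χ : ℂ) * ((χ : G → ℂ) t ^ 2 / (χ : G → ℂ) 1) by ring, hfour]
    have term : ∀ χ : IrrCharacter G, c χ * c χ = 1 →
        (c χ : ℂ) * ((χ : G → ℂ) t ^ 2 / (χ : G → ℂ) 1) =
          ((-1 + midVal (signedCard F) * (c χ * (a χ + b χ)) : ℤ) : ℂ) ^ 2 /
            ((c χ * (Chars.deg (χ : G → ℂ) : ℤ) : ℤ) : ℂ) := by
      intro χ hχ
      have hne : c χ ≠ 0 := fun e => by rw [e, mul_zero] at hχ; exact zero_ne_one hχ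
      rw [C.value_t hμ h hne, irr_apply_one_eq_deg]
      have hd : (Chars.deg (χ : G → ℂ) : ℂ) ≠ 0 := Nat.cast_ne_zero.2 (deg_irr_pos χ).ne'
      have hc0 : (c χ : ℂ) ≠ 0 := Int.cast_ne_zero.2 hne
      have hχ' : (c χ : ℂ) * (c χ : ℂ) = 1 := by exact_mod_cast hχ
      push_cast
      field_simp
      linear_combination ((-(c χ : ℂ) + (midVal (signedCard F) : ℂ) * ((a χ : ℂ) + b χ)) ^ 2 -
        (midVal (signedCard F) : ℂ) ^ 2 * ((a χ : ℂ) + b χ) ^ 2 + 1) * hχ'
    have e1 : -1 + midVal (signedCard F) * (c X * (a X + b X)) = -1 := by rw [hw]; ring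
    have e2 : -1 + midVal (signedCard F) * (c X' * (a X' + b X')) = signedCard F := by
      rw [hw']
      linear_combination (2 * midVal (signedCard F)) * cX'' + hQ2
    rw [term X cX', term X' cX'', term A cA', term B cB', e1, e2]
    norm_num

end Ctx

end Cfsg.Lib.Ree.Field.RAdic
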