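import Cfsg.Agent.Ree.Field.RAdic.Spec
import Cfsg.Agent.Ree.Field.Basic
import Cfsg.Agent.Ree.Transfer.LocalSpecProof
import Cfsg.Agent.Ree.Real.Setup

/-!
`C(x)/⟨x⟩` with its simple normal subgroup of Ree type, from the facts about the centralizer of `x`.
-/

set_option autoImplicit false
set_option linter.unusedSectionVars false
set_option linter.style.haveILetI false

namespace Cfsg.Lib.Ree.Field.RAdic

open Cfsg Subgroup Cfsg.Lib.TwoTimesPSL
open scoped Pointwise

universe u v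

section Transport

variable {K : Type u} [Group K] [Finite K] {M : Type u} [Group M] [Finite M] {F : Type v} [Field F] [Fintype F]

/-- The configuration along an isomorphism. -/
theorem setting_of_equiv (e : M ≃* K) {tK : K} {EK : Subgroup K} (S : Ree.Setting tK EK F) {tM : M}
    (ht : e tM = tK) {EM : Subgroup M} (hE : ∀ m : M, m ∈ EM ↔ e m ∈ EK) : Ree.Setting tM EM F := by
  have hcomm : ∀ a b : M, Commute (e a) (e b) → Commute a b := fun a b h =>
    e.injective (by rw [map_mul, map_mul]; exact h.eq)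
  have hEK : EM.map e.toMonoidHom = EK := by
    ext k
    obtain ⟨m, rfl⟩ := e.surjective k
    exact ⟨fun ⟨m', hm', he⟩ => e.injective he ▸ (hE m').1 hm', fun h => ⟨m, (hE m).2 h, rfl⟩⟩
  haveI := S.simple
  haveI : Nontrivial M := e.toEquiv.nontrivial
  refine ⟨IsSimpleGroup.isSimpleGroup_of_surjective e.symm.toMonoidHom e.symm.surjective, fun hM => S.nab ⟨⟨fun a b => ?_⟩⟩,
    fun T => ⟨⟨fun a b => Subtype.ext (e.injective ?_)⟩⟩, ?_, S.mod, S.big⟩
  · obtain ⟨a, rfl⟩ := e.surjective a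
    obtain ⟨b, rfl⟩ := e.surjective b
    rw [← map_mul, ← map_mul, hM.is_comm.comm]
  · haveI : Fact (Nat.Prime 2) := ⟨Nat.prime_two⟩
    haveI := S.ab (T.mapSurjective (f := e.toMonoidHom) e.surjective)
    have h := congrArg Subtype.val (mul_comm'
      (⟨e a, mem_map_of_mem _ a.2⟩ : (T.mapSurjective (f := e.toMonoidHom) e.surjective : Subgroup K))
      ⟨e b, mem_map_of_mem _ b.2⟩)
    rw [coe_mul, coe_mul, map_mul, map_mul]
    exact h
  refine ⟨?_, fun m hm => hcomm tM m (by rw [ht]; exact S.hyp.comm _ ((hE m).1 hm)), fun m hm => ?_,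
    fun h => S.hyp.disj (ht ▸ (hE tM).1 h), le_rfl, fun a ha b hb => mul_mem (mul_mem ha hb) (inv_mem ha),
    fun m hm hc => e.injective ?_, S.hyp.odd, ?_⟩
  · rw [← e.orderOf_eq, ht, S.hyp.ord]
  · obtain ⟨k, hk, h⟩ := S.hyp.split (e m) (ht ▸ hm.map e.toMonoidHom)
    obtain ⟨m', rfl⟩ := e.surjective k
    refine ⟨m', (hE m').2 hk, ?_⟩
    rcases h with h | h
    · exact Or.inl (e.injective h)
    · exact Or.inr (e.injective (by rw [map_mul, ht]; exact h))
  · rw [map_one]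
    refine S.hyp.faith _ ((hE m).1 hm) fun k hk => ?_
    obtain ⟨m', rfl⟩ := e.surjective k
    exact (hc m' ((hE m').2 hk)).map e.toMonoidHom
  · obtain ⟨f⟩ := S.hyp.iso
    exact ⟨((EM.equivMapOfInjective e.toMonoidHom e.injective).trans (MulEquiv.subgroupCongr hEK)).trans f⟩

end Transport

variable {G : Type u} [Group G] [Fintype G] {t : G} {E E₀ : Subgroup G} {F : Type} [Field F] [Fintype F]

/-- A frame at every Sylow subgroup containing `t`. -/
theorem exists_frame (S : Twist.Setting t E E₀ F) (T : Sylow 2 G) (ht : t ∈ T) :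
    ∃ a b n : G, AbCentMax.Sys t E₀ T a b n := by
  haveI : Fact (Nat.Prime 2) := ⟨Nat.prime_two⟩
  obtain ⟨T', a, b, n, hy⟩ := AbCentMax.exists_sys S.hyp S.ab
  set C := centralizer ({t} : Set G) with hC
  have hTC : ∀ (U : Sylow 2 G), t ∈ U → (U : Subgroup G) ≤ C := fun U hU z hz => by
    haveI := S.ab U
    exact mem_centralizer_singleton_iff.2
      (congrArg Subtype.val (mul_comm' (⟨z, hz⟩ : (U : Subgroup G)) ⟨t, hU⟩))
  obtain ⟨k, hk⟩ := MulAction.exists_smul_eq C (T'.subtype (hTC T' hy.tT)) (T.subtype (hTC T ht))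
  set c : G ≃* G := MulAut.conj (k : G) with hc
  have hct : c t = t := by
    show (k : G) * t * (k : G)⁻¹ = t
    rw [(mem_centralizer_singleton_iff.1 k.2 : (k : G) * t = t * k), mul_inv_cancel_right]
  have hcE : ∀ z ∈ E₀, c z ∈ E₀ := fun z hz => by
    obtain ⟨d, hd, h | h⟩ := S.split (x := (k : G)) (mem_centralizer_singleton_iff.1 k.2).symm
    · show (k : G) * z * (k : G)⁻¹ ∈ E₀
      rw [h]; exact S.hyp.norm d hd z hz
    · show (k : G) * z * (k : G)⁻¹ ∈ E₀
      have hn := S.hyp.norm d hd z hz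
      rw [h, show t * d * z * (t * d)⁻¹ = t * (d * z * d⁻¹) * t⁻¹ by group,
        (S.hyp.comm _ (S.hyp.le hn)).eq, mul_inv_cancel_right]
      exact hn
  have hcT : ∀ z, z ∈ T ↔ ∃ w ∈ T', c w = z := by
    intro z
    constructor
    · intro hz
      have h1 : (⟨z, hTC T ht hz⟩ : C) ∈ ((T.subtype (hTC T ht) : Sylow 2 C) : Subgroup C) := hz
      rw [← hk] at h1
      obtain ⟨w, hw, hwz⟩ := h1
      exact ⟨(w : G), hw, congrArg Subtype.val hwz⟩
    · rintro ⟨w, hw, rfl⟩
      have h1 : (k * ⟨w, hTC T' hy.tT hw⟩ * k⁻¹ : C) ∈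
          ((k • T'.subtype (hTC T' hy.tT) : Sylow 2 C) : Subgroup C) := ⟨⟨w, hTC T' hy.tT hw⟩, hw, rfl⟩
      rw [hk] at h1
      exact h1
  refine ⟨c a, c b, c n, ht, fun x hx y hy' => ?_, hcE _ hy.aE, hcE _ hy.bE, hcE _ hy.nE,
    (c.orderOf_eq a).trans hy.ao, (c.orderOf_eq b).trans hy.bo, fun h => hy.ne (c.injective h),
    (hcT _).2 ⟨a, hy.aT, rfl⟩, (hcT _).2 ⟨b, hy.bT, rfl⟩, fun x hx => ?_,
    by rw [← map_inv, ← map_mul, ← map_mul, hy.na], by rw [← map_inv, ← map_mul, ← map_mul, hy.nb, map_mul],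
    (c.orderOf_eq n).trans hy.no⟩
  · obtain ⟨w, hw, rfl⟩ := (hcT x).1 hx
    obtain ⟨w', hw', rfl⟩ := (hcT y).1 hy'
    exact (hy.tcomm w hw w' hw').map c.toMonoidHom
  · obtain ⟨w, hw, rfl⟩ := (hcT x).1 hx
    obtain ⟨v, hv, h⟩ := hy.cases w hw
    refine ⟨c v, ?_, ?_⟩
    · rcases hv with rfl | rfl | rfl | rfl
      exacts [Or.inl (map_one c), Or.inr (Or.inl rfl), Or.inr (Or.inr (Or.inl rfl)),
        Or.inr (Or.inr (Or.inr (map_mul c a b)))]
    · rcases h with h | h
      · exact Or.inl (by rw [h])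
      · exact Or.inr (by rw [h, map_mul, hct])

/-- `C(x)/⟨x⟩` and its simple normal subgroup. -/
structure Quot (t : G) (E E₀ : Subgroup G) (r : ℕ) (x : G) (L : Type) [Field L] [Fintype L] (X : Type u) [Group X]
    [Fintype X] where
  P : Twist.Proj x X
  t' : X
  ht : ∃ h : t ∈ centralizer ({x} : Set G), P.π ⟨t, h⟩ = t'
  hyp : AbCentMax.Hyp t' (P.img E) (P.img E₀) L
  M : Subgroup X
  normal : M.Normal
  tM : M
  tM_eq : (tM : X) = t'
  ree : Ree.Setting tM ((P.img E₀).subgroupOf M) L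
  le : P.img E₀ ≤ M
  inter : ∀ u ∈ P.img E, u ∈ M → u ∈ P.img E₀
  inv : ∀ u : X, orderOf u = 2 → u ∈ M
  conj : ∀ u : X, orderOf u = 2 → IsConj t' u
  exp : ∀ u : X, IsTwoEl u → u * u = 1
  reg : ¬ r ∣ Fintype.card L * (Fintype.card L * Fintype.card L - 1) → ¬ r ∣ Nat.card (P.img E)
  index : M.index ∣ Nat.card (P.img E)
  index_odd : Odd M.index
  count : invCount x = Nat.card {u : X // orderOf u = 2}

/-- It exists. -/
theorem exists_quot (J : JRSetting t E E₀ F) {T' : Sylow 2 G} {r : ℕ} {x : G} {L : Type} [Field L] [Fintype L]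
    (hX : FieldElem t E E₀ T' r x) (hL : LocalData t E E₀ F r x L) (hrodd : Odd r)
    (h27 : 27 ≤ Fintype.card L) :
    ∃ (X : Type u) (_ : Group X) (_ : Fintype X), Nonempty (Quot t E E₀ r x L X) := by
  classical
  haveI : Fact (Nat.Prime 2) := ⟨Nat.prime_two⟩
  have S := Twist.of_jr J
  obtain ⟨a, b, n, hy⟩ := exists_frame S T' hX.tT
  have hxodd : Odd (orderOf x) := by
    obtain ⟨i, hi⟩ := hX.pow
    rw [hi]
    exact hrodd.pow
  have hxP : x ∈ S.Phi hy := S.mem_Phi_of_cent hy hxodd hX.cT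
  obtain ⟨eL⟩ := hL.fixed
  haveI hn : ((zpowers x).subgroupOf (centralizer ({x} : Set G))).Normal := ⟨fun z hz g => by
    obtain ⟨i, hi⟩ := mem_subgroupOf.1 hz
    have hc : Commute (g : G) (x ^ i) :=
      (show Commute (g : G) x from mem_centralizer_singleton_iff.1 g.2).zpow_right i
    refine mem_subgroupOf.2 ⟨i, ?_⟩
    show x ^ i = (g : G) * z * (g : G)⁻¹
    rw [← hi, hc.eq, mul_inv_cancel_right]⟩
  set X := ↥(centralizer ({x} : Set G)) ⧸ (zpowers x).subgroupOf (centralizer ({x} : Set G)) with hXdef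
  letI : Fintype X := Fintype.ofFinite X
  let P : Twist.Proj x X :=
    ⟨QuotientGroup.mk' _, QuotientGroup.mk'_surjective _, QuotientGroup.ker_mk' _⟩
  have hpow : Fintype.card L ^ orderOf x = Fintype.card F := hL.card.symm
  have H := S.hyp_quot P hy hxP hpow eL
  have hconj : ∀ u : X, orderOf u = 2 → IsConj (S.bar P hy hxP t hy.tT) u := fun u hu => S.conj_quot P hy hxP hu
  have hexp : ∀ u : X, IsTwoEl u → u * u = 1 := fun u hu => by
    obtain ⟨R, hR⟩ := hu.isPGroup.exists_le_sylow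
    obtain ⟨g, hg⟩ := MulAction.exists_smul_eq X R (S.sylQ P hy hxP)
    have h := S.sq_sylQ P hy hxP (u := g * u * g⁻¹) (hg ▸ ⟨u, hR (mem_zpowers u), rfl⟩)
    rwa [show g * u * g⁻¹ * (g * u * g⁻¹) = g * (u * u) * g⁻¹ by group, conj_eq_one_iff] at h
  rcases hL.cases with h | h | ⟨-, -, N, K, iK, iKf, π, tK, EK, hxN, hNC, hNn, hπ, hker, ⟨htN, htK⟩, hEK, RS⟩
  · omega
  · omega
  have hC₀card : Nat.card EK = Nat.card ↥(E₀ ⊓ centralizer ({x} : Set G)) := by
    obtain ⟨f⟩ := RS.hyp.iso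
    rw [Nat.card_congr f.toEquiv, Nat.card_congr eL.toEquiv]
  have hC₀N : E₀ ⊓ centralizer ({x} : Set G) ≤ N := by
    by_contra hle
    have hlt : Nat.card ↥((E₀ ⊓ centralizer ({x} : Set G)) ⊓ N) < Nat.card ↥(E₀ ⊓ centralizer ({x} : Set G)) := by
      refine lt_of_le_of_ne (Nat.card_le_card_of_injective _ (inclusion_injective inf_le_left)) fun e => hle ?_
      exact (eq_of_le_of_card_ge (inf_le_left : (E₀ ⊓ centralizer ({x} : Set G)) ⊓ N ≤ _) e.ge).ge.trans inf_le_right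
    refine absurd (hC₀card ▸ hlt) (not_lt.2 ?_)
    rw [hEK]
    refine (Nat.card_le_card_of_surjective _ (π.subgroupMap_surjective _)).trans ?_
    exact Nat.card_le_card_of_injective
      (fun z : ↥((E₀ ⊓ centralizer ({x} : Set G)).subgroupOf N) =>
        (⟨((z : N) : G), z.2, (z : N).2⟩ : ↥((E₀ ⊓ centralizer ({x} : Set G)) ⊓ N)))
      fun z z' h => by
        have h' := congrArg (fun w : ↥((E₀ ⊓ centralizer ({x} : Set G)) ⊓ N) => (w : G)) h
        exact Subtype.ext (Subtype.ext h')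
  set M : Subgroup X := P.img N with hM
  haveI hMn : M.Normal := by
    haveI : (N.subgroupOf (centralizer ({x} : Set G))).Normal := normal_subgroupOf_of_le_normalizer hNn
    exact (inferInstance : (N.subgroupOf (centralizer ({x} : Set G))).Normal).map P.π P.surj
  let ψ : N →* M := (P.π.comp (inclusion hNC)).codRestrict M fun z => P.mem_img.2 ⟨inclusion hNC z, z.2, rfl⟩
  have hψ : Function.Surjective ψ := by
    rintro ⟨u, hu⟩
    obtain ⟨h, hh, rfl⟩ := P.mem_img.1 hu
    exact ⟨⟨h, hh⟩, Subtype.ext rfl⟩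
  have hψk : ψ.ker = π.ker := by
    rw [hker]
    ext z
    rw [MonoidHom.mem_ker, mem_subgroupOf, Subtype.ext_iff]
    exact P.eq_one_iff
  let e : M ≃* K := ((QuotientGroup.quotientKerEquivOfSurjective ψ hψ).symm.trans
    (QuotientGroup.quotientMulEquivOfEq hψk)).trans (QuotientGroup.quotientKerEquivOfSurjective π hπ)
  have he : ∀ z, e (ψ z) = π z := fun z => by
    show (QuotientGroup.quotientKerEquivOfSurjective π hπ) ((QuotientGroup.quotientMulEquivOfEq hψk)
      ((QuotientGroup.quotientKerEquivOfSurjective ψ hψ).symm (ψ z))) = π z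
    rw [show (QuotientGroup.quotientKerEquivOfSurjective ψ hψ).symm (ψ z) = (z : N ⧸ ψ.ker) from
      (MulEquiv.symm_apply_eq _).2 rfl]
    rfl
  have hle : P.img E₀ ≤ M := fun u hu => by
    obtain ⟨h, hh, rfl⟩ := P.mem_img.1 hu
    exact P.mem_img.2 ⟨h, hC₀N ⟨hh, h.2⟩, rfl⟩
  have RM : Ree.Setting (ψ ⟨t, htN⟩) ((P.img E₀).subgroupOf M) L := by
    refine setting_of_equiv e RS (by rw [he, htK]) fun m => ?_
    obtain ⟨z, rfl⟩ := hψ m
    rw [he, hEK, mem_subgroupOf]
    constructor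
    · intro hm
      obtain ⟨h, hh, hhz⟩ := P.mem_img.1 hm
      refine ⟨⟨h, hC₀N ⟨hh, h.2⟩⟩, ⟨hh, h.2⟩, ?_⟩
      rw [← he, ← he]
      exact congrArg e (Subtype.ext hhz)
    · rintro ⟨w, hw, hwz⟩
      rw [← he, ← he] at hwz
      exact P.mem_img.2 ⟨inclusion hNC w, hw.1, congrArg Subtype.val (e.injective hwz)⟩
  have htM : ((ψ ⟨t, htN⟩ : M) : X) = S.bar P hy hxP t hy.tT := rfl
  have hinv : ∀ u : X, orderOf u = 2 → u ∈ M := fun u hu => by
    obtain ⟨g, rfl⟩ := isConj_iff.1 (hconj u hu)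
    exact hMn.conj_mem _ (htM ▸ (ψ ⟨t, htN⟩).2) g
  have hinter : ∀ u ∈ P.img E, u ∈ M → u ∈ P.img E₀ := fun u hu huM => by
    obtain ⟨v, hv, hv'⟩ := RM.hyp.split ⟨u, huM⟩ (Subtype.ext (by
      show u * ((ψ ⟨t, htN⟩ : M) : X) = ((ψ ⟨t, htN⟩ : M) : X) * u
      rw [htM]; exact (H.comm u hu).eq.symm))
    rcases hv' with h | h
    · rw [show u = (v : X) from congrArg Subtype.val h]
      exact hv
    · exfalso
      refine H.disj ?_
      have h' : u = S.bar P hy hxP t hy.tT * (v : X) := by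
        rw [← htM]; exact congrArg Subtype.val h
      rw [show S.bar P hy hxP t hy.tT = u * (v : X)⁻¹ by rw [h', mul_inv_cancel_right]]
      exact mul_mem hu (inv_mem (H.le (mem_subgroupOf.1 hv)))
  have hrr : r.Prime := hX.prime
  have hreg : ¬ r ∣ Fintype.card L * (Fintype.card L * Fintype.card L - 1) → ¬ r ∣ Nat.card (P.img E) := by
    intro hrL hd
    haveI : Fact r.Prime := ⟨hrr⟩
    obtain ⟨u, hu⟩ := exists_prime_orderOf_dvd_card' r hd
    obtain ⟨h, hh, hhu⟩ := P.mem_img.1 u.2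
    set B := (zpowers x ⊔ E₀).subgroupOf E with hB
    haveI : B.Normal := ⟨fun z hz g => by
      have hm := mem_sup_right (S := zpowers x) (hL.abel g g.2 z z.2)
      have h2 := mul_mem hm (mem_subgroupOf.1 hz)
      rw [inv_mul_cancel_right] at h2
      exact mem_subgroupOf.2 h2⟩
    have hpw : (h : G) ^ B.index ∈ zpowers x ⊔ E₀ := by
      have := mem_subgroupOf.1 (Subgroup.pow_index_mem B ⟨(h : G), hh⟩)
      simpa using this
    haveI : (E₀.subgroupOf E).Normal := S.normal_E₀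
    have hsup : (((zpowers x ⊔ E₀ : Subgroup G)) : Set G) = (zpowers x : Set G) * (E₀ : Set G) :=
      Subgroup.coe_mul_of_left_le_normalizer_right _ _ (zpowers_le.2 (mem_normalizer_iff.2 fun z => by
        refine ⟨fun hz => S.hyp.norm x hX.mem z hz, fun hz => ?_⟩
        have := S.hyp.norm x⁻¹ (inv_mem hX.mem) _ hz
        simpa [mul_assoc] using this))
    rw [← SetLike.mem_coe, hsup] at hpw
    obtain ⟨z, hz, c, hc, hzc⟩ := hpw
    have hhx : Commute (h : G) x := mem_centralizer_singleton_iff.1 h.2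
    have hzx : Commute z x := by
      obtain ⟨i, rfl⟩ := hz
      exact (Commute.refl x).zpow_left i
    have hcC : c ∈ centralizer ({x} : Set G) := by
      rw [show c = z⁻¹ * (h : G) ^ B.index by rw [← hzc, inv_mul_cancel_left]]
      exact mul_mem (inv_mem (mem_centralizer_singleton_iff.2 hzx.eq)) (pow_mem h.2 _)
    set N₀ := Nat.card ↥(E₀ ⊓ centralizer ({x} : Set G)) with hN₀
    have hcz : Commute z c := by
      obtain ⟨i, rfl⟩ := hz
      exact (show Commute x c from (mem_centralizer_singleton_iff.1 hcC).symm).zpow_left i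
    have hc1 : c ^ N₀ = 1 := by
      have := congrArg Subtype.val (pow_card_eq_one' (G := ↥(E₀ ⊓ centralizer ({x} : Set G)))
        (x := ⟨c, hc, hcC⟩))
      rw [SubmonoidClass.coe_pow, OneMemClass.coe_one] at this
      exact this
    have hu1 : u ^ (B.index * N₀) = 1 := by
      refine Subtype.ext ?_
      rw [SubmonoidClass.coe_pow, ← hhu, ← map_pow, OneMemClass.coe_one]
      refine P.eq_one_iff.2 ?_
      rw [SubmonoidClass.coe_pow, pow_mul, ← hzc, hcz.mul_pow, hc1, mul_one]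
      exact pow_mem hz _
    have hdvd := orderOf_dvd_of_pow_eq_one hu1
    rw [hu] at hdvd
    rcases hrr.dvd_mul.1 hdvd with h1 | h1
    · exact hX.gen h1
    · refine hrL ?_
      have h2 : 2 * N₀ = Fintype.card L * (Fintype.card L * Fintype.card L - 1) := by
        rw [hN₀, Nat.card_congr eL.toEquiv]
        obtain ⟨z', hz'⟩ := exists_prime_orderOf_dvd_card' (G := Matrix.ProjectiveSpecialLinearGroup (Fin 2) L) 2
          (by
            rw [← Nat.card_congr eL.toEquiv]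
            have hzE : a ∈ E₀ ⊓ centralizer ({x} : Set G) :=
              ⟨hy.aE, mem_centralizer_singleton_iff.2 (hX.cT a hy.aT).eq.symm⟩
            have := orderOf_dvd_natCard (⟨a, hzE⟩ : ↥(E₀ ⊓ centralizer ({x} : Set G)))
            rwa [orderOf_mk, hy.ao] at this)
        exact (PSL.involution_centralizer (RS.hyp.odd) hz').1
      rw [← h2]
      exact h1.mul_left 2
  have hindex : M.index ∣ Nat.card (P.img E) := by
    rw [index_eq_card]
    refine card_dvd_of_surjective ((QuotientGroup.mk' M).comp (P.img E).subtype) ?_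
    rintro ⟨g⟩
    obtain ⟨m, hm⟩ := isConj_iff.1 (RM.sectFacts.conj_all (⟨g * S.bar P hy hxP t hy.tT * g⁻¹,
      hMn.conj_mem _ (htM ▸ (ψ ⟨t, htN⟩).2) g⟩ : M) (by
        rw [orderOf_mk, ← MulAut.conj_apply, MulEquiv.orderOf_eq, H.ord]))
    have hm' : (m : X) * S.bar P hy hxP t hy.tT * (m : X)⁻¹ = g * S.bar P hy hxP t hy.tT * g⁻¹ := by
      have := congrArg Subtype.val hm
      rw [← htM]
      exact this
    obtain ⟨v, hv, hv'⟩ := H.split ((m : X)⁻¹ * g) (by
      show (m : X)⁻¹ * g * S.bar P hy hxP t hy.tT = S.bar P hy hxP t hy.tT * ((m : X)⁻¹ * g)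
      calc (m : X)⁻¹ * g * S.bar P hy hxP t hy.tT
          = (m : X)⁻¹ * (g * S.bar P hy hxP t hy.tT * g⁻¹) * g := by group
        _ = S.bar P hy hxP t hy.tT * ((m : X)⁻¹ * g) := by rw [← hm']; group)
    refine ⟨⟨v, hv⟩, (QuotientGroup.eq (s := M)).2 ?_⟩
    show v⁻¹ * g ∈ M
    rw [show g = (m : X) * ((m : X)⁻¹ * g) by group]
    rcases hv' with h | h
    · rw [h, show v⁻¹ * ((m : X) * v) = v⁻¹ * (m : X) * v⁻¹⁻¹ by group]
      exact hMn.conj_mem _ m.2 v⁻¹
    · rw [h, show v⁻¹ * ((m : X) * (S.bar P hy hxP t hy.tT * v)) =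
        (v⁻¹ * ((m : X) * S.bar P hy hxP t hy.tT) * v⁻¹⁻¹) by group]
      exact hMn.conj_mem _ (mul_mem m.2 (htM ▸ (ψ ⟨t, htN⟩).2)) _
  have hsylM : (S.sylQ P hy hxP : Subgroup X) ≤ M := fun u hu => by
    by_cases h1 : u = 1
    · rw [h1]; exact one_mem M
    · exact hinv u (S.two_sylQ P hy hxP hu h1)
  refine ⟨X, inferInstance, inferInstance, ⟨⟨P, _, ⟨_, rfl⟩, H, M, hMn, ψ ⟨t, htN⟩, htM, RM, hle, hinter, hinv, hconj, hexp,
    hreg, hindex, ?_, S.count_quot P hy hxP⟩⟩⟩
  rw [Nat.odd_iff, ← Nat.two_dvd_ne_zero]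
  exact fun h => (S.sylQ P hy hxP).not_dvd_index (h.trans (index_dvd_of_le hsylM))

end Cfsg.Lib.Ree.Field.RAdic
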