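import Cfsg.Agent.Ree.Field.RAdic.Table
import Cfsg.Agent.Ree.Field.RAdic.Fixed
import Cfsg.Agent.Ree.Field.RAdic.Count

/-!
The characters of `C(x)/⟨x⟩` at the section of `t`: the two of degrees `q² - q + 1`, `q (q² - q + 1)`, the one of
degree `q³`, and their coordinates.
-/

set_option autoImplicit false
set_option linter.unusedSectionVars false
set_option linter.style.haveILetI false

namespace Cfsg.Lib.Ree.Field.RAdic

open Cfsg Cfsg.Lib.Chars Cfsg.Lib.Blocks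
open scoped ComplexConjugate

universe u

variable {G : Type u} [Group G] [Fintype G] {t : G} {E E₀ : Subgroup G} {r : ℕ} {x : G} {L : Type} [Field L]
  [Fintype L] {X : Type u} [Group X] [Fintype X] (Q : Quot t E E₀ r x L X) [Fintype Q.M]
  [Fintype ((Q.P.img E₀).subgroupOf Q.M)] [Fintype (Q.P.img E)]
  (C : Real.RCtx Q.tM ((Q.P.img E₀).subgroupOf Q.M) L) {Mi : Ideal AlgInt}
  (K : Twist.KTable (Q.P.img E) Mi) (K₁ : Twist.KTable ((Q.P.img E₀).subgroupOf Q.M) Mi)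

/-- The restriction of `x` is the function of `M`. -/
theorem Quot.res_x (θ : IrrCharacter (Q.P.img E)) (hx : K.x = fun y => -(θ : Q.P.img E → ℂ) y - 1)
    (hdeg : deg (θ : Q.P.img E → ℂ) = Fintype.card L)
    (hres : IsIrrCharacter ((Q.P.img E₀).subgroupOf Q.M)
      (fun y => (θ : Q.P.img E → ℂ) (Sect.incl Q.M Q.hle y))) :
    (fun y : (Q.P.img E₀).subgroupOf Q.M => K.x (Sect.incl Q.M Q.hle y)) = C.D.Tb.x := by
  obtain ⟨-, R, -⟩ := pslSpec_rows (X := (Q.P.img E₀).subgroupOf Q.M) C.D.set.mod C.D.set.big C.D.set.hyp.iso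
  have e1 := R.only_St C.St C.st_deg
  have e2 := R.only_St ⟨_, hres⟩ (by
    refine Nat.cast_injective (R := ℂ) ?_
    rw [← irr_apply_one_eq_deg]
    show (θ : Q.P.img E → ℂ) (Sect.incl Q.M Q.hle 1) = _
    rw [map_one, irr_apply_one_eq_deg, hdeg])
  funext y
  rw [C.x_eq y, hx, e1, ← e2]
  ring

/-- The restriction of the sum of the long functions. -/
theorem Quot.res_w (hK : (fun y : (Q.P.img E₀).subgroupOf Q.M => K.x (Sect.incl Q.M Q.hle y)) = K₁.x) :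
    (fun y : (Q.P.img E₀).subgroupOf Q.M => (K.al + K.be) (Sect.incl Q.M Q.hle y)) = K₁.al + K₁.be := by
  rw [al_add_be, al_add_be, ← hK]
  funext y
  have : orderOf (Sect.incl Q.M Q.hle y) = orderOf y := by
    rw [← Subgroup.orderOf_coe, show ((Sect.incl Q.M Q.hle y : Q.P.img E) : X) = ((y : Q.M) : X) from rfl,
      Subgroup.orderOf_coe, Subgroup.orderOf_coe]
  simp only [Pi.add_apply, Pi.smul_apply, oddInd, this]

theorem Quot.mult {ψ : Q.P.img E → ℂ} (hψ : IsSpecial ψ) {ψ' : (Q.P.img E₀).subgroupOf Q.M → ℂ}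
    (he : (fun y : (Q.P.img E₀).subgroupOf Q.M => ψ (Sect.incl Q.M Q.hle y)) = ψ') (φ : IrrCharacter Q.M) :
    ∑ χ : IrrCharacter X, coord Q.t' (Q.P.img E) χ ψ * classInner (fun m : Q.M => (χ : X → ℂ) m) (φ : Q.M → ℂ) =
      coord Q.tM ((Q.P.img E₀).subgroupOf Q.M) φ ψ' :=
  he ▸ Sect.sum_coord_mult Q.hyp Q.M Q.ree.hyp Q.tM_eq Q.hle Q.conj_M Q.exp_M hψ φ

theorem Quot.invariant {ψ : Q.P.img E → ℂ} (hψ : IsSpecial ψ) {ψ' : (Q.P.img E₀).subgroupOf Q.M → ℂ}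
    (he : (fun y : (Q.P.img E₀).subgroupOf Q.M => ψ (Sect.incl Q.M Q.hle y)) = ψ') (φ : IrrCharacter Q.M) (g : X) :
    haveI := Q.normal
    coord Q.tM ((Q.P.img E₀).subgroupOf Q.M) (conjC Q.M g φ) ψ' =
      coord Q.tM ((Q.P.img E₀).subgroupOf Q.M) φ ψ' := by
  haveI := Q.normal
  exact he ▸ Sect.coord_conjN Q.hyp Q.M Q.ree.hyp Q.tM_eq Q.hle Q.conj_M Q.exp_M hψ φ g

/-- The seven members over those of `M`. -/
theorem Quot.exists_over (hM : IsPModular 2 Mi) (hx1 : K₁.x = C.D.Tb.x)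
    (hA : K₁.A 1 = (midVal (signedCard L) : ℂ)) (hB : K₁.B 1 = (midVal (signedCard L) : ℂ))
    (hrx : (fun y : (Q.P.img E₀).subgroupOf Q.M => K.x (Sect.incl Q.M Q.hle y)) = C.D.Tb.x) :
    ∃ (ch : Fin 7 → IrrCharacter X) (ee : Fin 7 → ℕ), Function.Injective ch ∧ (∀ i, ch i ≠ Chars.principal X) ∧
      (∀ i, 0 < ee i) ∧
      (∀ i, (fun m : Q.M => (ch i : X → ℂ) m) = (ee i : ℂ) •
        ((![C.S.e1, C.S.c3, C.S.c4, C.S.c5, C.S.c6, C.S.c7, C.S.c8] : Fin 7 → IrrCharacter Q.M) i : Q.M → ℂ)) ∧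
      (∀ i j, classInner (fun m : Q.M => (ch i : X → ℂ) m)
        ((![C.S.e1, C.S.c3, C.S.c4, C.S.c5, C.S.c6, C.S.c7, C.S.c8] : Fin 7 → IrrCharacter Q.M) j : Q.M → ℂ) =
          if i = j then (ee i : ℂ) else 0) ∧
      (∀ i, classInner (fun m : Q.M => ((Chars.principal X : IrrCharacter X) : X → ℂ) m)
        ((![C.S.e1, C.S.c3, C.S.c4, C.S.c5, C.S.c6, C.S.c7, C.S.c8] : Fin 7 → IrrCharacter Q.M) i : Q.M → ℂ) = 0) ∧
      (coord Q.t' (Q.P.img E) (ch 0) K.x ≠ 0 ∧ coord Q.t' (Q.P.img E) (ch 1) K.x ≠ 0 ∧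
        coord Q.t' (Q.P.img E) (ch 2) K.x ≠ 0) ∧
      (coord Q.t' (Q.P.img E) (ch 3) (K.al + K.be) ≠ 0 ∧ coord Q.t' (Q.P.img E) (ch 4) (K.al + K.be) ≠ 0 ∧
        coord Q.t' (Q.P.img E) (ch 5) (K.al + K.be) ≠ 0 ∧ coord Q.t' (Q.P.img E) (ch 6) (K.al + K.be) ≠ 0) := by
  classical
  haveI := Q.normal
  have hrw := Q.res_w K K₁ (hrx.trans hx1.symm)
  obtain ⟨hinj, hno⟩ := members_inj C
  set th : Fin 7 → IrrCharacter Q.M := ![C.S.e1, C.S.c3, C.S.c4, C.S.c5, C.S.c6, C.S.c7, C.S.c8] with hth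
  obtain ⟨r0, r1, r5, r6, r7, r8, r3, r4⟩ := C.S.rows
  obtain ⟨m0, m1, m5, m6, m7, m8, m3, m4⟩ := C.S.mem
  have hix := fun φ g => Q.invariant K.special_x hrx φ g
  have hiw := fun φ g => Q.invariant (special_sum K) hrw φ g
  have hlong := fun {φ} (h : φ = C.S.e1 ∨ φ = C.S.c3 ∨ φ = C.S.c4) (g : X) => long_fixed Q.M C hix h g
  have hshort := fun {φ} (h : φ = C.S.c5 ∨ φ = C.S.c6 ∨ φ = C.S.c7 ∨ φ = C.S.c8) (g : X) =>
    short_fixed Q.M C hM K₁ hx1 hA hB Q.conj_M Q.index_odd hix hiw h g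
  have hfix : ∀ i g, Chars.conjN Q.M g (th i : Q.M → ℂ) = th i := fun i g => by
    rw [← conjC_coe]
    refine congrArg Subtype.val ?_
    fin_cases i
    exacts [hlong (Or.inl rfl) g, hlong (Or.inr (Or.inl rfl)) g, hlong (Or.inr (Or.inr rfl)) g,
      hshort (Or.inl rfl) g, hshort (Or.inr (Or.inl rfl)) g, hshort (Or.inr (Or.inr (Or.inl rfl))) g,
      hshort (Or.inr (Or.inr (Or.inr rfl))) g]
  have hover : ∀ i, ∀ {ψ : Q.P.img E → ℂ}, IsSpecial ψ → ∀ {ψ' : (Q.P.img E₀).subgroupOf Q.M → ℂ},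
      (fun y : (Q.P.img E₀).subgroupOf Q.M => ψ (Sect.incl Q.M Q.hle y)) = ψ' →
      coord Q.tM ((Q.P.img E₀).subgroupOf Q.M) (th i) ψ' ≠ 0 →
      ∃ (χ : IrrCharacter X) (e : ℕ), coord Q.t' (Q.P.img E) χ ψ ≠ 0 ∧ 0 < e ∧
        (fun m : Q.M => (χ : X → ℂ) m) = (e : ℂ) • (th i : Q.M → ℂ) := by
    intro i ψ hψ ψ' he hne
    rw [← Q.mult hψ he] at hne
    obtain ⟨χ, -, hχ⟩ := Finset.exists_ne_zero_of_sum_ne_zero hne
    obtain ⟨e, hpos, hee⟩ := restrict_eq_mult_of_invariant Q.M χ.2 (th i).2 (hfix i) (right_ne_zero_of_mul hχ)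
    exact ⟨χ, e, left_ne_zero_of_mul hχ, hpos, hee⟩
  have hln : ∀ φ, φ ∈ C.D.R.L → (C.D.R.row φ).1 = 1 →
      coord Q.tM ((Q.P.img E₀).subgroupOf Q.M) φ C.D.Tb.x ≠ 0 := fun φ hφ hr => by
    rw [(C.D.R.coords φ hφ).1, hr, mul_one]
    intro e
    have := C.D.R.sg_sq φ
    rw [Int.cast_eq_zero.1 e] at this
    norm_num at this
  obtain ⟨χ0, e0, c0, p0, s0⟩ := hover 0 K.special_x hrx (hln C.S.e1 m1 (by simp [r1]))
  obtain ⟨χ1, e1, c1, p1, s1⟩ := hover 1 K.special_x hrx (hln C.S.c3 m3 (by simp [r3]))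
  obtain ⟨χ2, e2, c2, p2, s2⟩ := hover 2 K.special_x hrx (hln C.S.c4 m4 (by simp [r4]))
  obtain ⟨χ3, e3, c3, p3, s3⟩ := hover 3 (special_sum K) hrw (coord_short C hM K₁ hx1 hA hB (Or.inl rfl))
  obtain ⟨χ4, e4, c4, p4, s4⟩ := hover 4 (special_sum K) hrw (coord_short C hM K₁ hx1 hA hB (Or.inr (Or.inl rfl)))
  obtain ⟨χ5, e5, c5, p5, s5⟩ := hover 5 (special_sum K) hrw
    (coord_short C hM K₁ hx1 hA hB (Or.inr (Or.inr (Or.inl rfl))))
  obtain ⟨χ6, e6, c6, p6, s6⟩ := hover 6 (special_sum K) hrw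
    (coord_short C hM K₁ hx1 hA hB (Or.inr (Or.inr (Or.inr rfl))))
  let ch : Fin 7 → IrrCharacter X := ![χ0, χ1, χ2, χ3, χ4, χ5, χ6]
  let ee : Fin 7 → ℕ := ![e0, e1, e2, e3, e4, e5, e6]
  have hres : ∀ i, (fun m : Q.M => (ch i : X → ℂ) m) = (ee i : ℂ) • (th i : Q.M → ℂ) := by
    intro i
    fin_cases i
    exacts [s0, s1, s2, s3, s4, s5, s6]
  have hee : ∀ i, 0 < ee i := by
    intro i
    fin_cases i
    exacts [p0, p1, p2, p3, p4, p5, p6]
  have hin : ∀ i j, classInner (fun m : Q.M => (ch i : X → ℂ) m) (th j : Q.M → ℂ) = if i = j then (ee i : ℂ) else 0 :=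
    fun i j => by
      rw [hres i, classInner_smul_left, classInner_irrCharacter]
      by_cases h : i = j
      · rw [if_pos h, if_pos (by rw [h]), mul_one]
      · rw [if_neg h, if_neg fun e => h (hinj e), mul_zero]
  have hne0 : ∀ i, (ee i : ℂ) ≠ 0 := fun i => Nat.cast_ne_zero.2 (hee i).ne'
  have hoS : C.S.o = Chars.principal Q.M := by
    obtain ⟨o', L', hL, ho', -⟩ := C.D.R.head
    have hm' : o' ∈ C.D.R.L := by rw [hL]; exact List.mem_cons_self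
    have h1 : deg (o' : Q.M → ℂ) = 1 := by
      refine Nat.cast_injective (R := ℂ) ?_
      rw [← irr_apply_one_eq_deg, ho', Nat.cast_one]
    have hrow : C.D.R.row o' = (1, 0, 0) := by
      have hm := C.D.R.mem_systems
      rw [hL, List.map_cons] at hm
      simp only [systems, List.mem_cons, List.cons.injEq, List.not_mem_nil, or_false] at hm
      rcases hm with ⟨e, -⟩ | ⟨e, -⟩ | ⟨e, -⟩ | ⟨e, -⟩ <;> exact e
    rcases mem_cases C hm' with e | e | e | e | e | e | e | e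
    · exact Subtype.ext (by rw [← e]; exact ho')
    · exfalso
      have h2 := deg_abs Q.M C C.S.e1
      have h27 : (27 : ℤ) ≤ Fintype.card L := by exact_mod_cast C.q_ge
      rw [C.d_e1, ← e, h1, abs_of_nonneg (by nlinarith), Nat.cast_one] at h2
      nlinarith
    all_goals exfalso; simp [e, r5, r6, r7, r8, r3, r4] at hrow
  have hoo : ∀ i, classInner (fun m : Q.M => ((Chars.principal X : IrrCharacter X) : X → ℂ) m)
      (th i : Q.M → ℂ) = 0 := fun i => by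
    show classInner ((Chars.principal Q.M : IrrCharacter Q.M) : Q.M → ℂ) (th i : Q.M → ℂ) = 0
    rw [classInner_irrCharacter, if_neg fun e => hno i (by rw [hoS]; exact e.symm)]
  refine ⟨ch, ee, fun i j h => ?_, fun i e => ?_, hee, hres, hin, hoo, ⟨c0, c1, c2⟩, c3, c4, c5, c6⟩
  · by_contra hne
    have h1 := hin i i
    rw [h, hin j i, if_pos rfl, if_neg (Ne.symm hne)] at h1
    exact hne0 i h1.symm
  · have h := hin i i
    rw [e, hoo i, if_pos rfl] at h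
    exact hne0 i h.symm

include C in
/-- **The members.** -/
theorem Quot.exists_members (hM : IsPModular 2 Mi) (θ : IrrCharacter (Q.P.img E))
    (hx : K.x = fun y => -(θ : Q.P.img E → ℂ) y - 1) (hdeg : deg (θ : Q.P.img E → ℂ) = Fintype.card L)
    (hres : IsIrrCharacter ((Q.P.img E₀).subgroupOf Q.M)
      (fun y => (θ : Q.P.img E → ℂ) (Sect.incl Q.M Q.hle y))) :
    ∃ (γ : Fin 2 → IrrCharacter X) (St : IrrCharacter X) (ε : Fin 2 → ℤ) (εS : ℤ),
      (∀ i, ε i * ε i = 1) ∧ (∀ i, coord Q.t' (Q.P.img E) (γ i) K.x = ε i) ∧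
      (∀ i, coord Q.t' (Q.P.img E) (γ i) (K.al + K.be) = ((![0, 2] : Fin 2 → ℤ) i : ℂ) * ε i) ∧
      (∀ g : X, Sect.lift Q.t' (Q.P.img E) K.x g =
        -1 + (εS : ℂ) * (St : X → ℂ) g + ∑ i, (ε i : ℂ) * (γ i : X → ℂ) g) ∧
      (deg (γ 0 : X → ℂ) : ℤ) = (Fintype.card L : ℤ) ^ 2 - Fintype.card L + 1 ∧
      (deg (γ 1 : X → ℂ) : ℤ) = Fintype.card L * ((Fintype.card L : ℤ) ^ 2 - Fintype.card L + 1) ∧
      deg (St : X → ℂ) = Fintype.card L ^ 3 ∧
      ∀ i, (invCount x : ℂ) * (γ i : X → ℂ) Q.t' = (deg (γ i : X → ℂ) : ℂ) * (-((Fintype.card L : ℂ) ^ 2)) := by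
  classical
  haveI := Q.normal
  obtain ⟨K₁, hx1, hA, hB⟩ := exists_side C hM
  have hrx := Q.res_x C K θ hx hdeg hres
  have hrw := Q.res_w K K₁ (hrx.trans hx1.symm)
  obtain ⟨ch, ee, hchinj, hone, hee, hres', hin, hoo, hcx, hcw⟩ := Q.exists_over C K K₁ hM hx1 hA hB hrx
  set o := Chars.principal X with ho
  obtain ⟨r0, r1, r5, r6, r7, r8, r3, r4⟩ := C.S.rows
  obtain ⟨m0, m1, m5, m6, m7, m8, m3, m4⟩ := C.S.mem
  choose cx hcxX using fun χ => Sect.coord_int Q.hyp K.special_x χ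
  choose ca hcaX using fun χ => Sect.coord_int Q.hyp K.special_al χ
  choose cb hcbX using fun χ => Sect.coord_int Q.hyp K.special_be χ
  have hcw' : ∀ χ, coord Q.t' (Q.P.img E) χ (K.al + K.be) = ((ca χ + cb χ : ℤ) : ℂ) := fun χ => by
    rw [coord, classInner_add_right]
    show coord Q.t' (Q.P.img E) χ K.al + coord Q.t' (Q.P.img E) χ K.be = _
    rw [hcaX, hcbX, Int.cast_add]
  obtain ⟨ixx, iaa, ibb, ixa, ixb, iab, ix1, ia1, ib1⟩ := K.inners
  have hgram : ∀ (f g : Q.P.img E → ℂ), IsSpecial f → IsSpecial g → ∀ (u v : IrrCharacter X → ℤ),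
      (∀ χ, coord Q.t' (Q.P.img E) χ f = u χ) → (∀ χ, coord Q.t' (Q.P.img E) χ g = v χ) → ∀ (c : ℤ),
      2 * classInner f g = (c : ℂ) → ∑ χ, u χ * v χ = c := fun f g hf hg u v hu hv c hc => by
    apply Int.cast_injective (α := ℂ)
    rw [← hc, ← Sect.isometry Q.hyp hf hg, Int.cast_sum]
    exact Finset.sum_congr rfl fun χ _ => by rw [hu, hv, map_intCast, Int.cast_mul]
  have hprin : ∀ ψ : Q.P.img E → ℂ, coord Q.t' (Q.P.img E) o ψ = conj (classInner ψ (fun _ => 1)) := fun ψ => by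
    rw [classInner_conj_symm]; rfl
  have hne : ∀ χ, coord Q.t' (Q.P.img E) χ K.x ≠ 0 → cx χ ≠ 0 := fun χ h e => h (by rw [hcxX, e, Int.cast_zero])
  have hnw : ∀ χ, coord Q.t' (Q.P.img E) χ (K.al + K.be) ≠ 0 → ca χ + cb χ ≠ 0 := fun χ h e =>
    h (by rw [hcw', e, Int.cast_zero])
  obtain ⟨hsx, ⟨s0, s1, s2⟩, hout, hcount⟩ := seven_count cx ca cb o ch hchinj hone
    (hgram _ _ K.special_x K.special_x _ _ hcxX hcxX 4 (by rw [ixx]; norm_num))
    (hgram _ _ K.special_x K.special_al _ _ hcxX hcaX 2 (by rw [ixa]; norm_num))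
    (hgram _ _ K.special_x K.special_be _ _ hcxX hcbX 2 (by rw [ixb]; norm_num))
    (hgram _ _ K.special_al K.special_al _ _ hcaX hcaX 4 (by rw [iaa]; norm_num))
    (hgram _ _ K.special_be K.special_be _ _ hcbX hcbX 4 (by rw [ibb]; norm_num))
    (hgram _ _ K.special_al K.special_be _ _ hcaX hcbX 2 (by rw [iab]; norm_num))
    (Int.cast_injective (α := ℂ) (by rw [← hcxX, hprin, ix1]; simp))
    (Int.cast_injective (α := ℂ) (by rw [← hcaX, hprin, ia1]; simp))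
    (Int.cast_injective (α := ℂ) (by rw [← hcbX, hprin, ib1]; simp))
    ⟨hne _ hcx.1, hne _ hcx.2.1, hne _ hcx.2.2⟩
    ⟨hnw _ hcw.1, hnw _ hcw.2.1, hnw _ hcw.2.2.1, hnw _ hcw.2.2.2⟩
  have hoff : ∀ (i : Fin 7) χ, (∃ j, ch j = χ) → χ ≠ ch i →
      classInner (fun m : Q.M => (χ : X → ℂ) m)
        ((![C.S.e1, C.S.c3, C.S.c4, C.S.c5, C.S.c6, C.S.c7, C.S.c8] : Fin 7 → IrrCharacter Q.M) i : Q.M → ℂ) = 0 := by
    rintro i χ ⟨j, rfl⟩ hne'
    rw [hin, if_neg fun e => hne' (by rw [e])]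
  have hlong : ∀ (i : Fin 7) (φ : IrrCharacter Q.M), cx (ch i) * cx (ch i) = 1 →
      (![C.S.e1, C.S.c3, C.S.c4, C.S.c5, C.S.c6, C.S.c7, C.S.c8] : Fin 7 → IrrCharacter Q.M) i = φ →
      φ ∈ C.D.R.L → (C.D.R.row φ).1 = 1 → (fun m : Q.M => (ch i : X → ℂ) m) = (φ : Q.M → ℂ) := by
    intro i φ hsq hφ hmem hrow
    have h := Q.mult K.special_x hrx φ
    rw [Finset.sum_eq_single (ch i) (fun χ _ hne' => ?_) (fun h => absurd (Finset.mem_univ _) h), hcxX,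
      ← hφ, hin, if_pos rfl, hφ, (C.D.R.coords φ hmem).1, hrow, mul_one] at h
    · have h' : cx (ch i) * (ee i : ℤ) = C.D.R.sg φ := Int.cast_injective (α := ℂ) (by push_cast; exact h)
      have h2 : (ee i : ℤ) * (ee i : ℤ) = 1 := by
        have := congrArg (fun z => z * z) h'
        simp only [C.D.R.sg_sq] at this
        linear_combination this - ((ee i : ℤ) * (ee i : ℤ)) * hsq
      have he : ee i = 1 := by rcases mul_self_eq_one_iff.1 h2 with e | e <;> omega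
      rw [hres', he, Nat.cast_one, one_smul, hφ]
    · by_cases h1 : χ = o
      · rw [← hφ, h1, hoo, mul_zero]
      by_cases hj : ∃ j, ch j = χ
      · rw [← hφ, hoff i χ hj hne', mul_zero]
      · rw [hcxX, hsx χ h1 (fun e => hj ⟨0, e.symm⟩) (fun e => hj ⟨1, e.symm⟩) (fun e => hj ⟨2, e.symm⟩),
          Int.cast_zero, zero_mul]
  have l0 := hlong 0 C.S.e1 s0 rfl m1 (by simp [r1])
  have l1 := hlong 1 C.S.c3 s1 rfl m3 (by simp [r3])
  have l2 := hlong 2 C.S.c4 s2 rfl m4 (by simp [r4])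
  have hw0 : ca (ch 0) + cb (ch 0) = 0 := by
    have h := Q.mult (special_sum K) hrw C.S.e1
    rw [coord_e1 C hM K₁, Finset.sum_eq_single (ch 0) (fun χ _ hne' => ?_) (fun h => absurd (Finset.mem_univ _) h),
      hcw', l0, classInner_irr_self, mul_one] at h
    · exact_mod_cast h
    · by_cases hj : ∃ j, ch j = χ
      · have e := hoff 0 χ hj hne'
        rw [show (![C.S.e1, C.S.c3, C.S.c4, C.S.c5, C.S.c6, C.S.c7, C.S.c8] : Fin 7 → IrrCharacter Q.M) 0 =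
          C.S.e1 from rfl] at e
        rw [e, mul_zero]
      · obtain ⟨z1, z2⟩ := hout χ fun j hj' => hj ⟨j, hj'⟩
        rw [hcw', z1, z2]
        simp
  have hdeg' : ∀ (χ : IrrCharacter X) (φ : IrrCharacter Q.M), (fun m : Q.M => (χ : X → ℂ) m) = (φ : Q.M → ℂ) →
      deg (χ : X → ℂ) = deg (φ : Q.M → ℂ) := fun χ φ h => by
    refine Nat.cast_injective (R := ℂ) ?_
    rw [← irr_apply_one_eq_deg, ← irr_apply_one_eq_deg]
    exact congrFun h 1
  have h27 : (27 : ℤ) ≤ Fintype.card L := by exact_mod_cast C.q_ge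
  have hphi : 0 ≤ (Fintype.card L : ℤ) ^ 2 - Fintype.card L + 1 := by nlinarith
  refine ⟨![ch 0, ch 1], ch 2, ![cx (ch 0), cx (ch 1)], cx (ch 2), ?_, ?_, ?_, fun g => ?_, ?_, ?_, ?_, ?_⟩
  · intro i; fin_cases i
    · exact s0
    · exact s1
  · intro i; fin_cases i <;> exact hcxX _
  · intro i
    fin_cases i
    · show coord _ _ (ch 0) (K.al + K.be) = ((0 : ℤ) : ℂ) * _
      rw [hcw', hw0]
      simp
    · show coord _ _ (ch 1) (K.al + K.be) = ((2 : ℤ) : ℂ) * (cx (ch 1) : ℂ)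
      rw [hcw', hcount hw0, Int.cast_mul]
  · have n01 : ch 0 ≠ ch 1 := fun e => absurd (hchinj e) (by decide)
    have n02 : ch 0 ≠ ch 2 := fun e => absurd (hchinj e) (by decide)
    have n12 : ch 1 ≠ ch 2 := fun e => absurd (hchinj e) (by decide)
    rw [Sect.lift, ← Finset.sum_subset (Finset.subset_univ ({o, ch 0, ch 1, ch 2} : Finset (IrrCharacter X)))
      (fun χ _ hn => by
        simp only [Finset.mem_insert, Finset.mem_singleton, not_or] at hn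
        rw [hcxX, hsx χ hn.1 hn.2.1 hn.2.2.1 hn.2.2.2, Int.cast_zero, zero_mul]),
      Finset.sum_insert (by simp [(hone 0).symm, (hone 1).symm, (hone 2).symm]),
      Finset.sum_insert (by simp [n01, n02]), Finset.sum_pair n12, hprin, ix1, hcxX, hcxX, hcxX, Fin.sum_univ_two]
    show conj (-1 : ℂ) * 1 + _ = -1 + (cx (ch 2) : ℂ) * (ch 2 : X → ℂ) g +
      ((cx (ch 0) : ℂ) * (ch 0 : X → ℂ) g + (cx (ch 1) : ℂ) * (ch 1 : X → ℂ) g)
    rw [map_neg, map_one]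
    ring
  · show (deg (ch 0 : X → ℂ) : ℤ) = _
    rw [hdeg' _ _ l0, deg_abs Q.M C, C.d_e1, abs_of_nonneg hphi]
  · show (deg (ch 1 : X → ℂ) : ℤ) = _
    rw [hdeg' _ _ l1, deg_abs Q.M C, C.d_c3, abs_of_nonneg (mul_nonneg (by linarith) hphi)]
  · rw [hdeg' _ _ l2]
    have h := deg_abs Q.M C C.S.c4
    rw [C.d_c4, abs_neg, abs_of_nonneg (by positivity)] at h
    exact_mod_cast h
  · intro i
    have hcnt : (invCount x : ℂ) =
        (Fintype.card L : ℂ) ^ 2 * ((Fintype.card L : ℂ) ^ 2 - Fintype.card L + 1) := by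
      exact_mod_cast congrArg (fun z : ℤ => (z : ℂ)) (Q.count_eq C)
    obtain ⟨w1, -, -, -, -, w3, -⟩ := C.S.ws
    fin_cases i
    · show (invCount x : ℂ) * (ch 0 : X → ℂ) Q.t' = (deg (ch 0 : X → ℂ) : ℂ) * _
      rw [← Q.tM_eq, show (ch 0 : X → ℂ) Q.tM = (C.S.e1 : Q.M → ℂ) Q.tM from congrFun l0 Q.tM,
        C.D.value_t m1, w1, hdeg' _ _ l0, ← irr_apply_one_eq_deg, C.D.deg_c, C.d_e1, hcnt]
      push_cast; ring
    · show (invCount x : ℂ) * (ch 1 : X → ℂ) Q.t' = (deg (ch 1 : X → ℂ) : ℂ) * _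
      rw [← Q.tM_eq, show (ch 1 : X → ℂ) Q.tM = (C.S.c3 : Q.M → ℂ) Q.tM from congrFun l1 Q.tM,
        C.D.value_t m3, w3, hdeg' _ _ l1, ← irr_apply_one_eq_deg, C.D.deg_c, C.d_c3, hcnt,
        show (signedCard L : ℂ) = -(Fintype.card L : ℂ) by exact_mod_cast congrArg (fun z : ℤ => (z : ℂ)) C.signed]
      push_cast; ring

end Cfsg.Lib.Ree.Field.RAdic
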