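import Cfsg.Agent.Ree.Field.RAdic.Spec

/-!
The `r`-regular elements of `C_E(x)` lift those of `C_E(x)/⟨x⟩`, and the average over them.
-/

set_option autoImplicit false
set_option linter.unusedSectionVars false

namespace Cfsg.Lib.Ree.Field.RAdic

open Subgroup

universe u

variable {G : Type u} [Group G] [Fintype G] {r : ℕ} {x : G} (hr : r.Prime) (hp : ∃ a : ℕ, orderOf x = r ^ a)
include hr hp

/-- The element of `⟨x⟩ h` of order prime to `r`. -/
theorem exists_regular {h : G} (hc : Commute h x) {n : ℕ} (hn : ¬ r ∣ n) (hw : h ^ n ∈ zpowers x) :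
    ∃ j : ℕ, ¬ r ∣ orderOf (x ^ j * h) := by
  obtain ⟨a, ha⟩ := hp
  have hcop : n.Coprime (orderOf (h ^ n)) := by
    refine Nat.Coprime.coprime_dvd_right (orderOf_dvd_of_mem_zpowers hw) ?_
    rw [ha]
    exact ((hr.coprime_iff_not_dvd.2 hn).symm).pow_right a
  obtain ⟨m, hm⟩ := exists_pow_eq_self_of_coprime hcop
  obtain ⟨j, hj⟩ := mem_powers_iff_mem_zpowers.2 (inv_mem (pow_mem hw m) : ((h ^ n) ^ m)⁻¹ ∈ zpowers x)
  refine ⟨j, fun hd => hn (hd.trans (orderOf_dvd_of_pow_eq_one ?_))⟩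
  have hj' : x ^ j = ((h ^ n) ^ m)⁻¹ := hj
  rw [(hc.symm.pow_left j).mul_pow, hj', inv_pow, ← pow_mul (h ^ n), mul_comm m n, pow_mul (h ^ n), hm,
    inv_mul_cancel]

/-- Two such elements with the same image are equal. -/
theorem regular_inj {y y' : G} (hy : ¬ r ∣ orderOf y) (hy' : ¬ r ∣ orderOf y') (hc : Commute y x)
    (hz : y⁻¹ * y' ∈ zpowers x) : y = y' := by
  obtain ⟨a, ha⟩ := hp
  have hcz : Commute y (y⁻¹ * y') := by
    obtain ⟨i, hi⟩ := hz
    rw [← hi]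
    exact hc.zpow_right i
  have hz1 : (y⁻¹ * y') ^ (orderOf y * orderOf y') = 1 := by
    have hcy : Commute y⁻¹ y' := by
      have h' : Commute y⁻¹ (y * (y⁻¹ * y')) := ((Commute.refl y).inv_left).mul_right (Commute.inv_left hcz)
      rwa [mul_inv_cancel_left] at h'
    rw [hcy.mul_pow, inv_pow, pow_mul, pow_orderOf_eq_one, one_pow, inv_one, one_mul, mul_comm, pow_mul,
      pow_orderOf_eq_one, one_pow]
  have hd : orderOf (y⁻¹ * y') ∣ r ^ a := ha ▸ orderOf_dvd_of_mem_zpowers hz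
  have hcop : (r ^ a).Coprime (orderOf y * orderOf y') :=
    ((hr.coprime_iff_not_dvd.2 hy).mul_right (hr.coprime_iff_not_dvd.2 hy')).pow_left a
  exact inv_mul_eq_one.1 (orderOf_eq_one_iff.1
    (Nat.eq_one_of_dvd_coprimes hcop hd (orderOf_dvd_of_pow_eq_one hz1)))

variable {E : Subgroup G} {Y : Type u} [Group Y] (f : ↥(E ⊓ centralizer ({x} : Set G)) →* Y)
  (hs : Function.Surjective f) (hk : ∀ h, f h = 1 ↔ (h : G) ∈ zpowers x)

include hk in
theorem regular_orderOf {h : ↥(E ⊓ centralizer ({x} : Set G))} (hh : ¬ r ∣ orderOf (h : G)) :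
    orderOf (f h) = orderOf (h : G) := by
  refine Nat.dvd_antisymm (by rw [Subgroup.orderOf_coe]; exact orderOf_map_dvd f h) (orderOf_dvd_of_pow_eq_one ?_)
  have hm : (h : G) ^ orderOf (f h) ∈ zpowers x := by
    rw [← SubmonoidClass.coe_pow]
    exact (hk _).1 (by rw [map_pow, pow_orderOf_eq_one])
  refine (regular_inj hr hp (y := 1) (y' := (h : G) ^ orderOf (f h))
    (by rw [orderOf_one]; exact hr.not_dvd_one) (fun hd => hh (hd.trans (orderOf_pow_dvd _)))
    (Commute.one_left x) (by rwa [inv_one, one_mul])).symm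

variable [Fintype Y] (hxE : x ∈ E) (hY : ¬ r ∣ Nat.card Y)
include hs hk hxE hY

omit hs in
/-- Every element is a power of `x` times a regular one. -/
theorem exists_regular_lift (h : ↥(E ⊓ centralizer ({x} : Set G))) :
    ∃ h' : ↥(E ⊓ centralizer ({x} : Set G)), ¬ r ∣ orderOf (h' : G) ∧ f h' = f h ∧
      ∃ j : ℕ, (h' : G) = x ^ j * h := by
  have hc : Commute (h : G) x := mem_centralizer_singleton_iff.1 h.2.2
  obtain ⟨j, hj⟩ := exists_regular hr hp hc hY
    (by rw [← SubmonoidClass.coe_pow]; exact (hk _).1 (by rw [map_pow, pow_card_eq_one']))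
  have hxm : x ∈ E ⊓ centralizer ({x} : Set G) := ⟨hxE, mem_centralizer_singleton_iff.2 rfl⟩
  refine ⟨⟨x, hxm⟩ ^ j * h, by rw [coe_mul, SubmonoidClass.coe_pow]; exact hj, ?_, j,
    by rw [coe_mul, SubmonoidClass.coe_pow]⟩
  rw [map_mul, map_pow, (hk ⟨x, hxm⟩).2 (mem_zpowers x), one_pow, one_mul]

open scoped _root_.Classical in
/-- The average over the regular elements is the average over the quotient. -/
theorem regAvg_eq (φ : G → ℂ) (g : Y → ℂ)
    (hφ : ∀ h : ↥(E ⊓ centralizer ({x} : Set G)), ¬ r ∣ orderOf (h : G) → φ h = g (f h)) :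
    regAvg r x E φ = (Nat.card Y : ℂ)⁻¹ * ∑ u : Y, g u := by
  have hcard : Nat.card ↥(E ⊓ centralizer ({x} : Set G)) = Nat.card Y * orderOf x := by
    rw [Subgroup.card_eq_card_quotient_mul_card_subgroup f.ker,
      Nat.card_congr (QuotientGroup.quotientKerEquivOfSurjective f hs).toEquiv, ← Nat.card_zpowers]
    refine congrArg _ (Nat.card_congr (Equiv.ofBijective
      (fun z : f.ker => (⟨_, (hk z).1 z.2⟩ : zpowers x)) ⟨fun z z' e => ?_, ?_⟩))
    · have e' : ((z : ↥(E ⊓ centralizer ({x} : Set G))) : G) =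
          ((z' : ↥(E ⊓ centralizer ({x} : Set G))) : G) := congrArg (fun w : zpowers x => (w : G)) e
      exact Subtype.ext (Subtype.ext e')
    · rintro ⟨z, hz⟩
      have hzm : z ∈ E ⊓ centralizer ({x} : Set G) :=
        ⟨zpowers_le.2 hxE hz, zpowers_le.2 (mem_centralizer_singleton_iff.2 rfl) hz⟩
      exact ⟨⟨⟨z, hzm⟩, (hk ⟨z, hzm⟩).2 hz⟩, rfl⟩
  have hx0 : (orderOf x : ℂ) ≠ 0 := Nat.cast_ne_zero.2 (orderOf_pos x).ne'
  rw [regAvg, hcard, Nat.cast_mul, div_mul_cancel_right₀ hx0, ← Finset.sum_filter]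
  refine congrArg _ (Finset.sum_bij (fun y hy => f ⟨y, (Finset.mem_filter.1 hy).2.1⟩)
    (fun _ _ => Finset.mem_univ _) (fun y hy y' hy' e => ?_) (fun u _ => ?_)
    (fun y hy => hφ ⟨y, (Finset.mem_filter.1 hy).2.1⟩ (Finset.mem_filter.1 hy).2.2))
  · refine regular_inj hr hp (Finset.mem_filter.1 hy).2.2 (Finset.mem_filter.1 hy').2.2
      (mem_centralizer_singleton_iff.1 (Finset.mem_filter.1 hy).2.1.2) ?_
    exact (hk (⟨y, _⟩⁻¹ * ⟨y', _⟩)).1 (by rw [map_mul, map_inv, e, inv_mul_cancel])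
  · obtain ⟨h, rfl⟩ := hs u
    obtain ⟨h', hr', he, -⟩ := exists_regular_lift hr hp f hk hxE hY h
    exact ⟨(h' : G), Finset.mem_filter.2 ⟨Finset.mem_univ _, h'.2, hr'⟩, he⟩

end Cfsg.Lib.Ree.Field.RAdic
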