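import Cfsg.Agent.Ree.Twist.Coords
import Cfsg.Agent.Chars.Clifford

/-!
The section of the involution of a group with `C(t) = ⟨t⟩ × E`, without simplicity: the coordinates and the function
they span, and its restriction to a normal subgroup.
-/

set_option autoImplicit false
set_option linter.style.haveILetI false
set_option linter.unusedSectionVars false

namespace Cfsg.Lib.Ree.Field.RAdic.Sect

open Cfsg Cfsg.Lib.Chars Cfsg.Lib.Blocks
open scoped ComplexConjugate

universe u v

variable {G : Type u} [Group G] [Fintype G] {t : G} {E E₀ : Subgroup G} [Fintype E] {F : Type v} [Field F]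
  [Fintype F] (H : AbCentMax.Hyp t E E₀ F)
include H

theorem mem_C {x : G} : x ∈ Subgroup.centralizer ({t} : Set G) ↔ Commute t x := by
  rw [Subgroup.mem_centralizer_singleton_iff]
  exact ⟨fun h => h.symm, fun h => h.eq.symm⟩

theorem E_le_C : E ≤ Subgroup.centralizer ({t} : Set G) := fun e he => (mem_C H).2 (H.comm e he)

theorem t_mem_C : t ∈ Subgroup.centralizer ({t} : Set G) := (mem_C H).2 (Commute.refl t)

theorem not_dvd {y : E} (hy : Odd (orderOf y)) : ¬ 2 ∣ orderOf (y : G) := by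
  rw [Subgroup.orderOf_coe]
  exact Nat.two_dvd_ne_zero.2 (Nat.odd_iff.1 hy)

theorem split_unique {e e' : G} (he : e ∈ E) (he' : e' ∈ E) : e ≠ t * e' := fun h =>
  H.disj (by rw [show t = e * e'⁻¹ by rw [h]; group]; exact mul_mem he (inv_mem he'))

/-- The centralizer as a product. -/
noncomputable def equivC : Bool × E ≃ Subgroup.centralizer ({t} : Set G) :=
  Equiv.ofBijective (fun w => ⟨(if w.1 then t else 1) * (w.2 : G),
      mul_mem (by cases w.1 <;> simp [(t_mem_C H)]) (E_le_C H w.2.2)⟩)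
    ⟨by
      rintro ⟨b, e⟩ ⟨b', e'⟩ h
      have h' := congrArg Subtype.val h
      dsimp only at h'
      cases b <;> cases b' <;> simp only [Bool.false_eq_true, if_false, if_true, one_mul] at h'
      · exact Prod.ext rfl (Subtype.ext h')
      · exact absurd h' (split_unique H e.2 e'.2)
      · exact absurd h'.symm (split_unique H e'.2 e.2)
      · exact Prod.ext rfl (Subtype.ext (mul_left_cancel h')),
    fun x => by
      obtain ⟨e, he, hxe | hxe⟩ := H.split x ((mem_C H).1 x.2).symm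
      · exact ⟨(false, ⟨e, he⟩), Subtype.ext (by simp [hxe])⟩
      · exact ⟨(true, ⟨e, he⟩), Subtype.ext (by simp [hxe])⟩⟩

/-- Elements of `t E₂'` conjugate in `G` are conjugate only by the centralizer. -/
theorem commute_of_conj {x : G} {y y' : E} (hy : Odd (orderOf y)) (hy' : Odd (orderOf y'))
    (h : x * (t * y) * x⁻¹ = t * y') : Commute t x ∧ x * y * x⁻¹ = (y' : G) := by
  have h1 : IsPPart 2 (t * (y' : G)) (x * t * x⁻¹) := by
    refine ⟨x * (y : G) * x⁻¹, ?_, ?_, ⟨1, ?_⟩, ?_⟩
    · rw [← h]; group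
    · exact (H.comm _ y.2).map (MulAut.conj x).toMonoidHom
    · rw [show x * t * x⁻¹ = MulAut.conj x t from rfl, MulEquiv.orderOf_eq, H.ord, pow_one]
    · rw [show x * (y : G) * x⁻¹ = MulAut.conj x (y : G) from rfl, MulEquiv.orderOf_eq]
      exact not_dvd H hy
  have h2 : IsPPart 2 (t * (y' : G)) t :=
    ⟨(y' : G), rfl, H.comm _ y'.2, ⟨1, by rw [H.ord, pow_one]⟩, not_dvd H hy'⟩
  have hc : Commute t x := (mul_inv_eq_iff_eq_mul.1 (IsPPart.eq Nat.prime_two h1 h2)).symm
  refine ⟨hc, mul_left_cancel (a := t) ?_⟩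
  rw [← h, ← mul_assoc, ← mul_assoc, hc.eq, mul_assoc x t]

open scoped _root_.Classical in
/-- The column product on the section is twice the number of conjugating elements of `E`. -/
theorem sum_columns {y y' : E} (hy : Odd (orderOf y)) (hy' : Odd (orderOf y')) :
    ∑ χ : IrrCharacter G, (χ : G → ℂ) (t * y) * conj ((χ : G → ℂ) (t * y')) =
      2 * ((Finset.univ.filter fun e : E => e * y * e⁻¹ = y').card : ℂ) := by
  have hiff : ∀ c : G, c * (t * y) * c⁻¹ = t * y' ↔
      c ∈ Subgroup.centralizer ({t} : Set G) ∧ c * y * c⁻¹ = (y' : G) := by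
    intro c
    constructor
    · intro h
      obtain ⟨hc, h'⟩ := commute_of_conj H hy hy' h
      exact ⟨(mem_C H).2 hc, h'⟩
    · rintro ⟨hc, h⟩
      rw [← mul_assoc, ← ((mem_C H).1 hc).eq, mul_assoc t, mul_assoc t, h]
  have hcard : (Finset.univ.filter fun c : G => c * (t * y) * c⁻¹ = t * y').card =
      2 * (Finset.univ.filter fun e : E => e * y * e⁻¹ = y').card := by
    rw [← Fintype.card_subtype, ← Fintype.card_subtype, ← Fintype.card_bool, ← Fintype.card_prod]
    refine (Fintype.card_congr (Equiv.ofBijective (fun w : Bool × {e : E // e * y * e⁻¹ = y'} =>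
      (⟨(if w.1 then t else 1) * (w.2.1 : G), (hiff _).2 ⟨(equivC H (w.1, w.2.1)).2, ?_⟩⟩ :
        {c : G // c * (t * y) * c⁻¹ = t * y'})) ⟨?_, ?_⟩)).symm
    · have h := congrArg (Subtype.val : E → G) w.2.2
      simp only [Subgroup.coe_mul, Subgroup.coe_inv] at h
      cases w.1
      · simpa using h
      · simp only [if_true]
        rw [show t * (w.2.1 : G) * y * (t * (w.2.1 : G))⁻¹ = t * ((w.2.1 : G) * y * (w.2.1 : G)⁻¹) * t⁻¹ by group,
          h, (H.comm _ y'.2).eq, mul_inv_cancel_right]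
    · rintro ⟨b, e⟩ ⟨b', e'⟩ h
      have h' := (equivC H).injective (a₁ := (b, e.1)) (a₂ := (b', e'.1))
        (Subtype.ext (by have h1 := congrArg Subtype.val h; exact h1))
      simp only [Prod.mk.injEq] at h'
      exact Prod.ext h'.1 (Subtype.ext h'.2)
    · rintro ⟨c, hc⟩
      obtain ⟨hcC, hcy⟩ := (hiff c).1 hc
      obtain ⟨⟨b, e⟩, he⟩ := (equivC H).surjective ⟨c, hcC⟩
      have hec : (if b then t else 1) * (e : G) = c := congrArg Subtype.val he
      refine ⟨(b, ⟨e, Subtype.ext ?_⟩), Subtype.ext hec⟩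
      simp only [Subgroup.coe_mul, Subgroup.coe_inv]
      rw [← hec] at hcy
      cases b
      · simpa using hcy
      · simp only [if_true] at hcy
        rw [show t * (e : G) * y * (t * (e : G))⁻¹ = t * ((e : G) * y * (e : G)⁻¹) * t⁻¹ by group,
          show (y' : G) = t * y' * t⁻¹ by rw [(H.comm _ y'.2).eq, mul_inv_cancel_right]] at hcy
        exact mul_left_cancel (mul_right_cancel hcy)
  rw [second_orthogonality]
  split_ifs with hconj
  · obtain ⟨x, hx⟩ := isConj_iff.1 hconj
    rw [show (2 : ℂ) = ((2 : ℕ) : ℂ) by norm_num, ← Nat.cast_mul, ← hcard, Nat.cast_inj,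
      ← Fintype.card_subtype, ← Nat.card_eq_fintype_card]
    refine Nat.card_congr
      { toFun := fun c => ⟨x * c.1, ?_⟩
        invFun := fun c => ⟨x⁻¹ * c.1, ?_⟩
        left_inv := fun c => Subtype.ext (inv_mul_cancel_left x c.1)
        right_inv := fun c => Subtype.ext (mul_inv_cancel_left x c.1) }
    · have h := Subgroup.mem_centralizer_singleton_iff.1 c.2
      rw [show x * c.1 * (t * y) * (x * c.1)⁻¹ = x * (c.1 * (t * y)) * c.1⁻¹ * x⁻¹ by group, h,
        show x * (t * y * c.1) * c.1⁻¹ * x⁻¹ = x * (t * y) * x⁻¹ by group, hx]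
    · refine Subgroup.mem_centralizer_singleton_iff.2 ?_
      have h : c.1 * (t * y) * c.1⁻¹ = x * (t * y) * x⁻¹ := c.2.trans hx.symm
      calc x⁻¹ * c.1 * (t * y) = x⁻¹ * (c.1 * (t * y) * c.1⁻¹) * c.1 := by group
        _ = t * y * (x⁻¹ * c.1) := by rw [h]; group
  · rw [Finset.card_eq_zero.2 (Finset.filter_eq_empty_iff.2 fun e _ h => hconj ?_)]
    · simp
    · exact isConj_iff.2 ⟨(e : G), (hiff _).2 ⟨(E_le_C H) e.2, by
        simpa using congrArg (Subtype.val : E → G) h⟩⟩

theorem coord_int {ψ : E → ℂ} (hψ : IsSpecial ψ) (χ : IrrCharacter G) :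
    ∃ z : ℤ, coord t E χ ψ = z := by
  letI := Fintype.ofFinite (Subgroup.centralizer ({t} : Set G))
  obtain ⟨z, hz⟩ := exists_int_expand hψ.2.1
  choose m hm using fun θ : IrrCharacter E => Cfsg.Lib.GW.Chr.exists_int_inner _ (t_mem_C H) H.tt
    (fun w hw => (mem_C H).1 hw) (isCharacter_of_irr χ.2) E (E_le_C H) θ
  refine ⟨∑ θ, z θ * m θ, ?_⟩
  rw [coord, hz, classInner_expand]
  push_cast
  refine Finset.sum_congr rfl fun θ _ => ?_
  rw [← hm θ]
  rfl

theorem coord_apply (ψ : E → ℂ) (χ : IrrCharacter G) :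
    coord t E χ ψ = (Nat.card E : ℂ)⁻¹ * ∑ y : E, (χ : G → ℂ) (t * y) * conj (ψ y) := by
  rw [coord, classInner_def]; rfl

open scoped _root_.Classical in
theorem sum_coord_mul {ψ : E → ℂ} (hψ : IsSpecial ψ) {y' : E} (hy' : Odd (orderOf y')) :
    ∑ χ : IrrCharacter G, coord t E χ ψ * conj ((χ : G → ℂ) (t * y')) = 2 * conj (ψ y') := by
  simp only [coord_apply H, Finset.mul_sum, Finset.sum_mul]
  rw [Finset.sum_comm]
  have h1 : ∀ y : E, ∑ χ : IrrCharacter G,
      (Nat.card E : ℂ)⁻¹ * ((χ : G → ℂ) (t * y) * conj (ψ y)) * conj ((χ : G → ℂ) (t * y')) =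
      (Nat.card E : ℂ)⁻¹ * 2 * ∑ e : E, if e * y * e⁻¹ = y' then conj (ψ y') else 0 := by
    intro y
    by_cases hy : Odd (orderOf y)
    · have e : ∀ χ : IrrCharacter G,
          (Nat.card E : ℂ)⁻¹ * ((χ : G → ℂ) (t * y) * conj (ψ y)) * conj ((χ : G → ℂ) (t * y')) =
            (Nat.card E : ℂ)⁻¹ * conj (ψ y) * ((χ : G → ℂ) (t * y) * conj ((χ : G → ℂ) (t * y'))) :=
        fun χ => by ring
      rw [Finset.sum_congr rfl fun χ _ => e χ, ← Finset.mul_sum,
        sum_columns H hy hy', ← Finset.sum_filter, Finset.sum_const, nsmul_eq_mul]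
      by_cases hne : (Finset.univ.filter fun e : E => e * y * e⁻¹ = y').Nonempty
      · obtain ⟨e, he⟩ := hne
        rw [show ψ y' = ψ y by rw [← (Finset.mem_filter.1 he).2]; exact hψ.1 y e]
        ring
      · rw [Finset.not_nonempty_iff_eq_empty.1 hne]
        simp
    · rw [Finset.sum_congr rfl fun χ _ => show _ = (0 : ℂ) by rw [hψ.2.2 y hy]; simp, Finset.sum_const_zero,
        Finset.sum_eq_zero fun e _ => if_neg fun h => hy ?_, mul_zero]
      rw [← h, ← MulAut.conj_apply, MulEquiv.orderOf_eq] at hy'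
      exact hy'
  rw [Finset.sum_congr rfl fun y _ => h1 y, ← Finset.mul_sum, Finset.sum_comm,
    Finset.sum_congr rfl (g := fun _ => conj (ψ y')) fun e _ => ?_, Finset.sum_const, Finset.card_univ,
    nsmul_eq_mul, ← Nat.card_eq_fintype_card]
  · have : (Nat.card E : ℂ) ≠ 0 := by exact_mod_cast Nat.card_pos.ne'
    field_simp
  · rw [Finset.sum_eq_single (e⁻¹ * y' * e) (fun y _ hy => if_neg fun h => hy (by rw [← h]; group))
      (fun h => absurd (Finset.mem_univ _) h), if_pos (by group)]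

theorem isometry {ψ φ : E → ℂ} (hψ : IsSpecial ψ) (hφ : IsSpecial φ) :
    ∑ χ : IrrCharacter G, coord t E χ ψ * conj (coord t E χ φ) = 2 * classInner ψ φ := by
  have e : ∀ χ : IrrCharacter G, conj (coord t E χ φ) =
      (Nat.card E : ℂ)⁻¹ * ∑ y : E, conj ((χ : G → ℂ) (t * y)) * φ y := fun χ => by
    rw [coord_apply H, map_mul, map_inv₀, map_natCast, map_sum]
    simp only [map_mul, Complex.conj_conj]
  rw [Finset.sum_congr rfl fun χ _ => by rw [e χ, Finset.mul_sum, Finset.mul_sum], Finset.sum_comm,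
    ← conj_classInner_gen hψ.2.1 hφ.2.1, classInner_def, map_mul, map_inv₀, map_natCast, map_sum,
    Finset.mul_sum, Finset.mul_sum]
  refine Finset.sum_congr rfl fun y _ => ?_
  rw [map_mul, Complex.conj_conj]
  by_cases hy : Odd (orderOf y)
  · rw [Finset.sum_congr rfl fun χ _ => show _ = (Nat.card E : ℂ)⁻¹ * φ y *
        (coord t E χ ψ * conj ((χ : G → ℂ) (t * y))) by ring, ← Finset.mul_sum, sum_coord_mul H hψ hy]
    ring
  · rw [hφ.2.2 y hy]; simp

theorem section_sum {ψ : E → ℂ} (hψ : IsSpecial ψ) {y : E} (hy : Odd (orderOf y)) :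
    ∑ χ : IrrCharacter G, coord t E χ ψ * (χ : G → ℂ) (t * (y : G)) = 2 * ψ y := by
  have hy' : Odd (orderOf y⁻¹) := by rwa [orderOf_inv]
  have h := sum_coord_mul H hψ hy'
  rw [conj_apply_gen hψ.2.1, inv_inv] at h
  rw [← h]
  refine Finset.sum_congr rfl fun χ _ => ?_
  rw [← IsCharacter.conj_inv (isCharacter_of_irr χ.2), Subgroup.coe_inv, mul_inv_rev, H.t_inv, inv_inv,
    (H.comm _ y.2).eq]

theorem odd_sum {ψ : E → ℂ} (hψ : IsSpecial ψ) {g : G} (hg : Odd (orderOf g)) :
    ∑ χ : IrrCharacter G, coord t E χ ψ * (χ : G → ℂ) g = 0 := by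
  classical
  simp only [coord_apply H, Finset.mul_sum, Finset.sum_mul]
  rw [Finset.sum_comm]
  refine Finset.sum_eq_zero fun y _ => ?_
  by_cases hy : Odd (orderOf y)
  · have e : ∀ χ : IrrCharacter G,
        (Nat.card E : ℂ)⁻¹ * ((χ : G → ℂ) (t * y) * conj (ψ y)) * (χ : G → ℂ) g =
          (Nat.card E : ℂ)⁻¹ * conj (ψ y) * ((χ : G → ℂ) (t * y) * conj ((χ : G → ℂ) g⁻¹)) := fun χ => by
      rw [← IsCharacter.conj_inv (isCharacter_of_irr χ.2), inv_inv]; ring
    rw [Finset.sum_congr rfl fun χ _ => e χ, ← Finset.mul_sum, second_orthogonality, if_neg, mul_zero]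
    intro h
    obtain ⟨c, hc⟩ := isConj_iff.1 h
    have ho : orderOf (t * (y : G)) = orderOf g := by
      rw [← orderOf_inv g, ← hc, ← MulAut.conj_apply, MulEquiv.orderOf_eq]
    have hmul := (H.comm _ y.2).orderOf_mul_eq_mul_orderOf_of_coprime
      (by rw [H.ord, Subgroup.orderOf_coe]; exact Nat.coprime_two_left.2 hy)
    rw [ho, H.ord] at hmul
    rw [hmul] at hg
    exact (Nat.not_odd_iff_even.2 (even_two_mul _)) hg
  · rw [hψ.2.2 y hy]; simp


/-- The function on the group of a special function. -/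
noncomputable def lift (t : G) (E : Subgroup G) [Fintype E] (ψ : E → ℂ) : G → ℂ :=
  fun g => ∑ χ : IrrCharacter G, coord t E χ ψ * (χ : G → ℂ) g

omit H in
theorem lift_class (ψ : E → ℂ) : IsClassFunction G (lift t E ψ) := fun a h =>
  Finset.sum_congr rfl fun χ _ => by rw [isClassFunction_irr χ a h]

/-- An element of even order is conjugate into the section. -/
theorem exists_section (hconj : ∀ s : G, orderOf s = 2 → IsConj t s)
    (hexp : ∀ u : G, Cfsg.Lib.TwoTimesPSL.IsTwoEl u → u * u = 1) {g : G} (hg : ¬ Odd (orderOf g)) :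
    ∃ (c : G) (y : E), Odd (orderOf y) ∧ c * g * c⁻¹ = t * (y : G) := by
  obtain ⟨u, s, hu, hs, hus, he, -, -⟩ := Cfsg.Lib.TwoTimesPSL.exists_split g
  have hu1 : u ≠ 1 := fun e => hg (by rw [← he, e, one_mul]; exact hs)
  obtain ⟨c, hc⟩ := isConj_iff.1 (hconj u (orderOf_eq_prime (by rw [pow_two]; exact hexp u hu) hu1)).symm
  have hso : Odd (orderOf (c * s * c⁻¹)) := by rwa [← MulAut.conj_apply, MulEquiv.orderOf_eq]
  have hcomm : Commute (c * s * c⁻¹) t := by
    have h := (Commute.conj_iff c).2 hus.symm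
    rwa [hc] at h
  refine ⟨c, ⟨_, H.odd_mem_E hso hcomm⟩, ?_, ?_⟩
  · rwa [← Subgroup.orderOf_coe]
  · show c * g * c⁻¹ = t * (c * s * c⁻¹)
    rw [← hc, ← he]
    group

theorem lift_section {ψ : E → ℂ} (hψ : IsSpecial ψ) {y : E} (hy : Odd (orderOf y)) :
    lift t E ψ (t * (y : G)) = 2 * ψ y := section_sum H hψ hy

theorem lift_odd {ψ : E → ℂ} (hψ : IsSpecial ψ) {g : G} (hg : Odd (orderOf g)) : lift t E ψ g = 0 :=
  odd_sum H hψ hg

section Restrict

variable (M : Subgroup G) [Fintype M] {tM : M} {EM : Subgroup M} [Fintype EM] {F' : Type v} [Field F'] [Fintype F']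
  (HM : AbCentMax.Hyp tM EM EM F') (htM : (tM : G) = t) (hle : ∀ y : EM, ((y : M) : G) ∈ E)

/-- The inclusion of `EM` in `E`. -/
def incl : EM →* E :=
  (M.subtype.comp EM.subtype).codRestrict E hle

omit H in
theorem special_res {ψ : E → ℂ} (hψ : IsSpecial ψ) : IsSpecial (fun y : EM => ψ (incl M hle y)) := by
  obtain ⟨α, β, hα, hβ, e⟩ := hψ.2.1
  refine ⟨fun a h => ?_, ⟨_, _, IsCharacter.comp_hom hα (incl M hle), IsCharacter.comp_hom hβ (incl M hle),
    funext fun y => by simp [e]⟩, fun y hy => hψ.2.2 _ ?_⟩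
  · show ψ (incl M hle (h * a * h⁻¹)) = ψ (incl M hle a)
    rw [map_mul, map_mul, map_inv]
    exact hψ.1 _ _
  · rwa [← Subgroup.orderOf_coe, show ((incl M hle y : E) : G) = ((y : M) : G) from rfl, Subgroup.orderOf_coe,
      Subgroup.orderOf_coe]

include HM htM in
/-- The function of a special function restricts to that of its restriction. -/
theorem lift_res (hconj : ∀ s : M, orderOf s = 2 → IsConj tM s)
    (hexp : ∀ u : M, Cfsg.Lib.TwoTimesPSL.IsTwoEl u → u * u = 1) {ψ : E → ℂ} (hψ : IsSpecial ψ) (m : M) :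
    lift t E ψ (m : G) = lift tM EM (fun y : EM => ψ (incl M hle y)) m := by
  by_cases hm : Odd (orderOf m)
  · rw [lift_odd H hψ (by rwa [Subgroup.orderOf_coe]), lift_odd HM (special_res M hle hψ) hm]
  · obtain ⟨c, y, hy, hc⟩ := exists_section HM hconj hexp hm
    have hy' : Odd (orderOf (incl M hle y)) := by
      rwa [← Subgroup.orderOf_coe, show ((incl M hle y : E) : G) = ((y : M) : G) from rfl, Subgroup.orderOf_coe,
        Subgroup.orderOf_coe]
    have h1 := lift_class (t := t) (E := E) ψ (m : G) (c : G)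
    have h2 := lift_class (t := tM) (E := EM) (fun y : EM => ψ (incl M hle y)) m c
    rw [hc, lift_section HM (special_res M hle hψ) hy] at h2
    rw [show (c : G) * (m : G) * (c : G)⁻¹ = t * ((incl M hle y : E) : G) by
      have := congrArg (Subtype.val : M → G) hc
      push_cast at this
      rw [this, htM]; rfl, lift_section H hψ hy'] at h1
    rw [← h1, ← h2]

include HM htM in
/-- The coordinates of a normal subgroup from those of the group. -/
theorem sum_coord_mult (hconj : ∀ s : M, orderOf s = 2 → IsConj tM s)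
    (hexp : ∀ u : M, Cfsg.Lib.TwoTimesPSL.IsTwoEl u → u * u = 1) {ψ : E → ℂ} (hψ : IsSpecial ψ)
    (θ : IrrCharacter M) :
    ∑ χ : IrrCharacter G, coord t E χ ψ * classInner (fun m : M => (χ : G → ℂ) m) (θ : M → ℂ) =
      coord tM EM θ (fun y : EM => ψ (incl M hle y)) := by
  rw [← classInner_irrSum (fun φ : IrrCharacter M => coord tM EM φ (fun y : EM => ψ (incl M hle y))) θ]
  rw [show (∑ φ : IrrCharacter M, coord tM EM φ (fun y : EM => ψ (incl M hle y)) • (φ : M → ℂ)) =
      ∑ χ : IrrCharacter G, coord t E χ ψ • (fun m : M => (χ : G → ℂ) m) from funext fun m => by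
    simp only [Finset.sum_apply, Pi.smul_apply, smul_eq_mul]
    exact (lift_res H M HM htM hle hconj hexp hψ m).symm, classInner_sum_left]
  exact Finset.sum_congr rfl fun χ _ => by rw [classInner_smul_left]

include HM htM in
/-- They are invariant. -/
theorem coord_conjN [M.Normal] (hconj : ∀ s : M, orderOf s = 2 → IsConj tM s)
    (hexp : ∀ u : M, Cfsg.Lib.TwoTimesPSL.IsTwoEl u → u * u = 1) {ψ : E → ℂ} (hψ : IsSpecial ψ)
    (θ : IrrCharacter M) (g : G) :
    coord tM EM (⟨_, IsIrrCharacter.conjN θ.2 g⟩ : IrrCharacter M) (fun y : EM => ψ (incl M hle y)) =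
      coord tM EM θ (fun y : EM => ψ (incl M hle y)) := by
  rw [← sum_coord_mult H M HM htM hle hconj hexp hψ, ← sum_coord_mult H M HM htM hle hconj hexp hψ]
  exact Finset.sum_congr rfl fun χ _ => congrArg _
    (classInner_restrict_conjN M (isClassFunction_irr χ) θ g)

end Restrict

end Cfsg.Lib.Ree.Field.RAdic.Sect
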