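import Cfsg.Agent.Ree.Field.RAdic.Spec
import Cfsg.Agent.Ree.Twist.Main
import Cfsg.Agent.Ree.Real.Setup

/-!
The group of Ree type `M`: the members of the principal block at the sum of the two long functions of the section.
-/

set_option autoImplicit false
set_option linter.unusedSectionVars false
set_option linter.style.haveILetI false

namespace Cfsg.Lib.Ree.Field.RAdic

open Cfsg Cfsg.Lib.Chars Cfsg.Lib.Blocks
open scoped ComplexConjugate

universe u v

section Table

variable {Y : Type u} [Group Y] [Fintype Y] {Mi : Ideal AlgInt} (K : Twist.KTable Y Mi)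

/-- The indicator of the elements of odd order. -/
noncomputable def oddInd (Y : Type u) [Group Y] : Y → ℂ := fun y => if Odd (orderOf y) then 1 else 0

/-- The sum of the two long functions. -/
theorem al_add_be : K.al + K.be = (3 : ℂ) • K.x + (4 : ℂ) • oddInd Y := by
  funext y
  simp only [Pi.add_apply, Pi.smul_apply, smul_eq_mul, Twist.KTable.x, Twist.KTable.al, Twist.KTable.be,
    Pi.sub_apply]
  have h0 : K.ps 0 y = 1 := congrFun K.ps_zero y
  by_cases hy : Odd (orderOf y)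
  · have hr := K.regular y (Nat.two_dvd_ne_zero.2 (Nat.odd_iff.1 hy))
    rw [Fin.sum_univ_four] at hr
    change K.ps 0 y + K.ps 1 y + K.ps 2 y + K.ps 3 y = 0 at hr
    rw [oddInd, if_pos hy, h0]
    rw [h0] at hr
    linear_combination -hr
  · rw [oddInd, if_neg hy, K.ps_even 0 hy, K.ps_even 1 hy, K.ps_even 2 hy, K.ps_even 3 hy]
    ring

theorem special_sum : IsSpecial (K.al + K.be) := by
  obtain ⟨c1, g1, v1⟩ := K.special_al
  obtain ⟨c2, g2, v2⟩ := K.special_be
  obtain ⟨a, b, ha, hb, e⟩ := g1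
  obtain ⟨a', b', ha', hb', e'⟩ := g2
  refine ⟨fun g h => by simp only [Pi.add_apply]; rw [c1 g h, c2 g h], ⟨a + a', b + b', IsCharacter.add ha ha',
    IsCharacter.add hb hb', by rw [e, e']; funext y; simp only [Pi.add_apply, Pi.sub_apply]; ring⟩, fun y hy => by
    rw [Pi.add_apply, v1 y hy, v2 y hy, add_zero]⟩

end Table

variable {G : Type u} [Group G] [Fintype G] {t : G} {E : Subgroup G} [Fintype E] {F : Type v} [Field F] [Fintype F]

theorem mid_val (C : Real.RCtx t E F) : midVal (signedCard F) = -((Fintype.card F / 2 : ℕ) : ℤ) := by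
  rw [C.signed, midVal]
  have := C.q_mod
  omega

theorem twist_setting (C : Real.RCtx t E F) : Twist.Setting t E E F :=
  ⟨C.D.set.simple, C.D.set.nab, C.D.set.ab, C.D.set.hyp, C.D.set.mod, by have := C.D.set.big; omega⟩

/-- The table of `E` adapted to the data. -/
theorem exists_side (C : Real.RCtx t E F) {Mi : Ideal AlgInt} (hM : IsPModular 2 Mi) :
    ∃ K : Twist.KTable E Mi, K.x = C.D.Tb.x ∧ K.A 1 = (midVal (signedCard F) : ℂ) ∧
      K.B 1 = (midVal (signedCard F) : ℂ) := by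
  classical
  haveI : Fact (Nat.Prime 2) := ⟨Nat.prime_two⟩
  have S := twist_setting C
  obtain ⟨K₀⟩ := S.exists_table hM
  obtain ⟨i, hi⟩ := (K₀.block C.St).1 (C.st_block Mi hM)
  have h27 := C.q_ge
  have h8 := C.q_mod
  have hi0 : i ≠ 0 := fun e => by
    have h := C.st_deg
    rw [← hi, e, K₀.first, PSL.deg_principal] at h
    omega
  set K := K₀.reindex (Equiv.swap 1 i) (Equiv.swap_apply_of_ne_of_ne (by decide) (Ne.symm hi0)) with hK
  have hm1 : K.mem 1 = C.St := by
    show K₀.mem (Equiv.swap 1 i 1) = C.St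
    rw [Equiv.swap_apply_left, hi]
  obtain ⟨P, -, -, -, h4, hexp, -⟩ := S.exists_klein
  have hone : ∀ a b : E, orderOf a = 2 → orderOf b = 2 → IsConj a b := fun a b ha hb => by
    obtain ⟨-, g, hg, hgab⟩ := S.conj_E ha hb
    exact isConj_iff.2 ⟨⟨g, hg⟩, Subtype.ext hgab⟩
  have hcong : (4 : ℤ) ∣ (deg (K.mem 1 : E → ℂ) : ℤ) - K.sg 1 :=
    klein_deg_congr h4 hexp hM hone fun g hg => K.even 1 g hg
  rw [hm1, C.st_deg] at hcong
  have hs1 : K.sg 1 = -1 := by
    rcases mul_self_eq_one_iff.1 (K.sg_sq 1) with e | e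
    · rw [e] at hcong; omega
    · exact e
  have hd : ∀ j : Fin 4, j = 2 ∨ j = 3 → -(K.ps j 1) = (midVal (signedCard F) : ℂ) := fun j hj => by
    have h := congrArg (fun z : ℤ => (z : ℂ)) (S.degrees (fun a ha b hb =>
      mul_mem (mul_mem (mul_mem ha hb) (inv_mem ha)) (inv_mem hb)) hM K (by rw [hm1, C.st_deg])
      (by rw [hs1, if_neg (by omega)]) j hj)
    simp only [Int.cast_mul, Int.cast_natCast, Int.cast_neg] at h
    rw [Twist.KTable.ps, Pi.smul_apply, smul_eq_mul, irr_apply_one_eq_deg, h, neg_neg]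
  refine ⟨K, funext fun y => ?_, hd 2 (Or.inl rfl), hd 3 (Or.inr rfl)⟩
  rw [C.x_eq y, Twist.KTable.x, Pi.sub_apply, congrFun K.ps_zero y, Twist.KTable.ps, Pi.smul_apply, smul_eq_mul,
    hs1, hm1]
  push_cast
  ring

variable (C : Real.RCtx t E F)
include C

theorem mem_cases {χ : IrrCharacter G} (h : χ ∈ C.D.R.L) :
    χ = C.S.o ∨ χ = C.S.e1 ∨ χ = C.S.c5 ∨ χ = C.S.c6 ∨ χ = C.S.c7 ∨ χ = C.S.c8 ∨ χ = C.S.c3 ∨ χ = C.S.c4 := by
  classical
  by_contra hno
  push Not at hno
  obtain ⟨n0, n1, n5, n6, n7, n8, n3, n4⟩ := hno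
  have h1 : 1 ≤ (C.D.R.L.map fun φ => if φ = χ then (1 : ℕ) else 0).sum :=
    List.le_sum_of_mem (List.mem_map.2 ⟨χ, h, if_pos rfl⟩)
  rw [C.S.sum, if_neg n0.symm, if_neg n1.symm, if_neg n5.symm, if_neg n6.symm, if_neg n7.symm, if_neg n8.symm,
    if_neg n3.symm, if_neg n4.symm] at h1
  omega

theorem signed_ne : C.D.d C.S.c5 ≠ C.D.d C.S.c6 ∧ C.D.d C.S.c7 ≠ C.D.d C.S.c8 := by
  obtain ⟨-, w5, -, w7, -, -, -⟩ := C.S.ws
  obtain ⟨-, -, m5, -, m7, -, -, -⟩ := C.S.mem
  obtain ⟨k1, k2, k3⟩ := C.S.cols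
  have c5 := (C.D.d_congr m5).1
  have c7 := (C.D.d_congr m7).1
  rw [w5, mid_val C] at c5
  rw [w7, mid_val C] at c7
  rw [C.d_e1] at k1
  obtain ⟨j, hj⟩ : ∃ j : ℕ, Fintype.card F = 8 * j + 3 := ⟨Fintype.card F / 8, by have := C.q_mod; omega⟩
  rw [hj] at c5 c7 k1
  rw [show (8 * j + 3) / 2 = 4 * j + 1 by omega] at c5 c7
  push_cast at c5 c7 k1
  have hsq : ((8 * (j : ℤ) + 3)) ^ 2 = 64 * ((j : ℤ) * j) + 48 * j + 9 := by ring
  rw [hsq] at k1
  constructor <;> intro e <;> omega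

/-- The seven members other than the principal one are different from it and from each other. -/
theorem members_inj : Function.Injective
      (![C.S.e1, C.S.c3, C.S.c4, C.S.c5, C.S.c6, C.S.c7, C.S.c8] : Fin 7 → IrrCharacter G) ∧
    ∀ i, (![C.S.e1, C.S.c3, C.S.c4, C.S.c5, C.S.c6, C.S.c7, C.S.c8] : Fin 7 → IrrCharacter G) i ≠ C.S.o := by
  classical
  set f : Fin 7 → IrrCharacter G := ![C.S.e1, C.S.c3, C.S.c4, C.S.c5, C.S.c6, C.S.c7, C.S.c8] with hf
  set ind : IrrCharacter G → IrrCharacter G → ℕ := fun χ φ => if φ = χ then 1 else 0 with hind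
  have key : ∀ χ : IrrCharacter G, ind χ C.S.o + ∑ i, ind χ (f i) ≤ 1 := by
    intro χ
    have h1 : (C.D.R.L.map fun φ => ind χ φ).sum ≤ 1 := by
      rw [← List.sum_toFinset _ C.D.R.nodup]
      simp only [hind]
      rw [Finset.sum_ite_eq']
      split_ifs <;> omega
    rw [C.S.sum] at h1
    refine le_of_eq_of_le ?_ h1
    simp only [Fin.sum_univ_seven, f, Matrix.cons_val_zero, Matrix.cons_val_one, Matrix.cons_val]
    omega
  refine ⟨fun i j h => ?_, fun i h => ?_⟩
  · by_contra hne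
    have h2 : ∑ k ∈ ({i, j} : Finset (Fin 7)), ind (f i) (f k) ≤ ∑ k, ind (f i) (f k) :=
      Finset.sum_le_sum_of_subset (Finset.subset_univ _)
    rw [Finset.sum_pair hne] at h2
    have a1 : ind (f i) (f i) = 1 := if_pos rfl
    have a2 : ind (f i) (f j) = 1 := if_pos h.symm
    have := key (f i)
    omega
  · have := key C.S.o
    have h2 := Finset.single_le_sum (f := fun k => ind C.S.o (f k)) (fun k _ => Nat.zero_le _)
      (Finset.mem_univ i)
    have a1 : ind C.S.o C.S.o = 1 := if_pos rfl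
    have a2 : ind C.S.o (f i) = 1 := if_pos h
    omega

variable {Mi : Ideal AlgInt} (hM : IsPModular 2 Mi) (K : Twist.KTable E Mi)
include hM

/-- A character with a coordinate at the sum is a member. -/
theorem mem_of_coord {φ : IrrCharacter G} (h : coord t E φ (K.al + K.be) ≠ 0) : φ ∈ C.D.R.L := by
  classical
  by_contra hn
  obtain ⟨-, SB, -⟩ := sectSpec.{u, v} G t E F C.D.set C.D.Tb Mi hM
  obtain ⟨r1, r2, r3⟩ := C.D.R.rest φ hn
  refine h ?_
  by_cases hb : φ ∈ principalBlock Mi G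
  · rw [coord, classInner_def, Finset.sum_eq_zero, mul_zero]
    intro y _
    by_cases hy : Odd (orderOf y)
    · rw [(SB.inside φ hb).1 y hy, r1, r2, r3]
      simp
    · rw [(special_sum K).2.2 y hy]
      simp
  · have hout := (twist_setting C).coord_outside hM ((twist_setting C).blk_one hM) K hb
    simp only [Twist.twist_one] at hout
    rw [coord, classInner_add_right]
    show coord t E φ K.al + coord t E φ K.be = 0
    rw [hout.2.1, hout.2.2, add_zero]

theorem mem_principal {χ : IrrCharacter G} (hχ : χ ∈ C.D.R.L) : χ ∈ principalBlock Mi G := by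
  by_contra hn
  obtain ⟨-, SB, -⟩ := sectSpec.{u, v} G t E F C.D.set C.D.Tb Mi hM
  obtain ⟨h1, h2, h3⟩ := SB.outside χ hn
  obtain ⟨e1, e2, e3⟩ := C.D.R.coords χ hχ
  have hz : ∀ z : ℤ, ((C.D.R.sg χ * z : ℤ) : ℂ) = 0 → z = 0 := fun z hz => by
    rcases mul_eq_zero.1 (Int.cast_eq_zero.1 hz) with e | e
    · have := C.D.R.sg_sq χ
      rw [e] at this
      norm_num at this
    · exact e
  exact C.D.row_ne hχ (Prod.ext (hz _ (e1 ▸ h1)) (Prod.ext (hz _ (e2 ▸ h2)) (hz _ (e3 ▸ h3))))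

/-- The short members have a coordinate at the sum. -/
theorem coord_short (hx : K.x = C.D.Tb.x) (hA : K.A 1 = (midVal (signedCard F) : ℂ))
    (hB : K.B 1 = (midVal (signedCard F) : ℂ)) {χ : IrrCharacter G}
    (hχ : χ = C.S.c5 ∨ χ = C.S.c6 ∨ χ = C.S.c7 ∨ χ = C.S.c8) : coord t E χ (K.al + K.be) ≠ 0 := by
  obtain ⟨-, -, m5, m6, m7, m8, -, -⟩ := C.S.mem
  obtain ⟨-, -, r5, r6, r7, r8, -, -⟩ := C.S.rows
  obtain ⟨-, w5, w6, w7, w8, -, -⟩ := C.S.ws
  have hmem : χ ∈ C.D.R.L := by rcases hχ with rfl | rfl | rfl | rfl <;> assumption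
  have hr0 : (C.D.R.row χ).1 = 0 := by rcases hχ with rfl | rfl | rfl | rfl <;> simp [r5, r6, r7, r8]
  have hw : C.D.w χ = midVal (signedCard F) := by rcases hχ with rfl | rfl | rfl | rfl <;> assumption
  have h := (twist_setting C).value_inside hM ((twist_setting C).blk_one hM) K (mem_principal C hM hmem) (y := 1)
    (by rw [orderOf_one]; exact odd_one)
  rw [Twist.twist_one, Twist.twist_one, Twist.twist_one, hx, (C.D.R.coords χ hmem).1, hr0, hA, hB,
    OneMemClass.coe_one, mul_one, C.D.value_t hmem, hw, map_one, Units.val_one, one_mul] at h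
  intro h0
  rw [coord, classInner_add_right] at h0
  change coord t E χ K.al + coord t E χ K.be = 0 at h0
  have hm0 : (midVal (signedCard F) : ℂ) ≠ 0 := by
    rw [mid_val C]
    have := C.q_ge
    exact_mod_cast (show (-((Fintype.card F / 2 : ℕ) : ℤ)) ≠ 0 by omega)
  have hs0 : (C.D.R.sg χ : ℂ) ≠ 0 := fun e => by simpa [e] using C.D.sg_c χ
  refine mul_ne_zero hs0 hm0 ?_
  rw [h]
  push_cast
  linear_combination (midVal (signedCard F) : ℂ) * h0

/-- The member of row `(1, 0, 0)` has none. -/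
theorem coord_e1 : coord t E C.S.e1 (K.al + K.be) = 0 := by
  obtain ⟨-, m1, -⟩ := C.S.mem
  obtain ⟨-, r1, -⟩ := C.S.rows
  obtain ⟨e1, -, -⟩ := C.D.R.coords C.S.e1 m1
  have hcoord : ∀ f : E → ℂ, (∀ y : E, ¬ Odd (orderOf y) → f y = 0) →
      coord t E C.S.e1 f = -(C.D.R.sg C.S.e1 : ℂ) * classInner (fun _ => 1) f := fun f hf => by
    rw [← classInner_smul_left, coord, classInner_def, classInner_def]
    refine congrArg _ (Finset.sum_congr rfl fun y _ => ?_)
    by_cases hy : Odd (orderOf y)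
    · congr 1
      show (C.S.e1 : G → ℂ) (t * (y : G)) = -(C.D.R.sg C.S.e1 : ℂ) * 1
      rw [C.D.value m1 hy, r1]
      simp
    · rw [hf y hy]
      simp
  rw [hcoord _ (special_sum K).2.2, classInner_add_right]
  obtain ⟨-, -, -, -, -, -, -, i2, i3⟩ := K.inners
  have j2 : classInner (fun _ : E => (1 : ℂ)) K.al = 0 := by rw [← classInner_conj_symm, i2, map_zero]
  have j3 : classInner (fun _ : E => (1 : ℂ)) K.be = 0 := by rw [← classInner_conj_symm, i3, map_zero]
  rw [j2, j3, add_zero, mul_zero]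

end Cfsg.Lib.Ree.Field.RAdic
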