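import Cfsg.Agent.Ree.Field.Spec

/-!
The interface at the section of `x` for the `r`-adic argument: two characters of `H = C(x)` trivial on `⟨x⟩` that
vanish outside `⟨x⟩ × (r-regular)`, and the function they belong to at the section of `t`; see
`notes/ree_partC_v3.md`.
-/

set_option autoImplicit false
set_option linter.style.haveILetI false

namespace Cfsg.Lib.Ree.Field.RAdic

open Subgroup Cfsg
open scoped ComplexConjugate

universe u

variable {G : Type u} [Group G] [Fintype G] (r : ℕ) (x : G)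

open scoped _root_.Classical in
/-- The average over the `r`-regular elements of `C_E(x)`. -/
noncomputable def regAvg (E : Subgroup G) (f : G → ℂ) : ℂ :=
  (orderOf x : ℂ) / (Nat.card ↥(E ⊓ centralizer ({x} : Set G)) : ℂ) *
    ∑ y : G, if y ∈ E ⊓ centralizer ({x} : Set G) ∧ ¬ r ∣ orderOf y then f y else 0

open scoped _root_.Classical in
/-- A function on `C(x)` as a function on `G`. -/
noncomputable def onG (f : ↥(centralizer ({x} : Set G)) → ℂ) (g : G) : ℂ :=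
  if h : g ∈ centralizer ({x} : Set G) then f ⟨g, h⟩ else 0

open scoped _root_.Classical in
/-- The data on `C(x)`; `xt` is the function `T.x` of `E` as a function on `G`. -/
structure HData (t : G) (E : Subgroup G) (q : ℤ) (xt : G → ℂ) where
  γ : Fin 2 → IrrCharacter ↥(centralizer ({x} : Set G))
  St : IrrCharacter ↥(centralizer ({x} : Set G))
  ε : Fin 2 → ℤ
  εS : ℤ
  sq : ∀ i, ε i * ε i = 1
  kerγ : ∀ (i : Fin 2) (h : ↥(centralizer ({x} : Set G))),
    (γ i : ↥(centralizer ({x} : Set G)) → ℂ) (⟨x, mem_centralizer_singleton_iff.2 rfl⟩ * h) = (γ i : ↥(centralizer ({x} : Set G)) → ℂ) h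
  kerS : ∀ h : ↥(centralizer ({x} : Set G)),
    (St : ↥(centralizer ({x} : Set G)) → ℂ) (⟨x, mem_centralizer_singleton_iff.2 rfl⟩ * h) = (St : ↥(centralizer ({x} : Set G)) → ℂ) h
  van : ∀ (i : Fin 2) (h : ↥(centralizer ({x} : Set G))), (γ i : ↥(centralizer ({x} : Set G)) → ℂ) h ≠ 0 →
    ∃ j : ℕ, ¬ r ∣ orderOf (x ^ j * (h : G))
  one_x : ∀ k : ℕ, k.Coprime r → regAvg r x E (fun y => xt (x ^ k * y)) = -1
  x_x : ∀ k : ℕ, k.Coprime r → regAvg r x E (fun y => xt (x ^ k * y) * conj (xt (x ^ k * y))) = 2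
  pair_x : ∀ (i : Fin 2) (k : ℕ), k.Coprime r →
    regAvg r x E (fun y => xt (x ^ k * y) * conj (onG x (γ i : ↥(centralizer ({x} : Set G)) → ℂ) (t * y))) = ε i
  pair_one : ∀ i : Fin 2, 3 * (ε i : ℂ) + 4 * regAvg r x E
      (fun y => if Odd (orderOf y) then conj (onG x (γ i : ↥(centralizer ({x} : Set G)) → ℂ) (t * y)) else 0) =
    ((![0, 2] : Fin 2 → ℤ) i : ℂ) * ε i
  section_t : ∀ (k : ℕ), k.Coprime r → ∀ (s : ↥(centralizer ({x} : Set G))) (y : G),
    y ∈ E → Commute y x → ¬ r ∣ orderOf y → (s : G) = t * y → Odd (orderOf y) →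
    -1 + (εS : ℂ) * (St : ↥(centralizer ({x} : Set G)) → ℂ) s + ∑ i, (ε i : ℂ) * (γ i : ↥(centralizer ({x} : Set G)) → ℂ) s = 2 * xt (x ^ k * y)
  section_rest : ∀ s : ↥(centralizer ({x} : Set G)), ¬ r ∣ orderOf (s : G) →
    (∀ (g y : G), Commute g x → y ∈ E → Odd (orderOf y) → g * (s : G) * g⁻¹ ≠ t * y) →
    -1 + (εS : ℂ) * (St : ↥(centralizer ({x} : Set G)) → ℂ) s + ∑ i, (ε i : ℂ) * (γ i : ↥(centralizer ({x} : Set G)) → ℂ) s = 0
  unit : ∀ i : Fin 2, ∃ a b : ℤ, ¬ (r : ℤ) ∣ a ∧ ¬ (r : ℤ) ∣ b ∧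
    (invCount x : ℂ) * onG x (γ i : ↥(centralizer ({x} : Set G)) → ℂ) t * a = (Chars.deg (γ i : ↥(centralizer ({x} : Set G)) → ℂ) : ℂ) * b
  deg_St : ¬ r ∣ Chars.deg (St : ↥(centralizer ({x} : Set G)) → ℂ)
  dvd_inv : r ∣ invCount x
  cen_reg : ∀ y ∈ E, Commute y x → ∃ j : ℕ, ¬ r ∣ orderOf (x ^ j * y)
  q_unit : ¬ (r : ℤ) ∣ q ∧ ¬ (r : ℤ) ∣ q ^ 2 - 1

/-- The data exist for `q₁ ≥ 27`. -/
def HSpec : Prop :=
  ∀ (G : Type u) [Group G] [Fintype G] (t : G) (E E₀ : Subgroup G) [Fintype E] (F : Type) [Field F] [Fintype F],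
    JRSetting t E E₀ F → ∀ (M : Ideal AlgInt) (T : Twist.KTable E M), TwistFacts t E E₀ F T →
      ∀ (T' : Sylow 2 G) (r : ℕ) (x : G) (F₁ : Type) [Field F₁] [Fintype F₁],
        FieldElem t E E₀ T' r x → LocalData t E E₀ F r x F₁ → r ≠ 3 → r ∣ invCount x →
        27 ≤ Fintype.card F₁ → Nonempty (HData r x t E (signedCard F) (Function.extend Subtype.val T.x 0))

/-- The argument on `G`, given the data. -/
def CoreSpec : Prop :=
  ∀ (G : Type u) [Group G] [Fintype G] (t : G) (E E₀ : Subgroup G) [Fintype E] (F : Type) [Field F] [Fintype F],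
    JRSetting t E E₀ F → ∀ (M : Ideal AlgInt) (T : Twist.KTable E M), IsPModular 2 M → TwistFacts t E E₀ F T →
      ∀ (T' : Sylow 2 G) (r : ℕ) (x : G) (F₁ : Type) [Field F₁] [Fintype F₁],
        FieldElem t E E₀ T' r x → LocalData t E E₀ F r x F₁ → r ≠ 3 →
        HData r x t E (signedCard F) (Function.extend Subtype.val T.x 0) → False

theorem rAdicSpec_of (hT : TwistSpec.{u}) (hH : HSpec.{u}) (hC : CoreSpec.{u}) : RAdicSpec.{u} := by
  intro G _ _ t E E₀ F _ _ J T' r x F₁ _ _ X L h3 hd h27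
  classical
  letI := Fintype.ofFinite G
  letI := Fintype.ofFinite E
  obtain ⟨M, hM⟩ := Cfsg.Lib.Blocks.exists_isPModular Nat.prime_two
  obtain ⟨T, hTf⟩ := hT G t E E₀ F ⟨J.simple, J.nab, fun S => ⟨⟨fun a b => Subtype.ext (J.ab S a a.2 b b.2)⟩⟩,
    J.hyp, J.mod, J.five⟩ L.abel M hM
  obtain ⟨D⟩ := hH G t E E₀ F J M T hTf T' r x F₁ X L h3 hd h27
  exact hC G t E E₀ F J M T hM hTf T' r x F₁ X L h3 D

end Cfsg.Lib.Ree.Field.RAdic
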