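import Cfsg.Agent.Ree.Field.RAdic.Local
import Cfsg.Agent.Ree.Field.RAdic.Section
import Cfsg.Agent.Ree.Field.RAdic.Side

/-!
The table of `C_E(x)/⟨x⟩` at its character of degree `q`, and the number of involutions of `C(x)/⟨x⟩`.
-/

set_option autoImplicit false
set_option linter.unusedSectionVars false
set_option linter.style.haveILetI false

namespace Cfsg.Lib.Ree.Field.RAdic

open Cfsg Cfsg.Lib.Chars Cfsg.Lib.Blocks
open scoped ComplexConjugate

universe u

variable {G : Type u} [Group G] [Fintype G] {t : G} {E E₀ : Subgroup G} {r : ℕ} {x : G} {L : Type} [Field L]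
  [Fintype L] {X : Type u} [Group X] [Fintype X] (Q : Quot t E E₀ r x L X)

theorem Quot.exp_M (u : Q.M) (hu : Cfsg.Lib.TwoTimesPSL.IsTwoEl u) : u * u = 1 := by
  obtain ⟨k, hk⟩ := hu
  refine Subtype.ext (Q.exp (u : X) ⟨k, ?_⟩)
  rw [← SubmonoidClass.coe_pow, hk, OneMemClass.coe_one]

theorem Quot.conj_M (u : Q.M) (hu : orderOf u = 2) : IsConj Q.tM u := by
  haveI := Fintype.ofFinite Q.M
  haveI := Fintype.ofFinite ((Q.P.img E₀).subgroupOf Q.M)
  exact Q.ree.sectFacts.conj_all u hu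

theorem Quot.hle (y : (Q.P.img E₀).subgroupOf Q.M) : ((y : Q.M) : X) ∈ Q.P.img E :=
  Q.hyp.le (Subgroup.mem_subgroupOf.1 y.2)

/-- The number of involutions. -/
theorem Quot.count_eq [Fintype Q.M] [Fintype ((Q.P.img E₀).subgroupOf Q.M)]
    (C : Real.RCtx Q.tM ((Q.P.img E₀).subgroupOf Q.M) L) :
    (invCount x : ℤ) = (Fintype.card L : ℤ) ^ 2 * ((Fintype.card L : ℤ) ^ 2 - Fintype.card L + 1) := by
  rw [← C.h_eq, Ctx.h, Q.count, ← Twist.count_conj Q.ree.hyp.ord fun u hu => Q.conj_M u hu]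
  exact congrArg Nat.cast (Nat.card_congr
    { toFun := fun u => ⟨⟨u.1, Q.inv u u.2⟩, (Subgroup.orderOf_mk _ _).trans u.2⟩
      invFun := fun u => ⟨u.1.1, (Subgroup.orderOf_coe u.1).trans u.2⟩
      left_inv := fun u => rfl
      right_inv := fun u => rfl })

/-- The table of `C_E(x)/⟨x⟩` with the given character of degree `q`. -/
theorem Quot.exists_table [Fintype Q.M] [Fintype ((Q.P.img E₀).subgroupOf Q.M)] [Fintype (Q.P.img E)]
    (C : Real.RCtx Q.tM ((Q.P.img E₀).subgroupOf Q.M) L) {Mi : Ideal AlgInt} (hM : IsPModular 2 Mi)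
    (θ : IrrCharacter (Q.P.img E)) (hdeg : deg (θ : Q.P.img E → ℂ) = Fintype.card L)
    (hev : ∀ g : Q.P.img E, 2 ∣ orderOf g → (θ : Q.P.img E → ℂ) g = -1) :
    ∃ K : Twist.KTable (Q.P.img E) Mi, K.x = fun y => -(θ : Q.P.img E → ℂ) y - 1 := by
  classical
  haveI : Fact (Nat.Prime 2) := ⟨Nat.prime_two⟩
  have S := twist_setting C
  obtain ⟨P, T', -, hT8, h4, hexp, -⟩ := S.exists_klein
  set f := Sect.incl Q.M Q.hle with hf
  have hfi : Function.Injective f := fun a b h => by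
    have h' : ((f a : Q.P.img E) : X) = ((f b : Q.P.img E) : X) := congrArg Subtype.val h
    exact Subtype.ext (Subtype.ext h')
  set R := ((P : Subgroup ((Q.P.img E₀).subgroupOf Q.M))).map f with hR
  have hRc : Nat.card R = 4 := by rw [hR, Subgroup.card_map_of_injective hfi]; exact h4
  have hnd : ¬ 2 ∣ R.index := by
    intro hd
    have h8 : 8 ∣ Nat.card (Q.P.img E) := by
      rw [← R.card_mul_index, hRc, show (8 : ℕ) = 4 * 2 from rfl]
      exact Nat.mul_dvd_mul_left 4 hd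
    have h16 : 2 ^ 4 ∣ Nat.card X := by
      have hC := Nat.card_congr (Sect.equivC Q.hyp)
      rw [Nat.card_prod, Nat.card_eq_fintype_card (α := Bool), Fintype.card_bool] at hC
      exact (show 2 ^ 4 ∣ 2 * Nat.card (Q.P.img E) from Nat.mul_dvd_mul_left 2 h8).trans
        (hC ▸ Subgroup.card_subgroup_dvd_card _)
    have hM3 : (Nat.card Q.M).factorization 2 = 3 := Nat.pow_right_injective le_rfl (by
      show 2 ^ (Nat.card Q.M).factorization 2 = 2 ^ 3
      rw [← T'.card_eq_multiplicity, hT8])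
    have hX3 := congrArg (fun m : ℕ => m.factorization 2) Q.M.card_mul_index
    simp only [Nat.factorization_mul Nat.card_pos.ne' Subgroup.index_ne_zero_of_finite, Finsupp.add_apply, hM3,
      Nat.factorization_eq_zero_of_not_dvd (Nat.two_dvd_ne_zero.2 (Nat.odd_iff.1 Q.index_odd)), add_zero] at hX3
    have := (Nat.prime_two.pow_dvd_iff_le_factorization Nat.card_pos.ne').1 h16
    omega
  have hinvK : ∀ u : Q.P.img E, orderOf u = 2 → (u : X) ∈ Q.P.img E₀ := fun u hu =>
    Q.inter _ u.2 (Q.inv _ (by rw [Subgroup.orderOf_coe]; exact hu))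
  obtain ⟨K₀⟩ := Twist.exists_ktable hM (P := (P.isPGroup'.map f).toSylow hnd)
    (by rw [IsPGroup.toSylow_coe]; exact hRc) (fun u hu => by
      rw [IsPGroup.toSylow_coe] at hu
      obtain ⟨v, hv, rfl⟩ := hu
      rw [← map_mul, hexp v hv, map_one]) fun a b ha hb => by
      obtain ⟨g, hg, hgab⟩ := Q.hyp.conj (hinvK a ha) (by rw [Subgroup.orderOf_coe, ha]) (hinvK b hb)
        (by rw [Subgroup.orderOf_coe, hb])
      exact isConj_iff.2 ⟨⟨g, Q.hyp.le hg⟩, Subtype.ext hgab⟩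
  obtain ⟨z, hz⟩ := exists_prime_orderOf_dvd_card' (G := Q.P.img E) 2
    ((show 2 ∣ Nat.card R by rw [hRc]; norm_num).trans (Subgroup.card_subgroup_dvd_card R))
  have hc : (-1 : ℂ) ≠ 0 := by norm_num
  obtain ⟨i, hi⟩ := (K₀.block θ).1 (Twist.mem_principal_of_even hM hc hz hev)
  have hi0 : i ≠ 0 := fun e => by
    rw [← hi, e, K₀.first, PSL.deg_principal] at hdeg
    have := C.q_ge
    omega
  set K := K₀.reindex (Equiv.swap 1 i) (Equiv.swap_apply_of_ne_of_ne (by decide) (Ne.symm hi0)) with hK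
  have hm1 : K.mem 1 = θ := by
    show K₀.mem (Equiv.swap 1 i 1) = θ
    rw [Equiv.swap_apply_left, hi]
  have hs1 : (K.sg 1 : ℂ) = -1 := by
    rw [← K.even 1 z (dvd_of_eq hz.symm), hm1]
    exact hev z (dvd_of_eq hz.symm)
  refine ⟨K, funext fun y => ?_⟩
  rw [Twist.KTable.x, Pi.sub_apply, congrFun K.ps_zero y, Twist.KTable.ps, Pi.smul_apply, smul_eq_mul, hs1, hm1]
  ring

end Cfsg.Lib.Ree.Field.RAdic
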