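import Cfsg.Agent.Ree.Field.RAdic.Column

/-!
One character at each level for each of the two columns, with coordinates `(±1, 0)` resp. `(±1, ±2)`.
-/

set_option autoImplicit false
set_option linter.style.haveILetI false
set_option linter.unusedSectionVars false

namespace Cfsg.Lib.Ree.Field.RAdic

open Subgroup Cfsg
open Cfsg.Lib.Chars
open scoped ComplexConjugate
open scoped _root_.Classical

universe u

variable {G : Type u} [Group G] [Fintype G] {E : Subgroup G} [Fintype E] {M : Ideal AlgInt}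

/-- The coordinate at a twist of `T.x`. -/
noncomputable def cX (t : G) (T : Twist.KTable E M) (μ : E →* ℂˣ) (χ : IrrCharacter G) : ℂ :=
  coord t E χ (Twist.twist μ T.x)

/-- The coordinate at a twist of `T.al`. -/
noncomputable def cA (t : G) (T : Twist.KTable E M) (μ : E →* ℂˣ) (χ : IrrCharacter G) : ℂ :=
  coord t E χ (Twist.twist μ T.al)

/-- The coordinate at a twist of `T.be`. -/
noncomputable def cB (t : G) (T : Twist.KTable E M) (μ : E →* ℂˣ) (χ : IrrCharacter G) : ℂ :=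
  coord t E χ (Twist.twist μ T.be)

/-- The linear character used to number the levels. -/
structure Lev (E₀ : Subgroup G) (r : ℕ) (x : G) (hx : x ∈ E) (ν : E →* ℂˣ) : Prop where
  triv : ∀ y : E, (y : G) ∈ E₀ → ν y = 1
  prim : IsPrimitiveRoot (ν ⟨x, hx⟩ : ℂ) (orderOf x)
  reg : ∀ y : E, ¬ r ∣ orderOf y → ν y = 1

variable {r : ℕ} {x t : G} {E₀ : Subgroup G} {F : Type} [Field F] [Fintype F] {T : Twist.KTable E M}

/-- Relations between all conjugates of a sum of roots of unity with integral coefficients. -/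
theorem periodic_of_sum_eq_zero {R r : ℕ} (hR : 0 < R) (hr : 1 < r) (hrR : r ∣ R) {ζ : ℂ}
    (hζ : IsPrimitiveRoot ζ R) (a : ℕ → ℂ)
    (h : ∀ k : ℕ, ¬ r ∣ k → ∑ j ∈ Finset.range R, a j * ζ ^ (j * k) = 0) : a 0 = a (R / r) := by
  obtain ⟨u, rfl⟩ := hrR
  have hu0 : 0 < u := Nat.pos_of_ne_zero fun e => by simp [e] at hR
  rw [Nat.mul_div_cancel_left u (by omega)]
  have hlt : u < r * u := lt_mul_of_one_lt_left hu0 hr
  set η := ζ ^ (r * u - u) with hη
  have hηr : η ^ r = 1 := by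
    rw [hη, ← pow_mul, hζ.pow_eq_one_iff_dvd]
    exact ⟨r - 1, by rw [Nat.sub_mul, Nat.mul_sub, mul_one, mul_comm u r]⟩
  have hgeom : ∀ m : ℕ, ∑ k ∈ Finset.range (r * u), (ζ ^ m) ^ k = if r * u ∣ m then ((r * u : ℕ) : ℂ) else 0 := by
    intro m
    split_ifs with hm
    · rw [(hζ.pow_eq_one_iff_dvd m).2 hm]; simp
    · have h1 : ζ ^ m ≠ 1 := fun e => hm ((hζ.pow_eq_one_iff_dvd m).1 e)
      rw [geom_sum_eq h1, ← pow_mul, mul_comm, pow_mul, hζ.pow_eq_one, one_pow, sub_self, zero_div]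
  have h0 : ∑ k ∈ Finset.range (r * u), (1 - η ^ k) * ∑ j ∈ Finset.range (r * u), a j * ζ ^ (j * k) = 0 := by
    refine Finset.sum_eq_zero fun k _ => ?_
    by_cases hk : r ∣ k
    · obtain ⟨l, rfl⟩ := hk
      rw [pow_mul, hηr, one_pow, sub_self, zero_mul]
    · rw [h k hk, mul_zero]
  have e : ∀ k j : ℕ, (1 - η ^ k) * (a j * ζ ^ (j * k)) = a j * (ζ ^ j) ^ k - a j * (ζ ^ (j + (r * u - u))) ^ k := by
    intro k j
    rw [hη, pow_add, mul_pow, ← pow_mul ζ j k]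
    ring
  simp only [Finset.mul_sum, e] at h0
  rw [Finset.sum_comm] at h0
  simp only [Finset.sum_sub_distrib, ← Finset.mul_sum, hgeom] at h0
  rw [Finset.sum_eq_single 0, Finset.sum_eq_single u, if_pos (dvd_zero _),
    if_pos (show r * u ∣ u + (r * u - u) by rw [Nat.add_sub_cancel' hlt.le]), ← sub_mul] at h0
  · exact sub_eq_zero.1 ((mul_eq_zero.1 h0).resolve_right (Nat.cast_ne_zero.2 hR.ne'))
  · intro j hj hne
    rw [if_neg fun hd => hne ?_, mul_zero]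
    obtain ⟨l, hl⟩ := hd
    have hj' := Finset.mem_range.1 hj
    rcases l with _ | _ | l
    · simp only [Nat.mul_zero] at hl; omega
    · simp only [Nat.zero_add, Nat.mul_one] at hl; omega
    · generalize r * u = n at *
      rw [Nat.mul_add, Nat.mul_add] at hl
      omega
  · intro hn
    exact absurd (Finset.mem_range.2 hlt) hn
  · intro j hj hne
    rw [if_neg fun hd => hne (Nat.eq_zero_of_dvd_of_lt hd (Finset.mem_range.1 hj)), mul_zero]
  · intro hn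
    exact absurd (Finset.mem_range.2 hR) hn

namespace Ctx

variable (C : Ctx t E E₀ F T r x)
include C

theorem cX_int (μ : E →* ℂˣ) (χ : IrrCharacter G) : ∃ z : ℤ, cX t T μ χ = z :=
  C.S.coord_int (Twist.special_twist μ T.special_x) χ

theorem cA_int (μ : E →* ℂˣ) (χ : IrrCharacter G) : ∃ z : ℤ, cA t T μ χ = z :=
  C.S.coord_int (Twist.special_twist μ T.special_al) χ

theorem cB_int (μ : E →* ℂˣ) (χ : IrrCharacter G) : ∃ z : ℤ, cB t T μ χ = z :=
  C.S.coord_int (Twist.special_twist μ T.special_be) χ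

theorem odd_pow_mul {y : G} (hy : y ∈ eReg r x E) (k : ℕ) : Odd (orderOf (x ^ k * y)) ↔ Odd (orderOf y) := by
  obtain ⟨-, hc, hr⟩ := (mem_eReg r x).1 hy
  have hcop : (orderOf (x ^ k)).Coprime (orderOf y) :=
    (C.coprime_of_not_dvd hr).coprime_dvd_left (orderOf_pow_dvd k)
  rw [(hc.symm.pow_left k).orderOf_mul_eq_mul_orderOf_of_coprime hcop, Nat.odd_mul]
  exact ⟨fun h => h.2, fun h => ⟨C.odd_R.of_dvd_nat (orderOf_pow_dvd k), h⟩⟩

theorem ext_twist {ν : E →* ℂˣ} (hν : Lev E₀ r x C.mem ν) (j k : ℕ) (ψ : E → ℂ) {y : G}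
    (hy : y ∈ eReg r x E) :
    extFun E (Twist.twist (ν ^ j) ψ) (x ^ k * y) =
      (ν ⟨x, C.mem⟩ : ℂ) ^ (j * k) * extFun E ψ (x ^ k * y) := by
  obtain ⟨h1, -, h3⟩ := (mem_eReg r x).1 hy
  have hm : x ^ k * y ∈ E := mul_mem (pow_mem C.mem _) h1
  rw [extFun_mk _ _ hm, extFun_mk _ _ hm]
  have e : (⟨x ^ k * y, hm⟩ : E) = ⟨x, C.mem⟩ ^ k * ⟨y, h1⟩ := Subtype.ext (by simp)
  show ((ν ^ j) ⟨x ^ k * y, hm⟩ : ℂ) * ψ ⟨x ^ k * y, hm⟩ = _
  congr 1
  rw [e, MonoidHom.pow_apply, map_mul, map_pow, hν.reg ⟨y, h1⟩ (by rw [← Subgroup.orderOf_coe]; exact h3),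
    mul_one, Units.val_pow_eq_pow_val, Units.val_pow_eq_pow_val, ← pow_mul, mul_comm k j]

theorem regAvg_twist {ν : E →* ℂˣ} (hν : Lev E₀ r x C.mem ν) (j k : ℕ) (ψ : E → ℂ) (f : G → ℂ) :
    regAvg r x E (fun y => extFun E (Twist.twist (ν ^ j) ψ) (x ^ k * y) * f y) =
      (ν ⟨x, C.mem⟩ : ℂ) ^ (j * k) * regAvg r x E fun y => extFun E ψ (x ^ k * y) * f y := by
  rw [regAvg_eq_sum, regAvg_eq_sum]
  simp only [Finset.mul_sum]
  exact Finset.sum_congr rfl fun y hy => by rw [C.ext_twist hν j k ψ hy]; ring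

theorem al_add_be {y : G} (hy : y ∈ eReg r x E) (k : ℕ) :
    extFun E T.al (x ^ k * y) + extFun E T.be (x ^ k * y) =
      3 * extFun E T.x (x ^ k * y) + if Odd (orderOf y) then 4 else 0 := by
  obtain ⟨h1, -, -⟩ := (mem_eReg r x).1 hy
  have hm : x ^ k * y ∈ E := mul_mem (pow_mem C.mem _) h1
  have hiff : Odd (orderOf (⟨x ^ k * y, hm⟩ : E)) ↔ Odd (orderOf y) := by
    rw [← Subgroup.orderOf_coe]; exact C.odd_pow_mul hy k
  rw [extFun_mk _ _ hm, extFun_mk _ _ hm, extFun_mk _ _ hm]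
  split_ifs with ho
  · have hs := T.regular ⟨x ^ k * y, hm⟩ (Nat.two_dvd_ne_zero.2 (Nat.odd_iff.1 (hiff.2 ho)))
    rw [Fin.sum_univ_four] at hs
    change T.ps 0 _ + T.ps 1 _ + T.ps 2 _ + T.ps 3 _ = 0 at hs
    simp only [Twist.KTable.al, Twist.KTable.be, Twist.KTable.x, Pi.sub_apply]
    rw [congrFun T.ps_zero ⟨x ^ k * y, hm⟩] at hs ⊢
    linear_combination -hs
  · have ho' : ¬ Odd (orderOf (⟨x ^ k * y, hm⟩ : E)) := fun h => ho (hiff.1 h)
    rw [T.special_al.2.2 _ ho', T.special_be.2.2 _ ho', T.special_x.2.2 _ ho']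
    simp

variable (D : HData r x t E (signedCard F) (Function.extend Subtype.val T.x 0))
include D

theorem col_cX {ν : E →* ℂˣ} (hν : Lev E₀ r x C.mem ν) (i : Fin 2) (j : ℕ) {k : ℕ} (hk : k.Coprime r) :
    ∑ χ : IrrCharacter G, col r x (D.γ i : CH x → ℂ) (χ : G → ℂ) k * cX t T (ν ^ j) χ =
      (ν ⟨x, C.mem⟩ : ℂ) ^ (j * k) * (D.ε i : ℂ) := by
  have h := C.col_coord hk (isClassFunction_irr (D.γ i)) (Twist.special_twist (ν ^ j) T.special_x)
  rw [C.regAvg_twist hν j k, show regAvg r x E (fun y => extFun E T.x (x ^ k * y) *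
    conj (onG x (D.γ i : CH x → ℂ) (t * y))) = (D.ε i : ℂ) from D.pair_x i k hk] at h
  rw [← h]
  refine Finset.sum_congr rfl fun χ _ => ?_
  obtain ⟨z, hz⟩ := C.cX_int (ν ^ j) χ
  change _ = _ * conj (cX t T (ν ^ j) χ)
  rw [hz, map_intCast]

theorem col_cW {ν : E →* ℂˣ} (hν : Lev E₀ r x C.mem ν) (i : Fin 2) (j : ℕ) {k : ℕ} (hk : k.Coprime r) :
    ∑ χ : IrrCharacter G, col r x (D.γ i : CH x → ℂ) (χ : G → ℂ) k * (cA t T (ν ^ j) χ + cB t T (ν ^ j) χ) =
      (ν ⟨x, C.mem⟩ : ℂ) ^ (j * k) * (((![0, 2] : Fin 2 → ℤ) i : ℂ) * (D.ε i : ℂ)) := by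
  set f : G → ℂ := fun y => conj (onG x (D.γ i : CH x → ℂ) (t * y)) with hf
  have ha := C.col_coord hk (isClassFunction_irr (D.γ i)) (Twist.special_twist (ν ^ j) T.special_al)
  have hb := C.col_coord hk (isClassFunction_irr (D.γ i)) (Twist.special_twist (ν ^ j) T.special_be)
  rw [C.regAvg_twist hν j k] at ha hb
  have hsum : regAvg r x E (fun y => extFun E T.al (x ^ k * y) * f y) +
      regAvg r x E (fun y => extFun E T.be (x ^ k * y) * f y) = ((![0, 2] : Fin 2 → ℤ) i : ℂ) * (D.ε i : ℂ) := by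
    rw [← D.pair_one i, ← D.pair_x i k hk, regAvg_eq_sum, regAvg_eq_sum, regAvg_eq_sum, regAvg_eq_sum]
    simp only [Finset.mul_sum, ← Finset.sum_add_distrib]
    refine Finset.sum_congr rfl fun y hy => ?_
    have h := C.al_add_be hy k
    change _ = 3 * (_ * (extFun E T.x (x ^ k * y) * f y)) + 4 * (_ * if Odd (orderOf y) then f y else 0)
    split_ifs at h ⊢ with ho <;>
      linear_combination ((orderOf x : ℂ) / (Nat.card ↥(E ⊓ centralizer ({x} : Set G)) : ℂ) * f y) * h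
  rw [← hsum, mul_add, ← ha, ← hb, ← Finset.sum_add_distrib]
  refine Finset.sum_congr rfl fun χ _ => ?_
  obtain ⟨z, hz⟩ := C.cA_int (ν ^ j) χ
  obtain ⟨w, hw⟩ := C.cB_int (ν ^ j) χ
  change _ = _ * conj (cA t T (ν ^ j) χ) + _ * conj (cB t T (ν ^ j) χ)
  rw [hz, hw, map_intCast, map_intCast]
  ring

theorem col_zero_iff (i : Fin 2) (χ : IrrCharacter G) {k : ℕ} (hk : k.Coprime r) :
    col r x (D.γ i : CH x → ℂ) (χ : G → ℂ) k = 0 ↔ col r x (D.γ i : CH x → ℂ) (χ : G → ℂ) 1 = 0 := by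
  obtain ⟨z, hz⟩ := C.col_expand (D.γ i) (D.kerγ i) (D.van i) χ
  haveI : NeZero (orderOf x) := ⟨(orderOf_pos x).ne'⟩
  obtain ⟨σ, hσ⟩ := exists_galConj_auto (m := orderOf x) (C.coprime_pow hk)
  have e : σ (col r x (D.γ i : CH x → ℂ) (χ : G → ℂ) 1) = col r x (D.γ i : CH x → ℂ) (χ : G → ℂ) k := by
    rw [hz, hz, map_sum]
    refine Finset.sum_congr rfl fun θ _ => ?_
    rw [map_mul, map_intCast, pow_one, hσ _ (C.rpow_one θ)]
  rw [← e, map_eq_zero]

theorem col_mass [NeZero (orderOf x)] (i : Fin 2) (χ : IrrCharacter G) (h : col r x (D.γ i : CH x → ℂ) (χ : G → ℂ) 1 ≠ 0) :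
    (Fintype.card (ZMod (orderOf x))ˣ : ℝ) ≤
      ∑ k : (ZMod (orderOf x))ˣ, ‖col r x (D.γ i : CH x → ℂ) (χ : G → ℂ) (k : ZMod (orderOf x)).val‖ ^ 2 := by
  obtain ⟨z, hz⟩ := C.col_expand (D.γ i) (D.kerγ i) (D.van i) χ
  have hne : ∀ k : (ZMod (orderOf x))ˣ, col r x (D.γ i : CH x → ℂ) (χ : G → ℂ) (k : ZMod (orderOf x)).val ≠ 0 :=
    fun k e => h ((C.col_zero_iff D i χ ((ZMod.val_coe_unit_coprime k).coprime_dvd_right C.dvd_R)).1 e)
  simp only [hz] at hne ⊢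
  exact Cfsg.Lib.Blocks.card_units_le_sum_norm_sq_roots Finset.univ z _ (fun θ => C.rpow_one θ) hne

/-- The twins. -/
theorem exists_twins {ν : E →* ℂˣ} (hν : Lev E₀ r x C.mem ν) (i : Fin 2) :
    ∃ X : ℕ → IrrCharacter G,
      (∀ j < orderOf x, cX t T (ν ^ j) (X j) * cX t T (ν ^ j) (X j) = 1 ∧
        cA t T (ν ^ j) (X j) + cB t T (ν ^ j) (X j) = ((![0, 2] : Fin 2 → ℤ) i : ℂ) * cX t T (ν ^ j) (X j) ∧
        ∀ k : ℕ, k.Coprime r → col r x (D.γ i : CH x → ℂ) (X j : G → ℂ) k =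
          (D.ε i : ℂ) * (ν ⟨x, C.mem⟩ : ℂ) ^ (j * k) * cX t T (ν ^ j) (X j)) ∧
      ∀ χ, (∀ j < orderOf x, χ ≠ X j) → ∀ k : ℕ, k.Coprime r → col r x (D.γ i : CH x → ℂ) (χ : G → ℂ) k = 0 := by
  haveI : NeZero (orderOf x) := ⟨(orderOf_pos x).ne'⟩
  set R := orderOf x
  set ζ : ℂ := (ν ⟨x, C.mem⟩ : ℂ) with hζ
  have hζ0 : ζ ≠ 0 := Units.ne_zero _
  have hε : (D.ε i : ℂ) * (D.ε i : ℂ) = 1 := by exact_mod_cast D.sq i
  have hex : ∀ j : ℕ, ∃ χ : IrrCharacter G,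
      col r x (D.γ i : CH x → ℂ) (χ : G → ℂ) 1 ≠ 0 ∧ cX t T (ν ^ j) χ ≠ 0 := by
    intro j
    by_contra hc
    push Not at hc
    have h := C.col_cX D hν i j (Nat.coprime_one_left r)
    rw [Finset.sum_eq_zero fun χ _ => ?_] at h
    · exact mul_ne_zero (pow_ne_zero _ hζ0) (fun e => by rw [e, zero_mul] at hε; exact zero_ne_one hε) h.symm
    · by_cases h1 : col r x (D.γ i : CH x → ℂ) (χ : G → ℂ) 1 = 0
      · rw [h1, zero_mul]
      · rw [hc χ h1, mul_zero]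
  choose X hX1 hX2 using hex
  have hpow : ∀ j : ℕ, ∀ y : E, (y : G) ∈ E₀ → (ν ^ j) y = 1 := fun j y hy => by
    rw [MonoidHom.pow_apply, hν.triv y hy, one_pow]
  have hne : ∀ j < R, ∀ j' < R, j ≠ j' → ν ^ j ≠ ν ^ j' := fun j hj j' hj' hne e => hne (hν.prim.pow_inj hj hj' (by
    have h := congrArg Units.val (DFunLike.congr_fun e (⟨x, C.mem⟩ : E))
    simpa using h))
  have hsep : ∀ j < R, ∀ j' < R, j ≠ j' → cX t T (ν ^ j) (X j') = 0 := fun j hj j' hj' hjj =>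
    ((C.tw.sep (ν ^ j') (hpow j') (X j') (Or.inl (hX2 j'))).2 (ν ^ j) (hpow j) (hne j hj j' hj' hjj)).1
  have hinj : Set.InjOn X (Set.Iio R) := fun j hj j' hj' e => by
    by_contra hjj
    exact hX2 j (by rw [e]; exact hsep j hj j' hj' hjj)
  set S := Finset.univ.filter fun χ : IrrCharacter G => col r x (D.γ i : CH x → ℂ) (χ : G → ℂ) 1 ≠ 0 with hS
  set N : IrrCharacter G → ℝ := fun χ =>
    ∑ k : (ZMod R)ˣ, ‖col r x (D.γ i : CH x → ℂ) (χ : G → ℂ) (k : ZMod R).val‖ ^ 2 with hN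
  set φ : ℝ := (Fintype.card (ZMod R)ˣ : ℝ) with hφ
  have hφ0 : 0 < φ := Nat.cast_pos.2 Fintype.card_pos
  have htot : ∑ χ : IrrCharacter G, N χ = φ * R := by
    rw [hN, Finset.sum_comm, Finset.sum_congr rfl fun k _ => ?_, Finset.sum_const, Finset.card_univ, nsmul_eq_mul]
    have h := C.col_norm ((ZMod.val_coe_unit_coprime k).coprime_dvd_right C.dvd_R) (D.γ i) (D.kerγ i) (D.van i)
    simp only [Complex.mul_conj', ← Complex.ofReal_pow, ← Complex.ofReal_sum] at h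
    exact_mod_cast h
  have hN0 : ∀ χ, χ ∉ S → N χ = 0 := by
    intro χ hχ
    refine Finset.sum_eq_zero fun k _ => ?_
    have h1 : col r x (D.γ i : CH x → ℂ) (χ : G → ℂ) 1 = 0 := by
      by_contra h
      exact hχ (Finset.mem_filter.2 ⟨Finset.mem_univ _, h⟩)
    rw [(C.col_zero_iff D i χ ((ZMod.val_coe_unit_coprime k).coprime_dvd_right C.dvd_R)).2 h1]
    simp
  have himg : (Finset.range R).image X ⊆ S := fun χ hχ => by
    obtain ⟨j, -, rfl⟩ := Finset.mem_image.1 hχ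
    exact Finset.mem_filter.2 ⟨Finset.mem_univ _, hX1 j⟩
  have hcard : ((Finset.range R).image X).card = R := by
    rw [Finset.card_image_of_injOn (by simpa using hinj), Finset.card_range]
  have hge : ∀ χ ∈ S, φ ≤ N χ := fun χ hχ => C.col_mass D i χ (Finset.mem_filter.1 hχ).2
  have htotS : ∑ χ ∈ S, N χ = φ * R := by
    rw [← htot]
    exact Finset.sum_subset (Finset.subset_univ _) fun χ _ hχ => hN0 χ hχ
  have hSeq : S = (Finset.range R).image X := by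
    refine (Finset.eq_of_subset_of_card_le himg ?_).symm
    have h1 : (S.card : ℝ) * φ ≤ φ * R := by
      rw [← htotS, ← nsmul_eq_mul, ← Finset.sum_const]
      exact Finset.sum_le_sum hge
    rw [hcard]
    exact_mod_cast le_of_mul_le_mul_right (h1.trans_eq (mul_comm _ _)) hφ0
  have hNeq : ∀ χ ∈ S, N χ = φ := by
    have h1 : ∑ χ ∈ S, (N χ - φ) = 0 := by
      rw [Finset.sum_sub_distrib, htotS, Finset.sum_const, nsmul_eq_mul, hSeq, hcard]; ring
    intro χ hχ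
    exact sub_eq_zero.1 ((Finset.sum_eq_zero_iff_of_nonneg fun a ha => sub_nonneg.2 (hge a ha)).1 h1 χ hχ)
  have hzero : ∀ χ, (∀ j < R, χ ≠ X j) → ∀ k : ℕ, k.Coprime r → col r x (D.γ i : CH x → ℂ) (χ : G → ℂ) k = 0 := by
    intro χ hχ k hk
    refine (C.col_zero_iff D i χ hk).2 (by_contra fun h => ?_)
    have : χ ∈ S := Finset.mem_filter.2 ⟨Finset.mem_univ _, h⟩
    rw [hSeq] at this
    obtain ⟨j, hj, e⟩ := Finset.mem_image.1 this
    exact hχ j (Finset.mem_range.1 hj) e.symm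
  have honly : ∀ j < R, ∀ k : ℕ, k.Coprime r → ∀ f : IrrCharacter G → ℂ,
      (∀ j' < R, j' ≠ j → f (X j') = 0) →
      ∑ χ : IrrCharacter G, col r x (D.γ i : CH x → ℂ) (χ : G → ℂ) k * f χ =
        col r x (D.γ i : CH x → ℂ) (X j : G → ℂ) k * f (X j) := by
    intro j hj k hk f hf
    refine Finset.sum_eq_single (X j) (fun χ _ hne => ?_) fun h => absurd (Finset.mem_univ _) h
    by_cases h : ∀ j' < R, χ ≠ X j'
    · rw [hzero χ h k hk, zero_mul]
    · push Not at h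
      obtain ⟨j', hj', rfl⟩ := h
      rw [hf j' hj' fun e => hne (by rw [e]), mul_zero]
  refine ⟨X, fun j hj => ?_, hzero⟩
  set c := cX t T (ν ^ j) (X j) with hc
  have hval : ∀ k : ℕ, k.Coprime r →
      col r x (D.γ i : CH x → ℂ) (X j : G → ℂ) k * c = ζ ^ (j * k) * (D.ε i : ℂ) := fun k hk => by
    rw [hc, ← honly j hj k hk _ fun j' hj' hjj => hsep j hj j' hj' (Ne.symm hjj)]
    exact C.col_cX D hν i j hk
  have hcc : c * c = 1 := by
    obtain ⟨z, hz⟩ := C.cX_int (ν ^ j) (X j)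
    have hz' : c = (z : ℂ) := hz
    have hn : ∀ k : (ZMod R)ˣ,
        ‖col r x (D.γ i : CH x → ℂ) (X j : G → ℂ) (k : ZMod R).val‖ ^ 2 * (z : ℝ) ^ 2 = 1 := by
      intro k
      have h := hval _ ((ZMod.val_coe_unit_coprime k).coprime_dvd_right C.dvd_R)
      have h2 := congrArg (fun w : ℂ => ‖w‖ ^ 2) h
      simp only [norm_mul, norm_pow, hz', Complex.norm_intCast, mul_pow, sq_abs] at h2
      rw [hν.prim.norm'_eq_one (orderOf_pos x).ne', one_pow, one_pow, one_mul] at h2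
      rw [h2]
      have := D.sq i
      exact_mod_cast (by rw [pow_two]; exact this : (D.ε i) ^ 2 = 1)
    have h1 : N (X j) * (z : ℝ) ^ 2 = φ := by
      rw [hN, Finset.sum_mul, Finset.sum_congr rfl fun k _ => hn k, Finset.sum_const, Finset.card_univ, nsmul_eq_mul,
        mul_one]
    rw [hNeq _ (himg (Finset.mem_image_of_mem X (Finset.mem_range.2 hj)))] at h1
    have h2 : (z : ℝ) ^ 2 = 1 := mul_left_cancel₀ hφ0.ne' (h1.trans (mul_one φ).symm)
    rw [hz', ← Int.cast_mul, ← pow_two, show z ^ 2 = 1 by exact_mod_cast h2, Int.cast_one]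
  have hcolv : ∀ k : ℕ, k.Coprime r →
      col r x (D.γ i : CH x → ℂ) (X j : G → ℂ) k = (D.ε i : ℂ) * ζ ^ (j * k) * c := fun k hk => by
    linear_combination c * hval k hk - col r x (D.γ i : CH x → ℂ) (X j : G → ℂ) k * hcc
  refine ⟨hcc, ?_, hcolv⟩
  have h := C.col_cW D hν i j (Nat.coprime_one_left r)
  rw [honly j hj 1 (Nat.coprime_one_left r) _ fun j' hj' hjj => ?_, hcolv 1 (Nat.coprime_one_left r)] at h
  · have hne1 : (D.ε i : ℂ) * ζ ^ (j * 1) ≠ 0 :=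
      mul_ne_zero (fun e => by rw [e, zero_mul] at hε; exact zero_ne_one hε) (pow_ne_zero _ hζ0)
    refine mul_left_cancel₀ hne1 ?_
    linear_combination c * h - (D.ε i : ℂ) * ζ ^ (j * 1) * (cA t T (ν ^ j) (X j) + cB t T (ν ^ j) (X j)) * hcc
  · obtain ⟨-, h2, h3⟩ :=
      (C.tw.sep (ν ^ j') (hpow j') (X j') (Or.inl (hX2 j'))).2 (ν ^ j) (hpow j) (hne j hj j' hj' (Ne.symm hjj))
    rw [cA, cB, h2, h3, add_zero]

/-- The signed degree is the same at level `0` and at level `R / r`. -/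
theorem twins_degree {ν : E →* ℂˣ} (hν : Lev E₀ r x C.mem ν) (i : Fin 2) (X : ℕ → IrrCharacter G)
    (hX : ∀ j < orderOf x, cX t T (ν ^ j) (X j) * cX t T (ν ^ j) (X j) = 1 ∧
        cA t T (ν ^ j) (X j) + cB t T (ν ^ j) (X j) = ((![0, 2] : Fin 2 → ℤ) i : ℂ) * cX t T (ν ^ j) (X j) ∧
        ∀ k : ℕ, k.Coprime r → col r x (D.γ i : CH x → ℂ) (X j : G → ℂ) k =
          (D.ε i : ℂ) * (ν ⟨x, C.mem⟩ : ℂ) ^ (j * k) * cX t T (ν ^ j) (X j))
    (hzero : ∀ χ, (∀ j < orderOf x, χ ≠ X j) → ∀ k : ℕ, k.Coprime r →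
      col r x (D.γ i : CH x → ℂ) (χ : G → ℂ) k = 0) :
    cX t T (ν ^ 0) (X 0) * (X 0 : G → ℂ) 1 =
      cX t T (ν ^ (orderOf x / r)) (X (orderOf x / r)) * (X (orderOf x / r) : G → ℂ) 1 := by
  set R := orderOf x
  have hinj : Set.InjOn X (Set.Iio R) := by
    intro j hj j' hj' e
    by_contra hjj
    have hpow : ∀ j : ℕ, ∀ y : E, (y : G) ∈ E₀ → (ν ^ j) y = 1 := fun j y hy => by
      rw [MonoidHom.pow_apply, hν.triv y hy, one_pow]
    have hne : ν ^ j ≠ ν ^ j' := fun e' => hjj (hν.prim.pow_inj hj hj' (by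
      simpa using congrArg Units.val (DFunLike.congr_fun e' (⟨x, C.mem⟩ : E))))
    have h0 : cX t T (ν ^ j') (X j') ≠ 0 := fun e0 => by simpa [e0] using (hX j' hj').1
    have h := ((C.tw.sep (ν ^ j') (hpow j') (X j') (Or.inl h0)).2 (ν ^ j) (hpow j) hne).1
    rw [← e] at h
    have := (hX j hj).1
    rw [show cX t T (ν ^ j) (X j) = 0 from h, zero_mul] at this
    exact zero_ne_one this
  refine periodic_of_sum_eq_zero (a := fun j => cX t T (ν ^ j) (X j) * (X j : G → ℂ) 1) (orderOf_pos x)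
    C.prime.one_lt C.dvd_R hν.prim fun k hk => ?_
  have hk' : k.Coprime r := (C.prime.coprime_iff_not_dvd.2 hk).symm
  have h := C.col_one hk' (D.γ i : CH x → ℂ)
  rw [← Finset.sum_subset (Finset.subset_univ ((Finset.range R).image X)) fun χ _ hχ => ?_,
    Finset.sum_image (by simpa using hinj)] at h
  · have hε : (D.ε i : ℂ) ≠ 0 := fun e => by
      have : (D.ε i : ℂ) * (D.ε i : ℂ) = 1 := by exact_mod_cast D.sq i
      rw [e, zero_mul] at this
      exact zero_ne_one this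
    refine (mul_eq_zero.1 ?_).resolve_left hε
    rw [← h, Finset.mul_sum]
    exact Finset.sum_congr rfl fun j hj => by rw [(hX j (Finset.mem_range.1 hj)).2.2 k hk']; ring
  · rw [hzero χ (fun j hj e => hχ (Finset.mem_image.2 ⟨j, Finset.mem_range.2 hj, e.symm⟩)) k hk', zero_mul]

end Ctx

end Cfsg.Lib.Ree.Field.RAdic
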